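import Cfsg.Agent.Lib.Fusion.System.RankThree.Tools
import Cfsg.Agent.Lib.Fusion.Sylow
import Cfsg.Agent.Lib.PGroup.MetacyclicOmega
import Cfsg.Agent.Lib.MaxClassEss.Frattini
import Cfsg.Agent.Lib.PGroup.MaxClassCubeLayer
import Cfsg.Agent.Lib.Coprime.Solvable
import Cfsg.Prelude.Def_FusionSystem
import Mathlib.GroupTheory.Sylow

/-!
# Normal subgroups of index `p` with automizers, for `p` odd

The data of a normal subgroup `E` of index `p` of a finite `p`-group `G` of sectional rank at most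
three together with a group `X` of automorphisms of `E` that induces the conjugations by `G` as a
Sylow `p`-subgroup and has no other normal `p`-subgroup than inner automorphisms.
-/

set_option autoImplicit false
set_option linter.style.haveILetI false
set_option linter.unusedSectionVars false

open Subgroup
open scoped commutatorElement

namespace CfsgLib.Fusion.IndexFamily

open CfsgLib.Fusion.RankThree (card_le_of_section le_of_le_sup_commutator)

universe u

variable {G : Type u} [Group G] [Finite G] {p : ℕ} [Fact p.Prime]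

/-- The data of one subgroup. -/
structure Piv (p : ℕ) {G : Type u} [Group G] (E : Subgroup G) [E.Normal] (X : Subgroup (MulAut E))
    (Γ : Subgroup (MulAut G)) : Prop where
  odd : p ≠ 2
  pgroup : IsPGroup p G
  rank : Cfsg.SectionalPRankLE p 3 G
  index : Nat.card G = p * Nat.card E
  cent : ∀ g : G, (∀ e ∈ E, g * e = e * g) → g ∈ E
  qle : (MulAut.conjNormal (H := E)).range ≤ X
  sylow : ¬ p ∣ (MulAut.conjNormal (H := E)).range.relIndex X
  core : ∀ Y : Subgroup (MulAut E), Y ≤ X → (∀ α ∈ X, ∀ y ∈ Y, α * y * α⁻¹ ∈ Y) → IsPGroup p Y →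
    Y ≤ Cfsg.Inn E
  ext : ∀ α ∈ X, α ∈ normalizer ((MulAut.conjNormal (H := E)).range : Set (MulAut E)) →
    ∃ β ∈ Γ, ∀ e : E, β (e : G) = (α e : G)

/-- The elements of order dividing `p` in the centre of `E`. -/
def omz (p : ℕ) (E : Subgroup G) : Subgroup G where
  carrier := {x | x ∈ E ∧ (∀ e ∈ E, x * e = e * x) ∧ x ^ p = 1}
  one_mem' := ⟨one_mem E, fun e _ => by rw [one_mul, mul_one], one_pow p⟩
  mul_mem' := by
    rintro a b ⟨ha, hac, hap⟩ ⟨hb, hbc, hbp⟩
    refine ⟨mul_mem ha hb, fun e he => (show Commute a e from hac e he).mul_left (hbc e he), ?_⟩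
    rw [(show Commute a b from hac b hb).mul_pow, hap, hbp, one_mul]
  inv_mem' := by
    rintro a ⟨ha, hac, hap⟩
    exact ⟨inv_mem ha, fun e he => (show Commute a e from hac e he).inv_left, by rw [inv_pow, hap, inv_one]⟩

omit [Finite G] [Fact p.Prime] in
theorem mem_omz {E : Subgroup G} {x : G} :
    x ∈ omz p E ↔ x ∈ E ∧ (∀ e ∈ E, x * e = e * x) ∧ x ^ p = 1 := Iff.rfl

omit [Finite G] [Fact p.Prime] in
theorem omz_le (E : Subgroup G) : omz p E ≤ E := fun _ hx => hx.1

instance omz_normal (E : Subgroup G) [hE : E.Normal] : (omz p E).Normal := by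
  refine ⟨fun x hx g => ⟨hE.conj_mem x hx.1 g, fun e he => ?_, ?_⟩⟩
  · have h1 := hx.2.1 (g⁻¹ * e * g) (by simpa using hE.conj_mem e he g⁻¹)
    calc g * x * g⁻¹ * e = g * (x * (g⁻¹ * e * g)) * g⁻¹ := by group
      _ = e * (g * x * g⁻¹) := by rw [h1]; group
  · rw [conj_pow, hx.2.2, mul_one, mul_inv_cancel]

omit [Finite G] [Fact p.Prime] in
/-- Automorphisms of `E` preserve `omz p E`. -/
theorem omz_apply {E : Subgroup G} (α : MulAut E) {r : E} (hr : (r : G) ∈ omz p E) : (α r : G) ∈ omz p E := by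
  refine ⟨(α r).2, fun e he => ?_, ?_⟩
  · obtain ⟨s, hs⟩ := α.surjective ⟨e, he⟩
    have h1 : r * s = s * r := Subtype.ext (hr.2.1 s s.2)
    have h2 := congrArg (fun t : E => (t : G)) (congrArg α h1)
    simp only [map_mul, hs, Subgroup.coe_mul] at h2
    exact h2
  · have h1 : r ^ p = 1 := Subtype.ext hr.2.2
    have h2 := congrArg (fun t : E => (t : G)) (congrArg α h1)
    simpa using h2

/-- The image of a subgroup of `E` under an automorphism of `E`. -/
def img {E : Subgroup G} (α : MulAut E) (A : Subgroup G) : Subgroup G :=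
  ((A.subgroupOf E).map α.toMonoidHom).map E.subtype

omit [Finite G] [Fact p.Prime] in
theorem mem_img {E : Subgroup G} {α : MulAut E} {A : Subgroup G} {x : G} :
    x ∈ img α A ↔ ∃ r : E, (r : G) ∈ A ∧ (α r : G) = x := by
  constructor
  · rintro ⟨_, ⟨r, hr, rfl⟩, rfl⟩
    exact ⟨r, hr, rfl⟩
  · rintro ⟨r, hr, rfl⟩
    exact ⟨α r, ⟨r, hr, rfl⟩, rfl⟩

omit [Finite G] [Fact p.Prime] in
theorem img_le {E : Subgroup G} (α : MulAut E) (A : Subgroup G) : img α A ≤ E := map_subtype_le _

omit [Finite G] [Fact p.Prime] in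
theorem card_img {E A : Subgroup G} (α : MulAut E) (hA : A ≤ E) : Nat.card (img α A) = Nat.card A := by
  rw [img, card_map_of_injective E.subtype_injective, card_map_of_injective α.injective,
    Nat.card_congr (subgroupOfEquivOfLe hA).toEquiv]

omit [Finite G] [Fact p.Prime] in
theorem img_mul {E A : Subgroup G} (α β : MulAut E) : img (α * β) A = img α (img β A) := by
  ext x
  simp only [mem_img, MulAut.mul_apply]
  constructor
  · rintro ⟨r, hr, rfl⟩
    exact ⟨β r, ⟨r, hr, rfl⟩, rfl⟩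
  · rintro ⟨s, ⟨r, hr, hrs⟩, rfl⟩
    exact ⟨r, hr, by rw [Subtype.ext hrs]⟩

omit [Finite G] [Fact p.Prime] in
/-- `E` normalizes the images of its normalized subgroups. -/
theorem img_conj {E A : Subgroup G} (α : MulAut E) (hA : ∀ e ∈ E, ∀ a ∈ A, e * a * e⁻¹ ∈ A)
    {e x : G} (he : e ∈ E) (hx : x ∈ img α A) : e * x * e⁻¹ ∈ img α A := by
  obtain ⟨r, hr, rfl⟩ := mem_img.1 hx
  obtain ⟨s, hs⟩ := α.surjective ⟨e, he⟩
  refine mem_img.2 ⟨s * r * s⁻¹, ?_, ?_⟩
  · exact hA s s.2 r hr
  · rw [map_mul, map_mul, map_inv, hs]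
    rfl

/-- The automorphism group of a finite group is finite. -/
theorem finite_mulAut (E : Subgroup G) : Finite (MulAut E) :=
  Finite.of_injective (fun a : MulAut E => (a : E → E)) DFunLike.coe_injective

/-- An elementary abelian subgroup has order at most `p ^ 3`. -/
theorem card_elementary_le (hr : Cfsg.SectionalPRankLE p 3 G) (A : Subgroup G)
    (hc : ∀ a ∈ A, ∀ b ∈ A, a * b = b * a) (he : ∀ a ∈ A, a ^ p = 1) : Nat.card A ≤ p ^ 3 := by
  have hinj : Function.Injective (QuotientGroup.mk' (⊥ : Subgroup G)) :=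
    (MonoidHom.ker_eq_bot_iff _).1 (QuotientGroup.ker_mk' _)
  rw [← card_map_of_injective (K := A) hinj]
  refine card_le_of_section hr ⊥ _ ?_ ?_
  · rintro _ ⟨a, ha, rfl⟩ _ ⟨b, hb, rfl⟩
    rw [← map_mul, ← map_mul, hc a ha b hb]
  · rintro _ ⟨a, ha, rfl⟩
    rw [← map_pow, he a ha, map_one]

/-- Commutators with a normal subgroup of order at most `p ^ 2` are central. -/
theorem commutator_central_of_card_le (hG : IsPGroup p G) (A : Subgroup G) [hA : A.Normal]
    (hc : Nat.card A ≤ p ^ 2) {a : G} (ha : a ∈ A) (g : G) : ⁅g, a⁆ ∈ A ⊓ center G := by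
  refine mem_inf.2 ⟨?_, ?_⟩
  · rw [commutatorElement_def]
    exact mul_mem (hA.conj_mem a ha g) (inv_mem ha)
  · by_cases hb : A = ⊥
    · rw [hb, mem_bot] at ha
      subst ha
      simp
    haveI : Nontrivial A := (A.nontrivial_iff_ne_bot).2 hb
    set N : Subgroup G := A ⊓ center G with hN
    haveI : N.Normal := inferInstance
    have hNp : p ≤ Nat.card N := by
      obtain ⟨k, hk⟩ := (hG.to_subgroup N).exists_card_eq
      rcases Nat.eq_zero_or_pos k with rfl | hk0
      · exfalso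
        rw [pow_zero] at hk
        have h1 := eq_bot_of_card_eq N hk
        haveI := hG.isNilpotent
        exact CfsgLib.Coprime.nilpotent_inf_center_ne_bot A hb h1
      · rw [hk]; exact Nat.le_self_pow (by omega) p
    set π := QuotientGroup.mk' N with hπ
    haveI : (A.map π).Normal := Subgroup.Normal.map hA π (QuotientGroup.mk'_surjective N)
    have hle : Nat.card (A.map π) ≤ p := by
      have h1 := CfsgLib.MaxClassCube.card_map_mul_card_inf_ker' π A
      rw [hπ, QuotientGroup.ker_mk'] at h1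
      have h2 : A ⊓ N = N := inf_eq_right.2 inf_le_left
      rw [h2] at h1
      have hp := (Fact.out : p.Prime).pos
      by_contra hlt
      push Not at hlt
      have : p * p < Nat.card (A.map π) * Nat.card N := by
        calc p * p ≤ p * Nat.card N := Nat.mul_le_mul_left p hNp
          _ < _ := Nat.mul_lt_mul_of_pos_right hlt (by omega)
      rw [hπ] at this
      rw [h1, ← pow_two] at this
      omega
    have hcen := CfsgLib.MetacyclicOmega.le_center_of_card_le (hG.to_quotient N) _ hle (mem_map_of_mem π ha)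
    have h1 : π ⁅g, a⁆ = 1 := by
      rw [map_commutatorElement, commutatorElement_eq_one_iff_mul_comm]
      exact mem_center_iff.1 hcen (π g)
    exact ((QuotientGroup.eq_one_iff _).1 h1).2

variable {E : Subgroup G} [E.Normal] {X : Subgroup (MulAut E)} {Γ : Subgroup (MulAut G)}
  (h : Piv p E X Γ)
include h

theorem Piv.index_eq : E.index = p := by
  have hi := E.card_mul_index
  rw [h.index, mul_comm p] at hi
  exact Nat.eq_of_mul_eq_mul_left Nat.card_pos hi

theorem Piv.ne_top : E ≠ ⊤ := fun e => (Fact.out : p.Prime).ne_one (by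
  rw [← h.index_eq, e, index_top])

theorem Piv.pow_mem (g : G) : g ^ p ∈ E := by
  rw [← QuotientGroup.eq_one_iff, QuotientGroup.mk_pow]
  have hc : Nat.card (G ⧸ E) = p := h.index_eq
  nth_rw 1 [← hc]
  exact pow_card_eq_one'

theorem Piv.comm_mem (a b : G) : ⁅a, b⁆ ∈ E := by
  rw [← QuotientGroup.eq_one_iff]
  show QuotientGroup.mk' E ⁅a, b⁆ = 1
  rw [map_commutatorElement, commutatorElement_eq_one_iff_mul_comm]
  haveI : Fact (Nat.card (G ⧸ E)).Prime := ⟨by
    rw [show Nat.card (G ⧸ E) = p from h.index_eq]; exact Fact.out⟩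
  haveI : IsCyclic (G ⧸ E) := isCyclic_of_prime_card rfl
  obtain ⟨γ, hγ⟩ := IsCyclic.exists_generator (α := G ⧸ E)
  obtain ⟨i, hi⟩ := mem_zpowers_iff.1 (hγ (QuotientGroup.mk' E a))
  obtain ⟨j, hj⟩ := mem_zpowers_iff.1 (hγ (QuotientGroup.mk' E b))
  rw [← hi, ← hj, ← zpow_add, ← zpow_add, add_comm]

/-- `E` is maximal. -/
theorem Piv.eq_of_le {H : Subgroup G} (hle : E ≤ H) (hne : H ≠ ⊤) : H = E := by
  refine (eq_of_le_of_card_ge hle ?_).symm
  have h1 := CfsgLib.MaxClassCube.mul_card_le h.pgroup (lt_top_iff_ne_top.2 hne)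
  rw [Subgroup.card_top, h.index] at h1
  exact Nat.le_of_mul_le_mul_left h1 (Fact.out : p.Prime).pos

theorem Piv.sup_eq {n : G} (hn : n ∉ E) : E ⊔ zpowers n = ⊤ := by
  by_contra hne
  exact hn ((h.eq_of_le le_sup_left hne).le (mem_sup_right (mem_zpowers n)))

theorem Piv.decomp {n : G} (hn : n ∉ E) (g : G) : ∃ (i : ℤ), ∃ e ∈ E, g = n ^ i * e := by
  obtain ⟨u, hu, v, hv, rfl⟩ := mem_sup_of_normal_right.1
    ((sup_comm E (zpowers n) ▸ h.sup_eq hn).ge (mem_top g))
  obtain ⟨i, rfl⟩ := mem_zpowers_iff.1 hu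
  exact ⟨i, v, hv, rfl⟩

/-- The centre lies in `E`. -/
theorem Piv.center_le : center G ≤ E := fun z hz => h.cent z fun e _ => (mem_center_iff.1 hz e).symm

/-- An element commuting with `E` and with an element outside is central. -/
theorem Piv.mem_center_of {z n : G} (hn : n ∉ E) (hzn : z * n = n * z) (hz : ∀ e ∈ E, z * e = e * z) :
    z ∈ center G := mem_center_iff.2 fun g => by
  obtain ⟨i, e, he, rfl⟩ := h.decomp hn g
  exact ((show Commute z n from hzn).zpow_right i).mul_right (hz e he) |>.symm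

theorem Piv.omz_top_le : omz p (⊤ : Subgroup G) ≤ omz p E := fun x hx =>
  ⟨h.cent x fun e _ => hx.2.1 e (mem_top e), fun e _ => hx.2.1 e (mem_top e), hx.2.2⟩

/-- The centralizer of a noncentral element of `omz p E` is `E`. -/
theorem Piv.mem_of_commute {z g : G} (hz : z ∈ omz p E) (hz' : z ∉ omz p (⊤ : Subgroup G))
    (hg : z * g = g * z) : g ∈ E := by
  by_contra hgE
  exact hz' ⟨mem_top z, fun e _ => (mem_center_iff.1 (h.mem_center_of hgE hg hz.2.1) e).symm, hz.2.2⟩

theorem Piv.inn_le_range : Cfsg.Inn E ≤ (MulAut.conjNormal (H := E)).range := by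
  rintro _ ⟨e, rfl⟩
  exact ⟨(e : G), MulAut.conjNormal_val⟩

/-- An element inducing an inner automorphism lies in `E`. -/
theorem Piv.mem_of_inn {g : G} (hg : MulAut.conjNormal (H := E) g ∈ Cfsg.Inn E) : g ∈ E := by
  obtain ⟨c, hc⟩ := hg
  have h2 : (c : G)⁻¹ * g ∈ E := h.cent _ fun e he => by
    have h3 := congrArg Subtype.val (DFunLike.congr_fun hc ⟨e, he⟩)
    rw [MulAut.conj_apply, MulAut.conjNormal_apply, Subgroup.coe_mul, Subgroup.coe_mul,
      Subgroup.coe_inv] at h3
    calc (c : G)⁻¹ * g * e = (c : G)⁻¹ * (g * e * g⁻¹) * g := by group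
      _ = (c : G)⁻¹ * ((c : G) * e * (c : G)⁻¹) * g := by rw [h3]
      _ = e * ((c : G)⁻¹ * g) := by group
  simpa using mul_mem c.2 h2

omit h in
theorem isPGroup_range (hG : IsPGroup p G) : IsPGroup p (MulAut.conjNormal (H := E)).range :=
  hG.of_surjective (MulAut.conjNormal (H := E)).rangeRestrict (MonoidHom.rangeRestrict_surjective _)

/-- Some element of `X` moves the conjugations by `G`. -/
theorem Piv.exists_not_normalizer :
    ∃ α ∈ X, α ∉ normalizer ((MulAut.conjNormal (H := E)).range : Set (MulAut E)) := by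
  by_contra hall
  push Not at hall
  have hQ : (MulAut.conjNormal (H := E)).range ≤ Cfsg.Inn E :=
    h.core _ h.qle (fun α hα y hy => (mem_normalizer_iff.1 (hall α hα) y).1 hy) (isPGroup_range h.pgroup)
  exact h.ne_top (eq_top_iff.2 fun g _ => h.mem_of_inn (hQ ⟨g, rfl⟩))

/-- Every `p`-subgroup of `X` is conjugate into the conjugations by `G`. -/
theorem Piv.exists_conj {P : Subgroup (MulAut E)} (hP : IsPGroup p P) (hPX : P ≤ X) :
    ∃ φ ∈ X, ∀ y ∈ P, φ * y * φ⁻¹ ∈ (MulAut.conjNormal (H := E)).range := by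
  haveI := finite_mulAut E
  obtain ⟨φ, hφ, hle⟩ := CfsgLib.Fusion.exists_conj_le_of_not_dvd_relIndex (isPGroup_range h.pgroup) h.qle
    h.sylow hP hPX
  exact ⟨φ, hφ, fun y hy => hle ⟨y, hy, rfl⟩⟩

/-- The Frattini argument. -/
theorem Piv.frattini_arg {N : Subgroup (MulAut E)} (hQN : (MulAut.conjNormal (H := E)).range ≤ N)
    (hNX : N ≤ X) (hN : ∀ α ∈ X, ∀ y ∈ N, α * y * α⁻¹ ∈ N) {α : MulAut E} (hα : α ∈ X) :
    ∃ σ ∈ N, ∃ μ ∈ X, μ ∈ normalizer ((MulAut.conjNormal (H := E)).range : Set (MulAut E)) ∧ α = σ * μ := by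
  haveI := finite_mulAut E
  set Q := (MulAut.conjNormal (H := E)).range with hQ
  set R : Subgroup (MulAut E) := Q.map (MulAut.conj α).toMonoidHom with hR
  have hRN : R ≤ N := by
    rintro _ ⟨y, hy, rfl⟩
    exact hN α hα y (hQN hy)
  have hi : ¬ p ∣ Q.relIndex N := fun hd => h.sylow (hd.trans (Dvd.intro _ (relIndex_mul_relIndex Q N X hQN hNX)))
  obtain ⟨σ, hσ, hle⟩ := CfsgLib.Fusion.exists_conj_le_of_not_dvd_relIndex (isPGroup_range h.pgroup) hQN hi
    ((isPGroup_range h.pgroup).map _) hRN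
  refine ⟨σ⁻¹, inv_mem hσ, σ * α, X.mul_mem (hNX hσ) hα, ?_, by group⟩
  have hsub : Q.map (MulAut.conj (σ * α)).toMonoidHom ≤ Q := by
    rintro _ ⟨y, hy, rfl⟩
    have h1 := hle ⟨_, ⟨y, hy, rfl⟩, rfl⟩
    simp only [MulEquiv.coe_toMonoidHom, MulAut.conj_apply] at h1 ⊢
    rw [show σ * α * y * (σ * α)⁻¹ = σ * (α * y * α⁻¹) * σ⁻¹ by group]
    exact h1
  have heq := eq_of_le_of_card_ge hsub (card_map_of_injective (MulAut.conj (σ * α)).injective).ge
  refine mem_normalizer_iff.2 fun y => ⟨fun hy => heq.le ⟨y, hy, rfl⟩, fun hy => ?_⟩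
  obtain ⟨z, hz, hzy⟩ := heq.ge hy
  have : z = y := (MulAut.conj (σ * α)).injective hzy
  exact this ▸ hz

end CfsgLib.Fusion.IndexFamily
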