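import Cfsg.Agent.Lib.Fusion.System.RankThree.NormalFamily.Hyperplane
import Cfsg.Agent.Lib.Fusion.System.RankThree.OverQuotient

/-!
# Invariant pairs of pivots modulo a central subgroup
-/

set_option autoImplicit false
set_option linter.style.haveILetI false
set_option linter.unusedSectionVars false

open Subgroup
open scoped commutatorElement

namespace CfsgLib.Fusion.IndexFamily

open CfsgLib.Fusion.RankThree (InvE sectional_quotient)

universe u

variable {G : Type u} [Group G] [Finite G] {p : ℕ} [Fact p.Prime]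

/-- Two invariant pivots. -/
structure InvPair (p : ℕ) {G : Type u} [Group G] (E : Bool → Subgroup G) [∀ b, (E b).Normal]
    (X : ∀ b, Subgroup (MulAut (E b))) (Γ : Subgroup (MulAut G)) : Prop where
  piv : ∀ b, Piv p (E b) (X b) Γ
  ne : ∀ b, E b ≠ E (!b)
  fix : ∀ γ ∈ Γ, ∀ b, ∀ r ∈ E b, γ r ∈ E b
  compat : ∀ γ ∈ Γ, ∀ b, ∀ α ∈ X b, ∃ α' ∈ X b, ∀ r r' : E b, (r' : G) = γ r → (α' r' : G) = γ (α r : G)
  inn : ¬ p ∣ (MulAut.conj (G := G)).range.relIndex Γ

/-- A pair is a family. -/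
theorem InvPair.fam {E : Bool → Subgroup G} [∀ b, (E b).Normal] {X : ∀ b, Subgroup (MulAut (E b))}
    {Γ : Subgroup (MulAut G)} (h : InvPair p E X Γ) : Fam p E X Γ := by
  refine ⟨h.piv, fun γ hγ b => ⟨b, ?_, h.compat γ hγ b⟩, h.inn⟩
  refine eq_of_le_of_card_ge ?_ (card_map_of_injective γ.injective).ge
  rintro _ ⟨r, hr, rfl⟩
  exact h.fix γ hγ b r hr

variable (W : Subgroup G) [W.Normal] {E : Subgroup G} [E.Normal]

instance map_mk_normal : (E.map (QuotientGroup.mk' W)).Normal :=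
  (inferInstance : E.Normal).map _ (QuotientGroup.mk'_surjective W)

/-- The automorphisms of the image induced by a group of automorphisms. -/
def quotX (X : Subgroup (MulAut E)) : Subgroup (MulAut (E.map (QuotientGroup.mk' W))) where
  carrier := {α' | ∃ α ∈ X, ∀ r : E, (QuotientGroup.mk' W).subgroupMap E (α r) = α' ((QuotientGroup.mk' W).subgroupMap E r)}
  one_mem' := ⟨1, X.one_mem, fun r => rfl⟩
  mul_mem' := by
    rintro a b ⟨α, hα, ha⟩ ⟨β, hβ, hb⟩
    exact ⟨α * β, X.mul_mem hα hβ, fun r => by rw [MulAut.mul_apply, ha, hb]; rfl⟩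
  inv_mem' := by
    rintro a ⟨α, hα, ha⟩
    refine ⟨α⁻¹, X.inv_mem hα, fun r => a.injective ?_⟩
    rw [← ha, MulAut.apply_inv_self, MulAut.apply_inv_self]

/-- The automorphisms of the quotient induced by a group of automorphisms. -/
def quotΓ (Γ : Subgroup (MulAut G)) : Subgroup (MulAut (G ⧸ W)) where
  carrier := {γ' | ∃ γ ∈ Γ, ∀ y : G, QuotientGroup.mk' W (γ y) = γ' (QuotientGroup.mk' W y)}
  one_mem' := ⟨1, Γ.one_mem, fun y => rfl⟩
  mul_mem' := by
    rintro a b ⟨α, hα, ha⟩ ⟨β, hβ, hb⟩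
    exact ⟨α * β, Γ.mul_mem hα hβ, fun r => by rw [MulAut.mul_apply, ha, hb]; rfl⟩
  inv_mem' := by
    rintro a ⟨α, hα, ha⟩
    refine ⟨α⁻¹, Γ.inv_mem hα, fun r => a.injective ?_⟩
    rw [← ha, MulAut.apply_inv_self, MulAut.apply_inv_self]

variable {W}

theorem quotΓ_exists {Γ : Subgroup (MulAut G)} (hW : ∀ γ ∈ Γ, ∀ w ∈ W, γ w ∈ W) {γ : MulAut G} (hγ : γ ∈ Γ) :
    ∃ γ' ∈ quotΓ W Γ, ∀ y : G, QuotientGroup.mk' W (γ y) = γ' (QuotientGroup.mk' W y) := by
  have hmap : W.map γ.toMonoidHom = W := by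
    refine eq_of_le_of_card_ge ?_ (card_map_of_injective γ.injective).ge
    rintro _ ⟨w, hw, rfl⟩
    exact hW γ hγ w hw
  exact ⟨QuotientGroup.congr W W γ hmap, ⟨γ, hγ, fun y => rfl⟩, fun y => rfl⟩

theorem quotX_exists {X : Subgroup (MulAut E)} (hW : InvE X W) {α : MulAut E} (hα : α ∈ X) :
    ∃ α' ∈ quotX W X, ∀ r : E, (QuotientGroup.mk' W).subgroupMap E (α r) = α' ((QuotientGroup.mk' W).subgroupMap E r) := by
  set f := (QuotientGroup.mk' W).subgroupMap E with hf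
  have hsurj : Function.Surjective f := MonoidHom.subgroupMap_surjective _ _
  have hk : ∀ r : E, r ∈ f.ker ↔ (r : G) ∈ W := fun r =>
    ⟨fun h => (QuotientGroup.eq_one_iff _).1 (congrArg Subtype.val h),
      fun h => Subtype.ext ((QuotientGroup.eq_one_iff _).2 h)⟩
  have hmap : f.ker.map α.toMonoidHom = f.ker := by
    refine eq_of_le_of_card_ge ?_ (card_map_of_injective α.injective).ge
    rintro _ ⟨r, hr, rfl⟩
    exact (hk _).2 (hW α hα r ((hk r).1 hr))
  set e := QuotientGroup.quotientKerEquivOfSurjective f hsurj with he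
  have hev : ∀ r : E, e (QuotientGroup.mk r) = f r := fun r => rfl
  refine ⟨(e.symm.trans (QuotientGroup.congr f.ker f.ker α hmap)).trans e, ⟨α, hα, fun r => ?_⟩, fun r => ?_⟩ <;>
  · rw [← hev r, MulEquiv.trans_apply, MulEquiv.trans_apply, e.symm_apply_apply]
    exact (hev (α r)).symm

/-- Induced automorphisms are determined by the automorphism. -/
theorem quotX_unique {a b : MulAut (E.map (QuotientGroup.mk' W))} {α : MulAut E}
    (ha : ∀ r : E, (QuotientGroup.mk' W).subgroupMap E (α r) = a ((QuotientGroup.mk' W).subgroupMap E r))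
    (hb : ∀ r : E, (QuotientGroup.mk' W).subgroupMap E (α r) = b ((QuotientGroup.mk' W).subgroupMap E r)) : a = b :=
  MulEquiv.ext fun v => by
    obtain ⟨r, rfl⟩ := MonoidHom.subgroupMap_surjective (QuotientGroup.mk' W) E v
    rw [← ha, hb]

/-- The automorphisms fixing the points of `W`. -/
def fixOn (W : Subgroup G) (E : Subgroup G) : Subgroup (MulAut E) where
  carrier := {α | ∀ r : E, (r : G) ∈ W → α r = r}
  one_mem' := fun _ _ => rfl
  mul_mem' := fun {α β} ha hb r hr => by rw [MulAut.mul_apply, hb r hr, ha r hr]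
  inv_mem' := fun {α} ha r hr => by
    conv_lhs => rw [← ha r hr]
    exact MulAut.inv_apply_self _ α r

theorem fixOn_conj {X : Subgroup (MulAut E)} (hW : InvE X W) {α : MulAut E} (hα : α ∈ X) {y : MulAut E}
    (hy : y ∈ fixOn W E) : α * y * α⁻¹ ∈ fixOn W E := fun r hr => by
  rw [MulAut.mul_apply, MulAut.mul_apply, hy _ (hW α⁻¹ (X.inv_mem hα) r hr), MulAut.apply_inv_self]

/-- Automorphisms fixing a central `W` pointwise and trivial modulo it form a `p`-group. -/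
theorem isPGroup_fix_trivMod (hG : IsPGroup p G) {Y : Subgroup (MulAut E)}
    (h1 : Y ≤ fixOn W E) (h2 : Y ≤ trivMod W) : IsPGroup p Y := by
  refine (isPGroup_chainStab (hG.to_subgroup E) (W.subgroupOf E) (W.subgroupOf E) le_rfl).to_le fun σ hσ => ?_
  exact ⟨fun a ha => h1 hσ a (mem_subgroupOf.1 ha), fun b hb => by
    rw [h1 hσ b (mem_subgroupOf.1 hb), inv_mul_cancel]; exact one_mem _,
    fun x => mem_subgroupOf.2 (h2 hσ x)⟩

variable {X : Subgroup (MulAut E)} {Γ : Subgroup (MulAut G)}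

/-- Conjugations fix a central subgroup. -/
theorem range_le_fixOn (hWc : W ≤ center G) : (MulAut.conjNormal (H := E)).range ≤ fixOn W E := by
  rintro _ ⟨g, rfl⟩ r hr
  refine Subtype.ext ?_
  rw [MulAut.conjNormal_apply, mem_center_iff.1 (hWc hr) g, mul_inv_cancel_right]

/-- A pivot modulo a central invariant subgroup is a pivot. -/
theorem Piv.quotient (h : Piv p E X Γ) (hWc : W ≤ center G) (hWX : InvE X W)
    (hWΓ : ∀ γ ∈ Γ, ∀ w ∈ W, γ w ∈ W) :
    Piv p (E.map (QuotientGroup.mk' W)) (quotX W X) (quotΓ W Γ) := by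
  have hp := (Fact.out : p.Prime)
  have hG := h.pgroup
  haveI := finite_mulAut E
  haveI := finite_mulAut (E.map (QuotientGroup.mk' W))
  have hWE : W ≤ E := hWc.trans h.center_le
  set π := QuotientGroup.mk' W with hπ
  set f := π.subgroupMap E with hf
  have hfv : ∀ r : E, ((f r : E.map π) : G ⧸ W) = π r := fun r => rfl
  have hsurj : Function.Surjective f := MonoidHom.subgroupMap_surjective _ _
  choose φ₀ hφ₀ hφ₀' using fun α : X => quotX_exists hWX α.2
  let φ : X →* MulAut (E.map π) := MonoidHom.mk' φ₀ fun a b => quotX_unique (hφ₀' (a * b)) fun r => by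
    rw [Subgroup.coe_mul, MulAut.mul_apply, hφ₀' a, hφ₀' b]; rfl
  have hφ : ∀ (α : X) (r : E), f ((α : MulAut E) r) = φ α (f r) := fun α r => hφ₀' α r
  have hrange : φ.range = quotX W X := by
    ext a
    constructor
    · rintro ⟨α, rfl⟩
      exact hφ₀ α
    · rintro ⟨α, hα, ha⟩
      exact ⟨⟨α, hα⟩, quotX_unique (hφ ⟨α, hα⟩) ha⟩
  set Q := (MulAut.conjNormal (H := E)).range.subgroupOf X with hQ
  let cn : G → X := fun g => ⟨MulAut.conjNormal g, h.qle ⟨g, rfl⟩⟩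
  have hcn : ∀ g, φ (cn g) = MulAut.conjNormal (H := E.map π) (π g) := fun g =>
    quotX_unique (hφ (cn g)) fun r => Subtype.ext (by
      rw [MulAut.conjNormal_apply, hfv, hfv]
      show π ((MulAut.conjNormal g r : E) : G) = _
      rw [MulAut.conjNormal_apply, map_mul, map_mul, map_inv])
  have hQmap : Q.map φ = (MulAut.conjNormal (H := E.map π)).range := by
    ext a
    constructor
    · rintro ⟨α, ⟨g, hg⟩, rfl⟩
      exact ⟨π g, by rw [← hcn, show α = cn g from Subtype.ext hg.symm]⟩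
    · rintro ⟨v, rfl⟩
      obtain ⟨g, rfl⟩ := QuotientGroup.mk'_surjective W v
      exact ⟨cn g, ⟨g, rfl⟩, hcn g⟩
  have hQfix : Q ≤ (fixOn W E).subgroupOf X := fun q hq => range_le_fixOn hWc hq
  have hkerp : IsPGroup p (φ.ker ⊓ (fixOn W E).subgroupOf X : Subgroup X) := by
    have h1 : IsPGroup p ((φ.ker ⊓ (fixOn W E).subgroupOf X : Subgroup X).map X.subtype) := by
      refine isPGroup_fix_trivMod (W := W) hG (by rintro _ ⟨y, hy, rfl⟩; exact hy.2) ?_
      rintro _ ⟨y, hy, rfl⟩ r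
      have h2 : f ((y : MulAut E) r) = f r := by rw [hφ, MonoidHom.mem_ker.1 hy.1]; rfl
      exact (QuotientGroup.eq (s := W)).1 (congrArg Subtype.val h2).symm
    exact h1.of_equiv (equivMapOfInjective _ X.subtype X.subtype_injective).symm
  have hiW : Q.index ≠ 0 ∧ ¬ p ∣ Q.index := ⟨Subgroup.index_ne_zero_of_finite, h.sylow⟩
  refine ⟨h.odd, hG.to_quotient W, sectional_quotient h.rank W, ?_, ?_, ?_, ?_, ?_, ?_⟩
  · have h1 := CfsgLib.MaxClassCube.card_map_mul_card_inf_ker' π E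
    rw [hπ, QuotientGroup.ker_mk', inf_eq_right.2 hWE] at h1
    have h2 := Subgroup.card_eq_card_quotient_mul_card_subgroup W
    rw [h.index, ← h1, ← mul_assoc] at h2
    exact (Nat.eq_of_mul_eq_mul_right Nat.card_pos h2).symm
  · intro v hv
    obtain ⟨g, rfl⟩ := QuotientGroup.mk'_surjective W v
    have h1 := h.core (X ⊓ (fixOn W E ⊓ trivMod W)) inf_le_left (fun α hα y hy =>
      ⟨X.mul_mem (X.mul_mem hα hy.1) (X.inv_mem hα), fixOn_conj hWX hα hy.2.1, fun r => by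
        have h1 := hWX α hα _ (hy.2.2 (α⁻¹ r))
        rw [map_mul, map_inv, MulAut.apply_inv_self] at h1
        exact h1⟩) (isPGroup_fix_trivMod hG (fun y hy => hy.2.1) fun y hy => hy.2.2)
    refine mem_map_of_mem π (h.mem_of_inn (h1 ⟨h.qle ⟨g, rfl⟩, range_le_fixOn hWc ⟨g, rfl⟩, fun r => ?_⟩))
    show (r : G)⁻¹ * (g * r * g⁻¹) ∈ W
    refine (QuotientGroup.eq_one_iff _).1 ?_
    show π ((r : G)⁻¹ * (g * r * g⁻¹)) = 1
    rw [map_mul, map_mul, map_mul, map_inv, map_inv, hv _ (mem_map_of_mem π r.2), mul_inv_cancel_right,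
      inv_mul_cancel]
  · rw [← hQmap, ← hrange]
    exact map_le_range φ Q
  · rw [← hQmap, ← hrange, MonoidHom.range_eq_map, relIndex_map_map, top_sup_eq, relIndex_top_right]
    exact fun hd => hiW.2 (hd.trans (Subgroup.index_dvd_of_le le_sup_left))
  · intro Y hY hYn hYp
    set Y' := Y.comap φ ⊓ (fixOn W E).subgroupOf X with hY'
    have hY'p : IsPGroup p Y' := by
      intro y
      obtain ⟨k, hk⟩ := hYp ⟨φ (y : X), y.2.1⟩
      have hk' : φ ((y : X) ^ p ^ k) = 1 := by rw [map_pow]; exact congrArg Subtype.val hk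
      obtain ⟨l, hl⟩ := hkerp ⟨(y : X) ^ p ^ k, hk', ((fixOn W E).subgroupOf X).pow_mem y.2.2 _⟩
      refine ⟨k + l, Subtype.ext ?_⟩
      rw [SubmonoidClass.coe_pow, pow_add, pow_mul]
      exact congrArg Subtype.val hl
    have hinn := h.core (Y'.map X.subtype) (map_subtype_le _) (by
      rintro α hα _ ⟨y, hy, rfl⟩
      refine ⟨⟨α, hα⟩ * y * ⟨α, hα⟩⁻¹, ⟨?_, fixOn_conj hWX hα hy.2⟩, rfl⟩
      show φ (⟨α, hα⟩ * y * ⟨α, hα⟩⁻¹) ∈ Y
      rw [map_mul, map_mul, map_inv]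
      exact hYn _ (hrange ▸ ⟨_, rfl⟩) _ hy.1) (hY'p.map _)
    intro y' hy'
    obtain ⟨y, rfl⟩ := hrange.ge (hY hy')
    obtain ⟨k, hk⟩ := hYp ⟨φ y, hy'⟩
    obtain ⟨a, m, hm, hn⟩ := Nat.exists_eq_pow_mul_and_not_dvd (orderOf_pos y).ne' p hp.ne_one
    obtain ⟨e, he0, he1⟩ := Nat.chineseRemainder
      (n := m) (m := p ^ k) (Nat.Coprime.pow_right k ((hp.coprime_iff_not_dvd.2 hm).symm)) 0 1
    have hye : φ (y ^ e) = φ y := by
      rw [map_pow]
      conv_rhs => rw [← pow_one (φ y)]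
      refine pow_eq_pow_iff_modEq.2 (he1.of_dvd ?_)
      exact orderOf_dvd_of_pow_eq_one (congrArg Subtype.val hk)
    have hyp : (y ^ e) ^ p ^ a = 1 := by
      rw [← pow_mul]
      refine orderOf_dvd_iff_pow_eq_one.1 ?_
      rw [hn, mul_comm e]
      exact Nat.mul_dvd_mul_left _ (Nat.modEq_zero_iff_dvd.1 he0)
    obtain ⟨θ, hθ, hθy⟩ := h.exists_conj (P := (zpowers (y ^ e)).map X.subtype)
      ((show IsPGroup p (zpowers (y ^ e)) from fun z => ⟨a, Subtype.ext (by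
        obtain ⟨i, hi⟩ := mem_zpowers_iff.1 z.2
        rw [SubmonoidClass.coe_pow, ← hi, ← zpow_natCast ((y ^ e) ^ i), ← zpow_mul, mul_comm, zpow_mul, zpow_natCast, hyp,
          one_zpow, Subgroup.coe_one])⟩).map _) (map_subtype_le _)
    have hfix : ((y ^ e : X) : MulAut E) ∈ fixOn W E := by
      have h1 := range_le_fixOn (E := E) hWc (hθy _ ⟨y ^ e, mem_zpowers _, rfl⟩)
      have h2 := fixOn_conj hWX (X.inv_mem hθ) h1
      rw [inv_inv] at h2
      convert h2 using 1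
      show ((y ^ e : X) : MulAut E) = θ⁻¹ * (θ * ((y ^ e : X) : MulAut E) * θ⁻¹) * θ
      group
    obtain ⟨c, hc⟩ := hinn ⟨y ^ e, ⟨show φ (y ^ e) ∈ Y by rw [hye]; exact hy', hfix⟩, rfl⟩
    refine ⟨f c, ?_⟩
    rw [← hye]
    refine quotX_unique (α := ((y ^ e : X) : MulAut E)) (fun r => ?_) (hφ (y ^ e))
    show f ((X.subtype (y ^ e)) r) = f c * f r * (f c)⁻¹
    rw [← hc, MulAut.conj_apply, map_mul, map_mul, map_inv]
  · intro a ha han
    obtain ⟨α, rfl⟩ := hrange.ge ha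
    set H := (Q.map φ).comap φ with hH
    have hQH : Q ≤ H := le_comap_map φ Q
    have hRH : Q.map (MulAut.conj α).toMonoidHom ≤ H := by
      rintro _ ⟨q, hq, rfl⟩
      show φ (α * q * α⁻¹) ∈ Q.map φ
      rw [map_mul, map_mul, map_inv, hQmap]
      exact (mem_normalizer_iff.1 han (φ q)).1 (hQmap ▸ mem_map_of_mem φ hq)
    have hQp : IsPGroup p Q := (isPGroup_range (E := E) hG).comap_of_injective X.subtype X.subtype_injective
    have hi : ¬ p ∣ Q.relIndex H := fun hd => hiW.2 (hd.trans (relIndex_dvd_index_of_le hQH))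
    obtain ⟨σ, hσ, hle⟩ := CfsgLib.Fusion.exists_conj_le_of_not_dvd_relIndex hQp hQH hi (hQp.map _) hRH
    obtain ⟨q₀, hq₀, hq₀σ⟩ := hσ
    set μ : X := q₀⁻¹ * σ * α with hμ
    have hμφ : φ μ = φ α := by rw [hμ, map_mul, map_mul, map_inv, hq₀σ, inv_mul_cancel, one_mul]
    have hsub : Q.map (MulAut.conj μ).toMonoidHom ≤ Q := by
      rintro _ ⟨q, hq, rfl⟩
      have h1 := hle ⟨_, ⟨q, hq, rfl⟩, rfl⟩
      simp only [MulEquiv.coe_toMonoidHom, MulAut.conj_apply] at h1 ⊢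
      rw [show μ * q * μ⁻¹ = q₀⁻¹ * (σ * (α * q * α⁻¹) * σ⁻¹) * q₀⁻¹⁻¹ by rw [hμ]; group]
      exact Q.mul_mem (Q.mul_mem (Q.inv_mem hq₀) h1) (Q.inv_mem (Q.inv_mem hq₀))
    have heq := eq_of_le_of_card_ge hsub (card_map_of_injective (MulAut.conj μ).injective).ge
    have hμn : (μ : MulAut E) ∈ normalizer ((MulAut.conjNormal (H := E)).range : Set (MulAut E)) := by
      refine mem_normalizer_iff.2 fun y => ⟨fun hy => ?_, fun hy => ?_⟩
      · exact heq.le ⟨⟨y, h.qle hy⟩, hy, rfl⟩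
      · obtain ⟨z, hz, hzy⟩ := heq.ge (show (⟨_, h.qle hy⟩ : X) ∈ Q from hy)
        have h1 : (μ : MulAut E) * (z : MulAut E) * (μ : MulAut E)⁻¹ = (μ : MulAut E) * y * (μ : MulAut E)⁻¹ :=
          congrArg Subtype.val hzy
        rw [mul_left_inj, mul_right_inj] at h1
        exact h1 ▸ hz
    obtain ⟨β, hβ, hβμ⟩ := h.ext μ μ.2 hμn
    obtain ⟨β', hβ', hββ⟩ := quotΓ_exists hWΓ hβ
    refine ⟨β', hβ', fun v => ?_⟩
    obtain ⟨r, rfl⟩ := hsurj v
    rw [hfv, ← hββ, hβμ, ← hμφ, ← hφ, hfv]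

/-- A pair modulo a common central subgroup is a pair. -/
theorem InvPair.quotient {E : Bool → Subgroup G} [∀ b, (E b).Normal] {X : ∀ b, Subgroup (MulAut (E b))}
    (h : InvPair p E X Γ) (hWc : W ≤ center G) (hWX : ∀ b, InvE (X b) W) (hWΓ : ∀ γ ∈ Γ, ∀ w ∈ W, γ w ∈ W) :
    InvPair p (fun b => (E b).map (QuotientGroup.mk' W)) (fun b => quotX W (X b)) (quotΓ W Γ) := by
  set π := QuotientGroup.mk' W with hπ
  have hback : ∀ b {y : G}, π y ∈ (E b).map π → y ∈ E b := fun b {y} hy => by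
    obtain ⟨z, hz, hzy⟩ := hy
    have h1 := (QuotientGroup.eq (s := W)).1 hzy
    simpa using mul_mem hz ((hWc.trans (h.piv b).center_le) h1)
  refine ⟨fun b => (h.piv b).quotient hWc (hWX b) hWΓ, fun b he => h.ne b ?_, ?_, ?_, ?_⟩
  · exact le_antisymm (fun y hy => hback _ (he.le (mem_map_of_mem π hy))) fun y hy => hback _ (he.ge (mem_map_of_mem π hy))
  · rintro γ' ⟨γ, hγ, hγ'⟩ b _ ⟨r, hr, rfl⟩
    rw [← hγ']
    exact mem_map_of_mem π (h.fix γ hγ b r hr)
  · rintro γ' ⟨γ, hγ, hγ'⟩ b a ⟨α, hα, ha⟩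
    obtain ⟨α₂, hα₂, hα₂'⟩ := h.compat γ hγ b α hα
    obtain ⟨a', ha', ha''⟩ := quotX_exists (hWX b) hα₂
    refine ⟨a', ha', fun v v' hvv => ?_⟩
    obtain ⟨r, rfl⟩ := MonoidHom.subgroupMap_surjective π (E b) v
    have hv' : v' = π.subgroupMap (E b) ⟨γ r, h.fix γ hγ b r r.2⟩ := Subtype.ext (hvv.trans (hγ' r).symm)
    rw [hv', ← ha'', ← ha]
    show π ((α₂ ⟨γ r, _⟩ : E b) : G) = γ' (π ((α r : E b) : G))
    rw [hα₂' r ⟨γ r, h.fix γ hγ b r r.2⟩ rfl, hγ']
  · intro hd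
    refine h.inn (hd.trans ?_)
    choose ψ₀ hψ₀ hψ₀' using fun γ : Γ => quotΓ_exists hWΓ γ.2
    have huniq : ∀ {a b : MulAut (G ⧸ W)} (γ : MulAut G), (∀ y, π (γ y) = a (π y)) → (∀ y, π (γ y) = b (π y)) → a = b :=
      fun γ ha hb => MulEquiv.ext fun v => by
        obtain ⟨y, rfl⟩ := QuotientGroup.mk'_surjective W v
        rw [← ha, hb]
    let ψ : Γ →* MulAut (G ⧸ W) := MonoidHom.mk' ψ₀ fun a b => huniq _ (hψ₀' (a * b)) fun y => by
      rw [Subgroup.coe_mul, MulAut.mul_apply, hψ₀' a, hψ₀' b]; rfl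
    have hrangeΓ : ψ.range = quotΓ W Γ := by
      ext a
      constructor
      · rintro ⟨γ, rfl⟩
        exact hψ₀ γ
      · rintro ⟨γ, hγ, ha⟩
        exact ⟨⟨γ, hγ⟩, huniq γ (hψ₀' ⟨γ, hγ⟩) ha⟩
    have hle : ((MulAut.conj (G := G)).range.subgroupOf Γ).map ψ ≤ (MulAut.conj (G := G ⧸ W)).range := by
      rintro _ ⟨γ, ⟨g, hg⟩, rfl⟩
      refine ⟨π g, huniq γ (fun y => ?_) (hψ₀' γ)⟩
      rw [← show MulAut.conj g = (γ : MulAut G) from hg, MulAut.conj_apply, MulAut.conj_apply, map_mul, map_mul, map_inv]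
    refine (relIndex_dvd_of_le_left (L := quotΓ W Γ) hle).trans ?_
    rw [← hrangeΓ, show ψ.range = (⊤ : Subgroup Γ).map ψ from MonoidHom.range_eq_map ψ, relIndex_map_map, top_sup_eq,
      relIndex_top_right]
    exact Subgroup.index_dvd_of_le le_sup_left

end CfsgLib.Fusion.IndexFamily
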