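import Cfsg.Agent.Lib.Fusion.System.RankThree.NormalFamily.ConjFalse

/-!
# Commuting conjugates

When the conjugates of the subgroups `omz p (E i)` inside the members commute, either these give a
common invariant subgroup or two members act as two different plane stabilizers on an elementary
abelian subgroup of order `p ^ 3`.
-/

set_option autoImplicit false
set_option linter.style.haveILetI false
set_option linter.unusedSectionVars false

open Subgroup
open scoped commutatorElement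

namespace CfsgLib.Fusion.IndexFamily

open CfsgLib.Fusion.RankThree (InvE)

universe u v

variable {G : Type u} [Group G] [Finite G] {p : ℕ} [Fact p.Prime]

/-- The closure of commuting elements of order dividing `p`. -/
theorem elementary_closure {S : Set G} (hc : ∀ a ∈ S, ∀ b ∈ S, a * b = b * a) (he : ∀ a ∈ S, a ^ p = 1) :
    (∀ a ∈ closure S, ∀ b ∈ closure S, a * b = b * a) ∧ ∀ a ∈ closure S, a ^ p = 1 := by
  haveI hcm := isMulCommutative_closure (k := S) hc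
  have hcomm : ∀ a ∈ closure S, ∀ b ∈ closure S, a * b = b * a := fun a ha b hb =>
    congrArg Subtype.val (hcm.is_comm.comm (⟨a, ha⟩ : closure S) ⟨b, hb⟩)
  refine ⟨hcomm, fun a ha => ?_⟩
  induction ha using Subgroup.closure_induction with
  | mem x hx => exact he x hx
  | one => exact one_pow p
  | mul x y hx hy ex ey => rw [(show Commute x y from hcomm x hx y hy).mul_pow, ex, ey, one_mul]
  | inv x _ ex => rw [inv_pow, ex, inv_one]

/-- An elementary abelian subgroup of order `p ^ 3` absorbs commuting elements of order `p`. -/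
theorem mem_of_commuting_cube (hr : Cfsg.SectionalPRankLE p 3 G) {A : Subgroup G}
    (hA : ∀ a ∈ A, ∀ b ∈ A, a * b = b * a) (hAe : ∀ a ∈ A, a ^ p = 1) (hc : p ^ 3 ≤ Nat.card A)
    {x : G} (hx : x ^ p = 1) (hxA : ∀ a ∈ A, x * a = a * x) : x ∈ A := by
  obtain ⟨h1, h2⟩ := elementary_closure (p := p) (S := insert x (A : Set G)) (by
    rintro a (rfl | ha) b (rfl | hb)
    · rfl
    · exact hxA b hb
    · exact (hxA a ha).symm
    · exact hA a ha b hb) (by
    rintro a (rfl | ha)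
    · exact hx
    · exact hAe a ha)
  have hle : A ≤ closure (insert x (A : Set G)) := fun a ha => subset_closure (Set.mem_insert_of_mem x ha)
  rw [eq_of_le_of_card_ge hle ((card_elementary_le hr _ h1 h2).trans hc)]
  exact subset_closure (Set.mem_insert x _)

variable {I : Type v} {E : I → Subgroup G} [hn : ∀ i, (E i).Normal] {X : ∀ i, Subgroup (MulAut (E i))}
  {Γ : Subgroup (MulAut G)}

theorem omz_top_apply (γ : MulAut G) {x : G} (hx : x ∈ omz p (⊤ : Subgroup G)) : γ x ∈ omz p (⊤ : Subgroup G) := by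
  refine ⟨mem_top _, fun e _ => ?_, by rw [← map_pow, hx.2.2, map_one]⟩
  obtain ⟨e', rfl⟩ := γ.surjective e
  rw [← map_mul, ← map_mul, hx.2.1 e' (mem_top e')]

theorem omz_top_ne_bot [Nontrivial G] (hG : IsPGroup p G) : omz p (⊤ : Subgroup G) ≠ ⊥ := by
  haveI := hG.center_nontrivial
  obtain ⟨n, hn⟩ := (hG.to_subgroup (center G)).exists_card_eq
  have hdvd : p ∣ Nat.card (center G) := by
    rw [hn]
    refine dvd_pow_self p fun h0 => ?_
    rw [h0, pow_zero] at hn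
    exact (Finite.one_lt_card (α := center G)).ne' hn
  obtain ⟨c, hc⟩ := exists_prime_orderOf_dvd_card' p hdvd
  intro hb
  have h1 : (c : G) ∈ omz p (⊤ : Subgroup G) := by
    refine ⟨mem_top _, fun e _ => (mem_center_iff.1 c.2 e).symm, ?_⟩
    rw [← Subgroup.coe_pow, ← hc, pow_orderOf_eq_one, Subgroup.coe_one]
  rw [hb, mem_bot] at h1
  rw [show c = 1 from Subtype.ext h1, orderOf_one] at hc
  exact (Fact.out : p.Prime).ne_one hc.symm

variable (h : Fam p E X Γ)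
include h

theorem Fam.nontrivial (i : I) : Nontrivial G := by
  by_contra hne
  rw [not_nontrivial_iff_subsingleton] at hne
  exact (h.piv i).ne_top (Subsingleton.elim _ _)

theorem Fam.exists_noncentral {i : I} (hmov : Moved p (E i) (X i)) :
    ∃ z ∈ omz p (E i), z ∉ omz p (⊤ : Subgroup G) := by
  obtain ⟨φ, -, r, hr, hφr⟩ := hmov
  exact ⟨φ r, omz_apply φ ((h.piv i).omz_top_le hr), hφr⟩

theorem Fam.card_omz {i : I} (hmov : Moved p (E i) (X i)) :
    p * Nat.card (omz p (⊤ : Subgroup G)) ≤ Nat.card (omz p (E i)) ∧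
      p ^ 2 ≤ Nat.card (omz p (E i)) ∧ Nat.card (omz p (E i)) ≤ p ^ 3 := by
  obtain ⟨z, hz, hz'⟩ := h.exists_noncentral hmov
  have hG := (h.piv i).pgroup
  haveI := h.nontrivial i
  have h1 := CfsgLib.MaxClassCube.mul_card_le hG
    (lt_of_le_of_ne (h.piv i).omz_top_le fun e => hz' (e ▸ hz))
  refine ⟨h1, ?_, card_elementary_le (h.piv i).rank _ (fun a ha b hb => ha.2.1 b hb.1) fun a ha => ha.2.2⟩
  have h2 := CfsgLib.MaxClassCube.mul_card_le hG (bot_lt_iff_ne_bot.2 (omz_top_ne_bot (p := p) hG))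
  rw [card_bot, mul_one] at h2
  calc p ^ 2 = p * p := pow_two p
    _ ≤ p * Nat.card (omz p (⊤ : Subgroup G)) := Nat.mul_le_mul_left p h2
    _ ≤ _ := h1

/-- All conjugates in one member commute. -/
theorem Fam.conj_commute' (hall : ∀ i j, omz p (E i) ≤ E j) {i : I} (hmov : Moved p (E i) (X i)) {k : I}
    {φ ψ : MulAut (E k)} (hφ : φ ∈ X k) (hψ : ψ ∈ X k) {r s : E k} (hr : (r : G) ∈ omz p (E i))
    (hs : (s : G) ∈ omz p (E i)) : (φ r : G) * (ψ s : G) = (ψ s : G) * (φ r : G) := by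
  have h1 : r * (φ⁻¹ * ψ) s = (φ⁻¹ * ψ) s * r :=
    Subtype.ext (h.conj_commute hall hmov ((X k).mul_mem ((X k).inv_mem hφ) hψ) hr hs)
  have h2 := congrArg (fun x : E k => (x : G)) (congrArg φ h1)
  simp only [map_mul, MulAut.mul_apply, MulAut.apply_inv_self, Subgroup.coe_mul] at h2
  exact h2

/-- An elementary abelian overgroup of order `p ^ 3` of `omz p (E i)` in `E i` is invariant under `X i`. -/
theorem Fam.cube_inv {i : I} (hmov : Moved p (E i) (X i)) (hc : Nat.card (omz p (E i)) = p ^ 2)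
    {U : Subgroup G} [U.Normal] (hU : U ≤ E i) (hcU : Nat.card U = p ^ 3) (hab : ∀ a ∈ U, ∀ b ∈ U, a * b = b * a)
    (hexp : ∀ a ∈ U, a ^ p = 1) (hZU : omz p (E i) ≤ U) : InvE (X i) U := by
  have hp := (Fact.out : p.Prime)
  have hpv := h.piv i
  have hG := hpv.pgroup
  by_contra hcon
  obtain ⟨α, hα, u, hu, hαu⟩ : ∃ α ∈ X i, ∃ u : E i, (u : G) ∈ U ∧ (α u : G) ∉ U := by
    simpa [InvE, not_forall] using hcon
  set Z1 := omz p (E i) with hZ1
  have hu1 : (u : G) ∉ Z1 := fun hh => hαu (hZU (omz_apply α hh))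
  have hZ1inv : ∀ (φ : MulAut (E i)) (r : E i), (r : G) ∈ Z1 → (φ r : G) ∈ Z1 := fun φ r hr => omz_apply φ hr
  have hUE : ∀ e ∈ E i, ∀ a ∈ U, e * a * e⁻¹ ∈ U := fun e _ a ha => (inferInstance : U.Normal).conj_mem a ha e
  -- commutators of conjugates of `u`
  have hkey : ∀ φ ∈ X i, ⁅(u : G), (φ u : G)⁆ ∈ Z1 := by
    intro φ hφ
    by_cases hφU : (φ u : G) ∈ U
    · rw [commutatorElement_eq_one_iff_mul_comm.2 (hab _ hu _ hφU)]; exact one_mem _
    have hle : Z1 ≤ U ⊓ img φ U := fun x hx => ⟨hZU hx, mem_img.2 ⟨φ⁻¹ ⟨x, hx.1⟩,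
      hZU (hZ1inv φ⁻¹ _ hx), by rw [MulAut.apply_inv_self]⟩⟩
    have hlt : U ⊓ img φ U < U := lt_of_le_of_ne inf_le_left fun e => hφU (by
      have h1 : U ≤ img φ U := e.ge.trans inf_le_right
      have h2 := eq_of_le_of_card_ge h1 (card_img φ hU).le
      rw [h2]
      exact mem_img.2 ⟨u, hu, rfl⟩)
    have h3 := CfsgLib.MaxClassCube.mul_card_le hG hlt
    rw [hcU, show p ^ 3 = p * p ^ 2 by ring] at h3
    have heq := eq_of_le_of_card_ge hle ((Nat.le_of_mul_le_mul_left h3 hp.pos).trans hc.ge)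
    rw [heq]
    refine ⟨?_, ?_⟩
    · rw [commutatorElement_def, show (u : G) * (φ u : G) * (u : G)⁻¹ * (φ u : G)⁻¹ =
        (u : G) * ((φ u : G) * (u : G)⁻¹ * (φ u : G)⁻¹) by group]
      exact mul_mem hu ((inferInstance : U.Normal).conj_mem _ (inv_mem hu) _)
    · rw [commutatorElement_def]
      exact mul_mem (img_conj φ hUE u.2 (mem_img.2 ⟨u, hu, rfl⟩)) ((img φ U).inv_mem (mem_img.2 ⟨u, hu, rfl⟩))
  have hpair : ∀ φ ∈ X i, ∀ ψ ∈ X i, ⁅(φ u : G), (ψ u : G)⁆ ∈ Z1 := by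
    intro φ hφ ψ hψ
    have h1 := hZ1inv φ ⁅u, (φ⁻¹ * ψ) u⁆ (hkey _ ((X i).mul_mem ((X i).inv_mem hφ) hψ))
    rw [map_commutatorElement, MulAut.mul_apply, MulAut.apply_inv_self] at h1
    exact h1
  have hzc : ∀ z ∈ Z1, ∀ e ∈ E i, Commute z e := fun z hz => hz.2.1
  have hpow : ∀ φ : MulAut (E i), (φ u : G) ^ p = 1 := fun φ => by
    have h1 : u ^ p = 1 := Subtype.ext (hexp _ hu)
    have h2 := congrArg φ h1
    rw [map_pow, map_one] at h2
    exact congrArg (fun r : E i => (r : G)) h2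
  -- commuting elements give order `p ^ 4`
  have hfour : ∀ a ∈ E i, ∀ b ∈ E i, a ^ p = 1 → b ^ p = 1 → a ∉ Z1 → b ∉ Z1 ⊔ zpowers a → a * b = b * a → False := by
    intro a ha b hb hap hbp haZ hbA hab'
    obtain ⟨h1, h2⟩ := elementary_closure (p := p) (S := (Z1 : Set G) ∪ {a, b}) (by
      rintro x (hx | rfl | rfl) y (hy | rfl | rfl)
      all_goals first
        | rfl
        | exact hab'
        | exact hab'.symm
        | exact hzc x hx y (omz_le _ hy)
        | exact hzc x hx y ha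
        | exact hzc x hx y hb
        | exact (hzc y hy x ha).symm
        | exact (hzc y hy x hb).symm) (by
      rintro x (hx | rfl | rfl)
      · exact hx.2.2
      · exact hap
      · exact hbp)
    have hle := card_elementary_le hpv.rank _ h1 h2
    set W := closure ((Z1 : Set G) ∪ {a, b}) with hW
    have hA : Z1 ⊔ zpowers a ≤ W := sup_le (fun x hx => subset_closure (Or.inl hx))
      (zpowers_le.2 (subset_closure (Or.inr (Or.inl rfl))))
    have e1 := CfsgLib.MaxClassCube.mul_card_le hG (A := Z1) (B := Z1 ⊔ zpowers a)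
      (lt_of_le_of_ne le_sup_left fun e => haZ (e.ge (mem_sup_right (mem_zpowers a))))
    have e2 := CfsgLib.MaxClassCube.mul_card_le hG (A := Z1 ⊔ zpowers a) (B := W)
      (lt_of_le_of_ne hA fun e => hbA (e.ge (subset_closure (Or.inr (Or.inr rfl)))))
    rw [hc] at e1
    have e3 : p * (p * p ^ 2) ≤ p ^ 3 := ((Nat.mul_le_mul_left p e1).trans e2).trans hle
    rw [show p * (p * p ^ 2) = p * p ^ 3 by ring] at e3
    exact absurd e3 (not_le.2 (lt_mul_of_one_lt_left (pow_pos hp.pos 3) hp.one_lt))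
  set x₁ : G := (u : G) with hx₁
  set x₂ : G := (α u : G) with hx₂
  set c := ⁅x₁, x₂⁆ with hcdef
  have hcZ : c ∈ Z1 := hkey α hα
  have hc1 : c ≠ 1 := fun e => hfour x₁ u.2 x₂ (α u).2 (hexp _ hu) (hpow α) hu1
    (fun hh => hαu (sup_le hZU (zpowers_le.2 hu) hh)) (commutatorElement_eq_one_iff_mul_comm.1 e)
  set M := Z1 ⊔ (zpowers x₁ ⊔ zpowers x₂) with hM
  have hx₁M : x₁ ∈ M := mem_sup_right (mem_sup_left (mem_zpowers _))
  have hx₂M : x₂ ∈ M := mem_sup_right (mem_sup_right (mem_zpowers _))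
  -- bilinearity
  have hbil : ∀ a ∈ E i, ∀ b ∈ E i, ∀ d ∈ E i, ⁅a, b⁆ ∈ Z1 → ⁅a, d⁆ ∈ Z1 →
      ⁅a, b * d⁆ = ⁅a, b⁆ * ⁅a, d⁆ := by
    intro a _ b hb d _ _ h2
    rw [show ⁅a, b * d⁆ = ⁅a, b⁆ * (b * ⁅a, d⁆ * b⁻¹) by simp only [commutatorElement_def]; group,
      ← (hzc _ h2 b hb).eq, mul_inv_cancel_right]
  have hbilz : ∀ a ∈ E i, ∀ b ∈ E i, ⁅a, b⁆ ∈ Z1 → ∀ m : ℤ, ⁅a, b ^ m⁆ = ⁅a, b⁆ ^ m := by
    intro a ha b hb h1 m
    induction m using Int.induction_on with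
    | zero => simp
    | succ m ih =>
      rw [zpow_add_one, hbil a ha _ (zpow_mem hb _) b hb (ih ▸ zpow_mem h1 _) h1, ih, zpow_add_one]
    | pred m ih =>
      have h2 : ⁅a, b⁻¹⁆ = ⁅a, b⁆⁻¹ := by
        rw [show ⁅a, b⁻¹⁆ = b⁻¹ * ⁅a, b⁆⁻¹ * b by simp only [commutatorElement_def]; group,
          mul_assoc, (hzc _ (inv_mem h1) b hb).eq, inv_mul_cancel_left]
      rw [zpow_sub_one, hbil a ha _ (zpow_mem hb _) b⁻¹ (inv_mem hb) (ih ▸ zpow_mem h1 _) (h2 ▸ inv_mem h1),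
        ih, h2, zpow_sub_one]
  have hinM : ∀ φ ∈ X i, (φ u : G) ∈ M := by
    intro φ hφ
    by_contra hxM
    set x₃ : G := (φ u : G) with hx₃
    have h12 : ⁅x₁, x₂⁆ ∈ Z1 := hkey α hα
    have h13 : ⁅x₁, x₃⁆ ∈ Z1 := hkey φ hφ
    have h23 : ⁅x₂, x₃⁆ ∈ Z1 := hpair α hα φ hφ
    by_cases hdep : ⁅x₁, x₃⁆ ∈ zpowers c
    · obtain ⟨s, hs⟩ := mem_zpowers_iff.1 hdep
      have hb : x₃ * x₂ ^ (-s) ∈ E i := mul_mem (φ u).2 (zpow_mem (α u).2 _)
      have hcomm : ⁅x₁, x₃ * x₂ ^ (-s)⁆ = 1 := by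
        rw [hbil x₁ u.2 x₃ (φ u).2 _ (zpow_mem (α u).2 _) h13 (by rw [hbilz x₁ u.2 x₂ (α u).2 h12]; exact zpow_mem h12 _),
          hbilz x₁ u.2 x₂ (α u).2 h12, ← hs, ← zpow_add, add_neg_cancel, zpow_zero]
      have hbp : (x₃ * x₂ ^ (-s)) ^ p = 1 := by
        obtain ⟨m, hm⟩ := hp.dvd_choose_self two_ne_zero (lt_of_le_of_ne hp.two_le (Ne.symm hpv.odd))
        set c₀ := ⁅x₃⁻¹, x₂ ^ (-s)⁆ with hc₀
        have hc₀Z : c₀ ∈ Z1 := by
          have h32 : ⁅x₂, x₃⁻¹⁆ ∈ Z1 := by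
            have := hbilz x₂ (α u).2 x₃ (φ u).2 h23 (-1)
            rw [zpow_neg_one] at this
            rw [this]; exact zpow_mem h23 _
          have h32' : ⁅x₃⁻¹, x₂⁆ ∈ Z1 := by rw [← commutatorElement_inv]; exact inv_mem h32
          rw [hc₀, hbilz x₃⁻¹ (inv_mem (φ u).2) x₂ (α u).2 h32']
          exact zpow_mem h32' _
        rw [CfsgLib.Fusion.EssentialFourth.mul_pow_choose (c := c₀) (by rw [hc₀, commutatorElement_def]; simp only [x₂, x₃]; group)
          (hzc _ hc₀Z _ (φ u).2) (hzc _ hc₀Z _ (zpow_mem (α u).2 _)), hpow φ, hm, pow_mul, hc₀Z.2.2, one_pow, one_mul,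
          one_mul, ← zpow_natCast, ← zpow_mul, mul_comm, zpow_mul, zpow_natCast, hpow α, one_zpow]
      refine hfour x₁ u.2 _ hb (hexp _ hu) hbp hu1 (fun hh => hxM ?_) (commutatorElement_eq_one_iff_mul_comm.1 hcomm)
      have h5 : x₃ * x₂ ^ (-s) ∈ M := (sup_le le_sup_left (zpowers_le.2 hx₁M) : Z1 ⊔ zpowers x₁ ≤ M) hh
      have h6 := mul_mem h5 (inv_mem (zpow_mem hx₂M (-s)))
      rwa [mul_inv_cancel_right] at h6
    · -- two independent commutators span `Z1`
      set c' := ⁅x₁, x₃⁆ with hc'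
      have hgen : ∀ x ∈ Z1, ∃ a b : ℤ, x = c ^ a * c' ^ b := by
        intro x hx
        have h5 : zpowers c < Z1 := lt_of_le_of_ne (zpowers_le.2 hcZ) fun e => hdep (e ▸ h13)
        have h6 : Nat.card (zpowers c) = p := by
          rw [Nat.card_zpowers]; exact orderOf_eq_prime hcZ.2.2 hc1
        have h7 : zpowers c' ⊔ zpowers c = Z1 := by
          refine eq_of_le_of_card_ge (sup_le (zpowers_le.2 h13) (zpowers_le.2 hcZ)) ?_
          have h8 := CfsgLib.MaxClassCube.mul_card_le hG (A := zpowers c) (B := zpowers c' ⊔ zpowers c)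
            (lt_of_le_of_ne le_sup_right fun e => hdep (e.ge (mem_sup_left (mem_zpowers _))))
          rw [hc]
          rw [h6, ← pow_two] at h8
          exact h8
        rw [← h7, Subgroup.zpowers_eq_closure, Subgroup.zpowers_eq_closure, ← Subgroup.closure_union] at hx
        have hcc : Commute c c' := hzc c hcZ c' h13.1
        induction hx using Subgroup.closure_induction with
        | mem w hw =>
          rcases hw with hw | hw <;> rw [Set.mem_singleton_iff] at hw <;> subst hw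
          · exact ⟨0, 1, by simp⟩
          · exact ⟨1, 0, by simp⟩
        | one => exact ⟨0, 0, by simp⟩
        | mul s t _ _ hs ht =>
          obtain ⟨a, b, rfl⟩ := hs; obtain ⟨a', b', rfl⟩ := ht
          exact ⟨a + a', b + b', by rw [zpow_add, zpow_add, mul_assoc, ← mul_assoc (c' ^ b), (hcc.symm.zpow_zpow b a').eq]; simp only [mul_assoc]⟩
        | inv s _ hs =>
          obtain ⟨a, b, rfl⟩ := hs
          exact ⟨-a, -b, by rw [mul_inv_rev, ← zpow_neg, ← zpow_neg, (hcc.symm.zpow_zpow (-b) (-a)).eq]⟩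
      obtain ⟨a, b, hab23⟩ := hgen _ h23
      -- `y = x₁ ^ (-b) * x₂` and `y' = x₁ ^ a * x₃` commute
      set y := x₁ ^ (-b) * x₂ with hy
      set y' := x₁ ^ a * x₃ with hy'
      have hyE : y ∈ E i := mul_mem (zpow_mem u.2 _) (α u).2
      have hy'E : y' ∈ E i := mul_mem (zpow_mem u.2 _) (φ u).2
      have hself : ⁅x₁, x₁⁆ ∈ Z1 := by rw [commutatorElement_self]; exact one_mem _
      have hinvc : ∀ {s t : G}, ⁅s, t⁆ ∈ Z1 → ⁅t, s⁆ ∈ Z1 := fun hst => by
        rw [← commutatorElement_inv]; exact inv_mem hst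
      have hyy : ⁅y, y'⁆ = 1 := by
        have e1 : ⁅x₁, y'⁆ = c' := by
          rw [hy', hbil x₁ u.2 _ (zpow_mem u.2 _) x₃ (φ u).2 (by rw [hbilz x₁ u.2 x₁ u.2 hself]; exact zpow_mem hself _) h13,
            hbilz x₁ u.2 x₁ u.2 hself, commutatorElement_self, one_zpow, one_mul]
        have e2 : ⁅x₂, y'⁆ = (c ^ a)⁻¹ * (c ^ a * c' ^ b) := by
          rw [hy', hbil x₂ (α u).2 _ (zpow_mem u.2 _) x₃ (φ u).2 (by rw [hbilz x₂ (α u).2 x₁ u.2 (hinvc h12)]; exact zpow_mem (hinvc h12) _) h23,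
            hbilz x₂ (α u).2 x₁ u.2 (hinvc h12), hab23, ← commutatorElement_inv x₁ x₂, inv_zpow]
        rw [inv_mul_cancel_left] at e2
        have e3 : ⁅y', y⁆ = 1 := by
          have h1' : ⁅y', x₁⁆ ∈ Z1 := hinvc (e1.symm ▸ h13)
          have h2' : ⁅y', x₂⁆ ∈ Z1 := hinvc (e2.symm ▸ zpow_mem h13 _)
          rw [hy, hbil y' hy'E _ (zpow_mem u.2 _) x₂ (α u).2 (by rw [hbilz y' hy'E x₁ u.2 h1']; exact zpow_mem h1' _) h2',
            hbilz y' hy'E x₁ u.2 h1', ← commutatorElement_inv x₁ y', ← commutatorElement_inv x₂ y', e1, e2, inv_zpow,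
            zpow_neg, inv_inv, mul_inv_cancel]
        rw [← commutatorElement_inv, e3, inv_one]
      have hpy : ∀ (m : ℤ) (x : G), x ∈ E i → x ^ p = 1 → ⁅x₁, x⁆ ∈ Z1 → (x₁ ^ m * x) ^ p = 1 := by
        intro m x hx hxp h1x
        obtain ⟨q, hq⟩ := hp.dvd_choose_self two_ne_zero (lt_of_le_of_ne hp.two_le (Ne.symm hpv.odd))
        set c₀ := ⁅(x₁ ^ m)⁻¹, x⁆ with hc₀
        have hc₀Z : c₀ ∈ Z1 := by
          have h0 : ⁅x, x₁ ^ (-m)⁆ ∈ Z1 := by
            rw [hbilz x hx x₁ u.2 (hinvc h1x)]; exact zpow_mem (hinvc h1x) _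
          rw [hc₀, ← zpow_neg]; exact hinvc h0
        rw [CfsgLib.Fusion.EssentialFourth.mul_pow_choose (c := c₀) (by rw [hc₀, commutatorElement_def]; simp only [x₁]; group)
          (hzc _ hc₀Z _ (zpow_mem u.2 _)) (hzc _ hc₀Z _ hx), hxp, hq, pow_mul, hc₀Z.2.2, one_pow, mul_one, mul_one,
          ← zpow_natCast, ← zpow_mul, mul_comm, zpow_mul, zpow_natCast, hexp _ hu, one_zpow]
      have hyM : y ∈ M := mul_mem (zpow_mem hx₁M _) hx₂M
      refine hfour y hyE y' hy'E (hpy _ x₂ (α u).2 (hpow α) h12) (hpy _ x₃ (φ u).2 (hpow φ) h13) (fun hh => hαu ?_)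
        (fun hh => hxM ?_) (commutatorElement_eq_one_iff_mul_comm.1 hyy)
      · have h6 := mul_mem (inv_mem (zpow_mem hu (-b))) (hZU hh)
        rwa [hy, inv_mul_cancel_left] at h6
      · have h6 := mul_mem (inv_mem (zpow_mem hx₁M a)) ((sup_le le_sup_left (zpowers_le.2 hyM) : Z1 ⊔ zpowers y ≤ M) hh)
        rwa [hy', inv_mul_cancel_left] at h6
  -- the line of commutators
  have hMc : ∀ s ∈ M, ∀ t ∈ M, ⁅s, t⁆ ∈ zpowers c := by
    have hgenM : M = closure ((Z1 : Set G) ∪ {x₁, x₂}) := by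
      rw [hM, Subgroup.closure_union, Subgroup.closure_eq, Subgroup.zpowers_eq_closure, Subgroup.zpowers_eq_closure,
        ← Subgroup.closure_union, Set.singleton_union]
    have hME : M ≤ E i := sup_le (omz_le _) (sup_le (zpowers_le.2 u.2) (zpowers_le.2 (α u).2))
    have hcl : ∀ a ∈ E i, (∀ g ∈ ((Z1 : Set G) ∪ {x₁, x₂}), ⁅a, g⁆ ∈ zpowers c) → ∀ t ∈ M, ⁅a, t⁆ ∈ zpowers c := by
      intro a ha hg t ht
      have hsub : zpowers c ≤ Z1 := zpowers_le.2 hcZ
      let K : Subgroup G :=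
        { carrier := {t | t ∈ E i ∧ ⁅a, t⁆ ∈ zpowers c}
          one_mem' := ⟨one_mem _, by simp⟩
          mul_mem' := fun {s t} hs ht => ⟨mul_mem hs.1 ht.1, by
            rw [hbil a ha s hs.1 t ht.1 (hsub hs.2) (hsub ht.2)]; exact mul_mem hs.2 ht.2⟩
          inv_mem' := fun {s} hs => ⟨inv_mem hs.1, by
            have h0 := hbilz a ha s hs.1 (hsub hs.2) (-1)
            rw [zpow_neg_one, zpow_neg_one] at h0
            rw [h0]; exact inv_mem hs.2⟩ }
      have hle : M ≤ K := hgenM ▸ (closure_le K).2 fun g hg' => ⟨hME (hgenM ▸ subset_closure hg'), hg g hg'⟩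
      exact (hle ht).2
    have hbase : ∀ g ∈ ((Z1 : Set G) ∪ {x₁, x₂}), ∀ t ∈ M, ⁅g, t⁆ ∈ zpowers c := by
      intro g hg
      have hgE : g ∈ E i := hME (hgenM ▸ subset_closure hg)
      refine hcl g hgE fun g' hg' => ?_
      have hgE' : g' ∈ E i := hME (hgenM ▸ subset_closure hg')
      rcases hg with hg | hg | hg
      · rw [commutatorElement_eq_one_iff_mul_comm.2 (hzc g hg g' hgE')]; exact one_mem _
      all_goals rcases hg' with hg'' | hg'' | hg''
      all_goals first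
        | (rw [commutatorElement_eq_one_iff_mul_comm.2 (hzc g' hg'' g hgE).symm.eq]; exact one_mem _)
        | (rw [hg, hg'', commutatorElement_self]; exact one_mem _)
        | (rw [hg, hg'']; exact mem_zpowers c)
        | (rw [hg, hg'', ← commutatorElement_inv]; exact inv_mem (mem_zpowers c))
    intro s hs t ht
    refine hcl s (hME hs) (fun g hg => ?_) t ht
    rw [← commutatorElement_inv]
    exact inv_mem (hbase g hg s hs)
  have hline : ∀ φ ∈ X i, ∀ r : E i, (r : G) ∈ zpowers c → (φ r : G) ∈ zpowers c := by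
    intro φ hφ r hr
    obtain ⟨m, hm⟩ := mem_zpowers_iff.1 hr
    have h1 : (φ ⁅u, α u⁆ : G) ∈ zpowers c := by
      rw [map_commutatorElement]
      show ⁅(φ u : G), ((φ * α) u : G)⁆ ∈ zpowers c
      exact hMc _ (hinM φ hφ) _ (hinM _ ((X i).mul_mem hφ hα))
    rw [show r = ⁅u, α u⁆ ^ m from Subtype.ext hm.symm, map_zpow, Subgroup.coe_zpow]
    exact zpow_mem h1 m
  have hcn : (zpowers c).Normal := ⟨fun x hx g => hline _ (hpv.qle ⟨g, rfl⟩) ⟨x, omz_le _ ((zpowers_le.2 hcZ) hx)⟩ hx⟩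
  have hcp : Nat.card (zpowers c) = p := by
    rw [Nat.card_zpowers]; exact orderOf_eq_prime hcZ.2.2 hc1
  have hcc := CfsgLib.MetacyclicOmega.le_center_of_card_le hG _ hcp.le
  have hcT : zpowers c ≤ omz p (⊤ : Subgroup G) := fun x hx =>
    ⟨mem_top x, fun e _ => (mem_center_iff.1 (hcc hx) e).symm, ((zpowers_le.2 hcZ) hx).2.2⟩
  have hTc : zpowers c = omz p (⊤ : Subgroup G) := by
    refine eq_of_le_of_card_ge hcT ?_
    rw [hcp]
    have := (h.card_omz hmov).1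
    rw [hc, pow_two] at this
    exact Nat.le_of_mul_le_mul_left this hp.pos
  obtain ⟨φ, hφ, r, hr, hφr⟩ := hmov
  exact hφr (hTc ▸ hline φ hφ r (hTc ▸ hr))

/-- The commutators of an invariant overgroup fill `omz p (E i)`. -/
theorem Fam.comm_surj {i : I} (hmov : Moved p (E i) (X i)) (hc : Nat.card (omz p (E i)) = p ^ 2)
    {U : Subgroup G} [U.Normal] (hU : U ≤ E i) (hcU : Nat.card U = p ^ 3) (hab : ∀ a ∈ U, ∀ b ∈ U, a * b = b * a)
    (hexp : ∀ a ∈ U, a ^ p = 1) (hZU : omz p (E i) ≤ U) {u : G} (hu : u ∈ U) (hu1 : u ∉ omz p (E i)) :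
    (∀ e ∈ E i, ⁅e, u⁆ ∈ omz p (E i)) ∧ ∀ z ∈ omz p (E i), ∃ e ∈ E i, ⁅e, u⁆ = z := by
  have hp := (Fact.out : p.Prime)
  have hpv := h.piv i
  have hG := hpv.pgroup
  have hinv := h.cube_inv hmov hc hU hcU hab hexp hZU
  set Z1 := omz p (E i) with hZ1
  -- `U / Z1` is central
  have hmem : ∀ e : G, ⁅e, u⁆ ∈ Z1 := by
    intro e
    set π := QuotientGroup.mk' Z1
    haveI : (U.map π).Normal := Subgroup.Normal.map inferInstance π (QuotientGroup.mk'_surjective Z1)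
    have hle : Nat.card (U.map π) ≤ p := by
      have h1 := CfsgLib.MaxClassCube.card_map_mul_card_inf_ker' π U
      rw [QuotientGroup.ker_mk', inf_eq_right.2 hZU, hc, hcU] at h1
      exact le_of_eq (Nat.eq_of_mul_eq_mul_right (pow_pos hp.pos 2) (h1.trans (by ring)))
    have h2 := CfsgLib.MetacyclicOmega.le_center_of_card_le (hG.to_quotient Z1) _ hle (mem_map_of_mem π hu)
    refine (QuotientGroup.eq_one_iff _).1 ?_
    show π ⁅e, u⁆ = 1
    rw [map_commutatorElement, commutatorElement_eq_one_iff_mul_comm]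
    exact mem_center_iff.1 h2 (π e)
  refine ⟨fun e _ => hmem e, ?_⟩
  let f : E i →* Z1 := MonoidHom.mk' (fun e => ⟨⁅(e : G), u⁆, hmem e⟩) fun a b => Subtype.ext (by
    show ⁅(a : G) * b, u⁆ = ⁅(a : G), u⁆ * ⁅(b : G), u⁆
    rw [show ⁅(a : G) * b, u⁆ = (a : G) * ⁅(b : G), u⁆ * (a : G)⁻¹ * ⁅(a : G), u⁆ by
      simp only [commutatorElement_def]; group, ← (hmem b).2.1 a a.2, mul_inv_cancel_right]
    exact (hmem b).2.1 _ (omz_le _ (hmem a)))
  set R : Subgroup G := f.range.map Z1.subtype with hR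
  have hRle : R ≤ Z1 := map_subtype_le _
  have hRmem : ∀ {x : G}, x ∈ R ↔ ∃ e ∈ E i, ⁅e, u⁆ = x := fun {x} => by
    constructor
    · rintro ⟨_, ⟨e, rfl⟩, rfl⟩; exact ⟨e, e.2, rfl⟩
    · rintro ⟨e, he, rfl⟩; exact ⟨f ⟨e, he⟩, ⟨_, rfl⟩, rfl⟩
  suffices hall : R = Z1 by intro z hz; exact hRmem.1 (hall.ge hz)
  haveI : (Z1.subgroupOf U).Normal := inferInstance
  have hRinv : ∀ φ ∈ X i, ∀ r : E i, (r : G) ∈ R → (φ r : G) ∈ R := by
    intro φ hφ r hr
    obtain ⟨e, he, her⟩ := hRmem.1 hr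
    have hre : r = ⁅(⟨e, he⟩ : E i), ⟨u, hU hu⟩⁆ := Subtype.ext her.symm
    obtain ⟨k, hk⟩ := CfsgLib.Fusion.RankThree.exists_zpow_inv_mul_mem hG hZU (by rw [hcU, hc]; ring) hu hu1
      (hinv φ hφ ⟨u, hU hu⟩ hu)
    set z := (u ^ k)⁻¹ * (φ ⟨u, hU hu⟩ : G) with hz
    have h1 : (φ r : G) = ⁅(φ ⟨e, he⟩ : G), u ^ k * z⁆ := by
      rw [hre, map_commutatorElement, hz, mul_inv_cancel_left]
      rfl
    rw [h1]
    have h2 : ⁅(φ ⟨e, he⟩ : G), u ^ k * z⁆ = ⁅(φ ⟨e, he⟩ : G), u⁆ ^ k := by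
      set g := (φ ⟨e, he⟩ : G)
      have e1 : g * (u ^ k * z) * g⁻¹ = ⁅g, u⁆ ^ k * (u ^ k * z) := by
        rw [show g * (u ^ k * z) * g⁻¹ = (g * u * g⁻¹) ^ k * (g * z * g⁻¹) by rw [conj_zpow]; group,
          show g * u * g⁻¹ = ⁅g, u⁆ * u by rw [commutatorElement_def]; group,
          (show Commute ⁅g, u⁆ u from (hmem g).2.1 u (hU hu)).mul_zpow, ← hk.2.1 g (φ ⟨e, he⟩).2,
          mul_inv_cancel_right, mul_assoc]
      rw [commutatorElement_def, e1, mul_inv_cancel_right]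
    rw [h2]
    exact zpow_mem (hRmem.2 ⟨_, (φ ⟨e, he⟩).2, rfl⟩) k
  by_contra hne
  have hlt := CfsgLib.MaxClassCube.mul_card_le hG (lt_of_le_of_ne hRle hne)
  rw [hc, pow_two] at hlt
  have hRp : Nat.card R ≤ p := Nat.le_of_mul_le_mul_left hlt hp.pos
  haveI : R.Normal := ⟨fun x hx g => hRinv _ (hpv.qle ⟨g, rfl⟩) ⟨x, omz_le _ (hRle hx)⟩ hx⟩
  have hRc := CfsgLib.MetacyclicOmega.le_center_of_card_le hG R hRp
  have hRT : R ≤ omz p (⊤ : Subgroup G) := fun x hx =>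
    ⟨mem_top x, fun e _ => (mem_center_iff.1 (hRc hx) e).symm, (hRle hx).2.2⟩
  have hRb : R ≠ ⊥ := fun hb => hu1 ⟨hU hu, fun e he => (commutatorElement_eq_one_iff_mul_comm.1
    (mem_bot.1 (hb ▸ hRmem.2 ⟨e, he, rfl⟩))).symm, hexp u hu⟩
  have hTR : R = omz p (⊤ : Subgroup G) := by
    refine eq_of_le_of_card_ge hRT ?_
    have h1 := (h.card_omz hmov).1
    rw [hc, pow_two] at h1
    refine (Nat.le_of_mul_le_mul_left h1 hp.pos).trans ?_
    have h2 := CfsgLib.MaxClassCube.mul_card_le hG (bot_lt_iff_ne_bot.2 hRb)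
    rwa [card_bot, mul_one] at h2
  obtain ⟨φ, hφ, r, hr, hφr⟩ := hmov
  exact hφr (hTR ▸ hRinv φ hφ r (hTR ▸ hr))

/-- Two plane stabilizers on an elementary abelian subgroup of order `p ^ 3`. -/
structure Planes (p : ℕ) {G : Type u} [Group G] {I : Type v} (E : I → Subgroup G)
    (X : ∀ i, Subgroup (MulAut (E i))) (i k : I) (U : Subgroup G) : Prop where
  mov : Moved p (E i) (X i)
  cardZ : Nat.card (omz p (E i)) = p ^ 2
  normal : U.Normal
  card : Nat.card U = p ^ 3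
  comm : ∀ a ∈ U, ∀ b ∈ U, a * b = b * a
  exp : ∀ a ∈ U, a ^ p = 1
  le_i : U ≤ E i
  le_k : U ≤ E k
  omz_le : omz p (E i) ≤ U
  inv_i : InvE (X i) U
  inv_k : InvE (X k) U
  moves : ∃ α ∈ X k, ∃ r : E k, (r : G) ∈ omz p (E i) ∧ (α r : G) ∉ omz p (E i)
  fix_k : ¬ Moved p (E k) (X k)

/-- The commuting case: the common subgroup is central or the moved centre of a member, or there
are two plane stabilizers. -/
theorem Fam.commuting_cases (hall : ∀ i j, omz p (E i) ≤ E j) (i₀ : I) :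
    CentralCommon E X Γ ∨ (∃ j, Moved p (E j) (X j) ∧ omz p (E j) ≠ ⊥ ∧
      (∀ γ ∈ Γ, ∀ q ∈ omz p (E j), γ q ∈ omz p (E j)) ∧ ∀ l, InvE (X l) (omz p (E j))) ∨
      ∃ i k U, Planes p E X i k U := by
  have hp := (Fact.out : p.Prime)
  have hG := (h.piv i₀).pgroup
  have hr := (h.piv i₀).rank
  haveI := h.nontrivial i₀
  by_cases hmv : ∀ l, ¬ Moved p (E l) (X l)
  · refine Or.inl ⟨omz p ⊤, fun x hx => mem_center_iff.2 fun g => (hx.2.1 g (mem_top g)).symm, omz_top_ne_bot hG, fun γ _ q hq => omz_top_apply γ hq, fun l =>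
      ⟨fun x hx => (h.piv l).omz_top_le hx |>.1, fun φ hφ r hr => ?_⟩⟩
    by_contra hc
    exact hmv l ⟨φ, hφ, r, hr, hc⟩
  push Not at hmv
  obtain ⟨i, hi⟩ := hmv
  have hij : ∀ j l, ∀ a ∈ omz p (E j), ∀ b ∈ omz p (E l), a * b = b * a := fun j l a ha b hb =>
    ha.2.1 b (hall l j hb)
  -- a moved member of rank three
  by_cases h3 : ∃ j, Moved p (E j) (X j) ∧ Nat.card (omz p (E j)) = p ^ 3
  · obtain ⟨j, hj, hjc⟩ := h3
    have habs : ∀ x : G, x ^ p = 1 → (∀ a ∈ omz p (E j), x * a = a * x) → x ∈ omz p (E j) := fun x hx hxc =>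
      mem_of_commuting_cube hr (hij j j) (fun a ha => ha.2.2) hjc.ge hx hxc
    refine Or.inr (Or.inl ⟨j, hj, fun hb => ?_, fun γ hγ q hq => ?_, fun l φ hφ r hr' => ?_⟩)
    · rw [hb, card_bot] at hjc
      exact (Nat.one_lt_pow (by norm_num) hp.one_lt).ne hjc
    · obtain ⟨j', hj', -⟩ := h.map γ hγ j
      have hγq : γ q ∈ omz p (E j') := by
        refine ⟨hj'.le (mem_map_of_mem γ.toMonoidHom hq.1), fun e he => ?_, by rw [← map_pow, hq.2.2, map_one]⟩
        obtain ⟨e', he', rfl⟩ := hj'.ge he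
        show γ q * γ e' = γ e' * γ q
        rw [← map_mul, ← map_mul, hq.2.1 e' he']
      exact habs _ hγq.2.2 fun a ha => hij j' j _ hγq a ha
    · refine habs _ ?_ fun a ha => ?_
      · have h1 : r ^ p = 1 := Subtype.ext hr'.2.2
        have h2 := congrArg φ h1
        rw [map_pow, map_one] at h2
        exact congrArg (fun x : E l => (x : G)) h2
      · have h1 := h.conj_commute hall hj hφ ha hr'
        exact h1.symm
  push Not at h3
  have hc2 : ∀ j, Moved p (E j) (X j) → Nat.card (omz p (E j)) = p ^ 2 := by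
    intro j hj
    obtain ⟨-, hlo, hhi⟩ := h.card_omz hj
    obtain ⟨m, hm⟩ := (hG.to_subgroup (omz p (E j))).exists_card_eq
    rw [hm] at hlo hhi
    have h2 := (Nat.pow_le_pow_iff_right hp.one_lt).1 hlo
    have h2' := (Nat.pow_le_pow_iff_right hp.one_lt).1 hhi
    rcases (show m = 2 ∨ m = 3 by omega) with rfl | rfl
    · exact hm
    · exact absurd hm (h3 j hj)
  have hcT : Nat.card (omz p (⊤ : Subgroup G)) = p := by
    refine le_antisymm ?_ ?_
    · have h1 := (h.card_omz hi).1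
      rw [hc2 i hi, pow_two] at h1
      exact Nat.le_of_mul_le_mul_left h1 hp.pos
    · have h2 := CfsgLib.MaxClassCube.mul_card_le hG (bot_lt_iff_ne_bot.2 (omz_top_ne_bot (p := p) hG))
      rwa [card_bot, mul_one] at h2
  -- uniqueness
  have huniq : ∀ j, Moved p (E j) (X j) → omz p (E j) = omz p (E i) := by
    intro j hj
    by_contra hne
    set S : Set G := (omz p (E i) : Set G) ∪ (omz p (E j) : Set G) with hS
    obtain ⟨hUc, hUe⟩ := elementary_closure (p := p) (S := S) (by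
      rintro a (ha | ha) b (hb | hb) <;> exact hij _ _ a ha b hb) (by rintro a (ha | ha) <;> exact ha.2.2)
    set U := closure S with hUdef
    have hUeq : U = omz p (E i) ⊔ omz p (E j) := by
      rw [hUdef, hS, Subgroup.closure_union, Subgroup.closure_eq, Subgroup.closure_eq]
    haveI : U.Normal := hUeq ▸ inferInstance
    have hUE : U ≤ E i := hUeq ▸ sup_le (omz_le _) (hall j i)
    have hnle : ¬ omz p (E j) ≤ omz p (E i) := fun hle =>
      hne (eq_of_le_of_card_ge hle (le_of_eq ((hc2 i hi).trans (hc2 j hj).symm)))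
    obtain ⟨u, huj, hui⟩ := SetLike.not_le_iff_exists.1 hnle
    have huU : u ∈ U := subset_closure (Or.inr huj)
    have hZU : omz p (E i) ≤ U := fun x hx => subset_closure (Or.inl hx)
    have hcU : Nat.card U = p ^ 3 := by
      refine le_antisymm (card_elementary_le hr U hUc hUe) ?_
      have h1 := CfsgLib.MaxClassCube.mul_card_le hG (lt_of_le_of_ne hZU fun e => hui (e.ge huU))
      rw [hc2 i hi] at h1
      exact le_trans (le_of_eq (by ring)) h1
    obtain ⟨-, hsurj⟩ := h.comm_surj hi (hc2 i hi) hUE hcU hUc hUe hZU huU hui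
    refine hnle fun x hx => ?_
    have hsub : omz p (E i) ≤ omz p (E j) := fun z hz => by
      obtain ⟨e, -, rfl⟩ := hsurj z hz
      rw [commutatorElement_def]
      exact mul_mem ((omz_normal (E j)).conj_mem u huj e) (inv_mem huj)
    exact (eq_of_le_of_card_ge hsub (le_of_eq ((hc2 j hj).trans (hc2 i hi).symm))).ge hx
  have hmap : ∀ γ ∈ Γ, ∀ q ∈ omz p (E i), γ q ∈ omz p (E i) := by
    intro γ hγ q hq
    obtain ⟨j, hj, hjX⟩ := h.map γ hγ i
    have hγq : ∀ x ∈ omz p (E i), γ x ∈ omz p (E j) := fun x hx => by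
      refine ⟨hj.le (mem_map_of_mem γ.toMonoidHom hx.1), fun e he => ?_, by rw [← map_pow, hx.2.2, map_one]⟩
      obtain ⟨e', he', rfl⟩ := hj.ge he
      show γ x * γ e' = γ e' * γ x
      rw [← map_mul, ← map_mul, hx.2.1 e' he']
    have hmj : Moved p (E j) (X j) := by
      obtain ⟨φ, hφ, r, hr', hφr⟩ := hi
      obtain ⟨φ', hφ', hφe⟩ := hjX φ hφ
      refine ⟨φ', hφ', ⟨γ r, hj.le (mem_map_of_mem γ.toMonoidHom r.2)⟩, omz_top_apply γ hr', fun hc => hφr ?_⟩
      rw [hφe r _ rfl] at hc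
      simpa using omz_top_apply γ⁻¹ hc
    exact huniq j hmj ▸ hγq q hq
  by_cases hinv : ∀ l, InvE (X l) (omz p (E i))
  · exact Or.inr (Or.inl ⟨i, hi, fun hb => by
      have := hc2 i hi
      rw [hb, card_bot] at this
      exact (Nat.one_lt_pow (by norm_num) hp.one_lt).ne this, hmap, hinv⟩)
  right; right
  obtain ⟨k, α, hα, r, hr', hαr⟩ : ∃ k, ∃ α ∈ X k, ∃ r : E k, (r : G) ∈ omz p (E i) ∧ (α r : G) ∉ omz p (E i) := by
    simpa [InvE, not_forall] using hinv
  have hfixk : ¬ Moved p (E k) (X k) := fun hk => hαr (by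
    have e := huniq k hk
    rw [← e] at hr' ⊢
    exact omz_apply α hr')
  set S : Set G := {x | ∃ φ ∈ X k, ∃ s : E k, (s : G) ∈ omz p (E i) ∧ (φ s : G) = x} with hS
  obtain ⟨hUc, hUe⟩ := elementary_closure (p := p) (S := S) (by
    rintro _ ⟨φ, hφ, s, hs, rfl⟩ _ ⟨ψ, hψ, t, ht, rfl⟩
    exact h.conj_commute' hall hi hφ hψ hs ht) (by
    rintro _ ⟨φ, -, s, hs, rfl⟩
    have h1 : s ^ p = 1 := Subtype.ext hs.2.2
    have h2 := congrArg φ h1
    rw [map_pow, map_one] at h2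
    exact congrArg (fun x : E k => (x : G)) h2)
  set U := closure S with hU
  have hSk : U ≤ E k := (closure_le _).2 (by rintro _ ⟨φ, -, s, -, rfl⟩; exact (φ s).2)
  have hinvk : InvE (X k) U := by
    intro ψ hψ x hx
    have hle : U ≤ ((U.subgroupOf (E k)).comap ψ.toMonoidHom).map (E k).subtype := (closure_le _).2 (by
      rintro _ ⟨φ, hφ, s, hs, rfl⟩
      exact ⟨φ s, subset_closure ⟨ψ * φ, (X k).mul_mem hψ hφ, s, hs, rfl⟩, rfl⟩)
    obtain ⟨y, hy, hyx⟩ := hle hx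
    rw [show y = x from Subtype.ext hyx] at hy
    exact hy
  haveI hUn : U.Normal := ⟨fun x hx g => hinvk _ ((h.piv k).qle ⟨g, rfl⟩) ⟨x, hSk hx⟩ hx⟩
  have hZU : omz p (E i) ≤ U := fun x hx => subset_closure ⟨1, (X k).one_mem, ⟨x, hall i k hx⟩, hx, rfl⟩
  obtain ⟨z, hz, hznc⟩ := h.exists_noncentral hi
  have hUi : U ≤ E i := fun x hx => (h.piv i).mem_of_commute hz hznc (hUc z (hZU hz) x hx)
  have hcU : Nat.card U = p ^ 3 := by
    refine le_antisymm (card_elementary_le hr U hUc hUe) ?_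
    have h1 := CfsgLib.MaxClassCube.mul_card_le hG (lt_of_le_of_ne hZU fun e =>
      hαr (e.ge (subset_closure ⟨α, hα, r, hr', rfl⟩)))
    rw [hc2 i hi] at h1
    exact le_trans (le_of_eq (by ring)) h1
  exact ⟨i, k, U, hi, hc2 i hi, hUn, hcU, hUc, hUe, hUi, hSk, hZU,
    h.cube_inv hi (hc2 i hi) hUi hcU hUc hUe hZU, hinvk, ⟨α, hα, r, hr', hαr⟩, hfixk⟩

/-- The commuting case: a common subgroup or two plane stabilizers. -/
theorem Fam.commuting (hall : ∀ i j, omz p (E i) ≤ E j) (i₀ : I) :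
    Common E X Γ ∨ ∃ i k U, Planes p E X i k U := by
  rcases h.commuting_cases hall i₀ with hc | ⟨j, -, hne, hγ, hinv⟩ | hP
  · exact Or.inl hc.common
  · exact Or.inl ⟨omz p (E j), hne, hγ, fun l => ⟨hall j l, hinv l⟩⟩
  · exact Or.inr hP

end CfsgLib.Fusion.IndexFamily
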