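import Cfsg.Agent.Lib.Fusion.System.RankThree.NormalFamily.ConjPowers
import Cfsg.Agent.Lib.Fusion.System.Transvection
import Mathlib.Algebra.Group.TypeTags.Hom
import Mathlib.Tactic.Module

/-!
# Noncommuting conjugates are impossible

The automizer of `E i` acts on `omz p (E i)` through a pair of transvections; the product inverting
both lines would commute with the conjugation by `v` on the Frattini quotient, which moves a third
direction onto these lines.
-/

set_option autoImplicit false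
set_option linter.style.haveILetI false
set_option linter.unusedSectionVars false

open Subgroup
open scoped commutatorElement

namespace CfsgLib.Fusion.IndexFamily

open CfsgLib.Fusion.RankThree (frn frn_le mem_frn card_le_of_section)
open CfsgLib.Fusion.Transvection (dlt IsTrv dlt_eq_one exists_neg not_range_le_ker dlt_conj)
open CfsgLib.MaxClassEss (frAct frAct_eq_one_iff mem_frattini_iff_apply)

universe u v

variable {G : Type u} [Group G] [Finite G] {p : ℕ} [Fact p.Prime]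

/-- An identity between two expressions in three elements of an abelian group. -/
theorem pow_eq_one_of_swap {M : Type u} [CommGroup M] {T T' Y : M} {a b a' b' : ℤ}
    (h : (T ^ a * T' ^ b)⁻¹ * (Y * (T ^ a' * T' ^ b')) = T ^ a * T' ^ b * Y * (T ^ a' * (T' ^ b' * T ^ b'))) :
    T' ^ (2 * b) * T ^ (2 * a + b') = 1 := by
  apply Additive.ofMul.injective
  replace h := congrArg Additive.ofMul h
  simp only [ofMul_mul, ofMul_inv, ofMul_zpow, ofMul_one] at h ⊢
  rw [← sub_eq_zero] at h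
  refine Eq.trans ?_ ((congrArg Neg.neg h).trans neg_zero)
  module

/-- Restriction of automorphisms of `E` to `omz p E`. -/
def resOmz (p : ℕ) (E : Subgroup G) : MulAut E →* MulAut (omz p E) where
  toFun α :=
    { toFun := fun x => ⟨(α ⟨x, omz_le E x.2⟩ : G), omz_apply α x.2⟩
      invFun := fun x => ⟨(α⁻¹ ⟨x, omz_le E x.2⟩ : G), omz_apply α⁻¹ x.2⟩
      left_inv := fun x => Subtype.ext (congrArg (fun r : E => (r : G)) (MulAut.inv_apply_self E α ⟨x, omz_le E x.2⟩))
      right_inv := fun x => Subtype.ext (congrArg (fun r : E => (r : G)) (MulAut.apply_inv_self E α ⟨x, omz_le E x.2⟩))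
      map_mul' := fun x y => Subtype.ext (congrArg (fun r : E => (r : G))
        (map_mul α ⟨x, omz_le E x.2⟩ ⟨y, omz_le E y.2⟩)) }
  map_one' := MulEquiv.ext fun _ => rfl
  map_mul' _ _ := MulEquiv.ext fun _ => rfl

/-- The group `omz p E` is abelian. -/
@[reducible] def omzCommGroup (p : ℕ) (E : Subgroup G) : CommGroup (omz p E) :=
  { (inferInstance : Group (omz p E)) with mul_comm := fun a b => Subtype.ext (a.2.2.1 b b.2.1) }

variable {E : Subgroup G} [E.Normal] {X : Subgroup (MulAut E)} {Γ : Subgroup (MulAut G)}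

/-- The Frattini quotient of `E` has order at most `p ^ 3`. -/
theorem Piv.card_le_frn (h : Piv p E X Γ) : Nat.card E ≤ p ^ 3 * Nat.card (frn E) := by
  have hE := h.pgroup.to_subgroup E
  set π := QuotientGroup.mk' (frn E) with hπ
  have hle := card_le_of_section h.rank (frn E) (E.map π) ?_ ?_
  · have h1 := CfsgLib.MaxClassCube.card_map_mul_card_inf_ker' π E
    rw [hπ, QuotientGroup.ker_mk', inf_eq_right.2 (frn_le E)] at h1
    rw [← h1]
    exact Nat.mul_le_mul_right _ hle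
  · rintro _ ⟨a, ha, rfl⟩ _ ⟨b, hb, rfl⟩
    rw [← commutatorElement_eq_one_iff_mul_comm, ← map_commutatorElement]
    exact (QuotientGroup.eq_one_iff _).2 ⟨⁅(⟨a, ha⟩ : E), ⟨b, hb⟩⁆, CfsgLib.Coprime.commutator_le_frattini hE
      (commutator_mem_commutator (mem_top _) (mem_top _)), rfl⟩
  · rintro _ ⟨a, ha, rfl⟩
    rw [← map_pow]
    exact (QuotientGroup.eq_one_iff _).2 ⟨(⟨a, ha⟩ : E) ^ p, CfsgLib.Coprime.pow_mem_frattini hE _, rfl⟩

variable {I : Type v} {E : I → Subgroup G} [hn : ∀ i, (E i).Normal] {X : ∀ i, Subgroup (MulAut (E i))}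

/-- `E i` moves `omz p ⊤`. -/
def Moved (p : ℕ) (E : Subgroup G) (X : Subgroup (MulAut E)) : Prop :=
  ∃ φ ∈ X, ∃ r : E, (r : G) ∈ omz p (⊤ : Subgroup G) ∧ (φ r : G) ∉ omz p (⊤ : Subgroup G)

/-- Conjugates inside the members commute. -/
theorem Fam.conj_commute (h : Fam p E X Γ) (hall : ∀ i j, omz p (E i) ≤ E j) {i : I} (hmov : Moved p (E i) (X i))
    {k : I} {α : MulAut (E k)} (hα : α ∈ X k) {z : G} (hz : z ∈ omz p (E i)) {z₀ : E k}
    (hz₀ : (z₀ : G) ∈ omz p (E i)) : z * (α z₀ : G) = (α z₀ : G) * z := by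
  by_contra hne
  obtain ⟨D, hD, -⟩ := h.conjData hz (hall i k hz) hz₀ hne
  have hp := (Fact.out : p.Prime)
  have hpv := h.piv i
  have hG := hpv.pgroup
  set v : G := (α z₀ : G) with hv
  have hki : ¬ E i ≤ E k := fun hle => hD.vi ((eq_of_le_of_card_ge hle (le_of_eq
    (Nat.eq_of_mul_eq_mul_left hp.pos ((h.piv k).index.symm.trans (h.piv i).index)))).ge hD.vk)
  obtain ⟨y, hy, hyk⟩ := SetLike.not_le_iff_exists.1 hki
  obtain ⟨huH, huD⟩ := h.conj_moves hall hα hz₀ hD hy hyk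
  obtain ⟨hRc, hR1, hup⟩ := h.conj_double hD hy hyk huH huD
  have hfrv := h.conj_frn hD hy hyk huH huD
  set u₀ := v * y * v⁻¹ * y⁻¹ with hu₀
  have hznc : z ∉ omz p (⊤ : Subgroup G) := fun hh => hne (hh.2.1 v (mem_top v))
  set H := E k ⊓ E i with hH
  have hHc : Nat.card (E i) = p * Nat.card H := by
    rw [hH, inf_comm]; exact h.card_inf fun e => hki e.le
  -- the transvection on `omz p (E i)`
  letI := omzCommGroup p (E i)
  haveI := finite_mulAut (E i)
  haveI : Finite (MulAut (omz p (E i))) :=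
    Finite.of_injective (fun a : MulAut (omz p (E i)) => (a : omz p (E i) → omz p (E i))) DFunLike.coe_injective
  set ρ := resOmz p (E i) with hρ
  set β := MulAut.conjNormal (H := E i) v with hβ
  set uM := ρ β with huM
  have huMapp : ∀ m : omz p (E i), (uM m : G) = v * m * v⁻¹ := fun m => rfl
  have hfixv : ∀ m : omz p (E i), dlt uM m = 1 → v * (m : G) = (m : G) * v := fun m hm => by
    have h1 := congrArg (fun x : omz p (E i) => (x : G)) (dlt_eq_one.1 hm)
    simp only [huMapp] at h1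
    exact mul_inv_eq_iff_eq_mul.1 h1
  have hfix' : ∀ m : omz p (E i), v * (m : G) = (m : G) * v → dlt uM m = 1 := fun m hm =>
    dlt_eq_one.2 (Subtype.ext (by rw [huMapp, hm, mul_inv_cancel_right]))
  set c₁ : omz p (E i) := dlt uM ⟨z, hz⟩ with hc₁
  have hmdec : ∀ m : omz p (E i), ∃ a : ℤ, dlt uM m = c₁ ^ a := by
    intro m
    obtain ⟨a, d, hd, hmd⟩ := hD.decI m ⟨hall i k m.2, m.2.1⟩
    have hdo : d ∈ omz p (E i) := by
      have h1 := mul_mem (inv_mem (zpow_mem hz a)) m.2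
      rwa [hmd, inv_mul_cancel_left] at h1
    refine ⟨a, ?_⟩
    rw [show m = (⟨z, hz⟩ : omz p (E i)) ^ a * ⟨d, hdo⟩ from Subtype.ext hmd, map_mul, map_zpow,
      hfix' ⟨d, hdo⟩ (hD.cen d hd v hD.vk).symm, mul_one]
  have hc₁fix : dlt uM c₁ = 1 := by
    refine hfix' _ (hD.cen _ ?_ v hD.vk).symm
    show z⁻¹ * (v * z * v⁻¹) ∈ D
    have h1 := hD.comm z⁻¹ ((E k).inv_mem hD.zk) v hD.vk
    rw [commutatorElement_def, inv_inv] at h1
    simpa [mul_assoc] using h1
  have hc₁1 : c₁ ≠ 1 := fun h1 => hne (hfixv ⟨z, hz⟩ h1).symm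
  have hrange : (dlt uM).range = zpowers c₁ := by
    refine le_antisymm ?_ (zpowers_le.2 ⟨_, rfl⟩)
    rintro _ ⟨m, rfl⟩
    obtain ⟨a, ha⟩ := hmdec m
    exact ha ▸ zpow_mem (mem_zpowers c₁) a
  have hT : IsTrv p uM := ⟨by
    rw [hrange, Nat.card_zpowers]
    exact orderOf_eq_prime (Subtype.ext c₁.2.2.2) hc₁1, fun m => by
    obtain ⟨a, ha⟩ := hmdec m
    rw [ha, map_zpow, hc₁fix, one_zpow]⟩
  -- an independent conjugate
  have hQ : (MulAut.conjNormal (H := E i)).range.map ρ = zpowers uM := by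
    refine le_antisymm ?_ (zpowers_le.2 ⟨β, ⟨v, rfl⟩, rfl⟩)
    rintro _ ⟨_, ⟨g, rfl⟩, rfl⟩
    obtain ⟨a, e, he, rfl⟩ := hpv.decomp hD.vi g
    rw [map_mul, map_zpow, map_mul, map_zpow]
    refine mul_mem (zpow_mem (mem_zpowers uM) a) ?_
    rw [show ρ (MulAut.conjNormal (H := E i) e) = 1 from MulEquiv.ext fun m => Subtype.ext (by
      show e * (m : G) * e⁻¹ = m
      rw [← m.2.2.1 e he, mul_inv_cancel_right])]
    exact one_mem _
  obtain ⟨φ, hφ, hφne⟩ : ∃ φ ∈ X i, ρ (φ * β * φ⁻¹) ∉ zpowers uM := by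
    by_contra hcon
    push Not at hcon
    obtain ⟨φ, hφ, r, hr, hφr⟩ := hmov
    have hr' : (r : G) ∈ omz p (E i) := hpv.omz_top_le hr
    have hm := hcon φ⁻¹ ((X i).inv_mem hφ)
    obtain ⟨k', hk'⟩ := mem_zpowers_iff.1 hm
    have hfix : (uM ^ k') ⟨r, hr'⟩ = ⟨r, hr'⟩ := by
      have : uM ∈ MulAction.stabilizer (MulAut (omz p (E i))) (⟨r, hr'⟩ : omz p (E i)) :=
        dlt_eq_one.1 (hfix' ⟨r, hr'⟩ (hr.2.1 v (mem_top v)).symm)
      exact zpow_mem this k'
    rw [hk'] at hfix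
    have h1 : φ⁻¹ (β (φ r)) = r := by
      have h2 := congrArg (fun m : omz p (E i) => (m : G)) hfix
      refine Subtype.ext ?_
      simpa [hρ, resOmz, inv_inv, MulAut.mul_apply] using h2
    have h3 := congrArg (fun x : E i => (φ x : G)) h1
    simp only [MulAut.apply_inv_self] at h3
    have hφo : (φ r : G) ∈ omz p (E i) := omz_apply φ hr'
    exact hD.vi (hpv.mem_of_commute hφo hφr ((mul_inv_eq_iff_eq_mul.1 h3).symm))
  set β' := φ * β * φ⁻¹ with hβ'
  set uM' := ρ β' with huM'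
  have huM'e : uM' = ρ φ * uM * (ρ φ)⁻¹ := by rw [huM', hβ', map_mul, map_mul, map_inv]
  have hT' : IsTrv p uM' := huM'e ▸ hT.conj (ρ φ)
  set L : Subgroup (MulAut (omz p (E i))) := closure {uM, uM'} with hL
  have hβX : β ∈ X i := hpv.qle ⟨v, rfl⟩
  have hβ'X : β' ∈ X i := (X i).mul_mem ((X i).mul_mem hφ hβX) ((X i).inv_mem hφ)
  have hLX : L ≤ (X i).map ρ := (closure_le _).2 (Set.insert_subset ⟨β, hβX, rfl⟩
    (Set.singleton_subset_iff.2 ⟨β', hβ'X, rfl⟩))
  have hsyl : ∀ P : Subgroup (MulAut (omz p (E i))), P ≤ L → IsPGroup p P → Nat.card P ≤ p := by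
    intro P hPL hP
    have hi : ¬ p ∣ ((MulAut.conjNormal (H := E i)).range.map ρ).relIndex ((X i).map ρ) := fun hd => hpv.sylow <| by
      refine hd.trans ?_
      set f := ρ.comp (X i).subtype
      have e1 : (X i).map ρ = f.range := by rw [MonoidHom.range_comp, Subgroup.range_subtype]
      have e2 : ((MulAut.conjNormal (H := E i)).range.map ρ).subgroupOf f.range =
          (((MulAut.conjNormal (H := E i)).range).subgroupOf (X i)).map f.rangeRestrict := by
        ext ⟨x, hx⟩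
        constructor
        · rintro ⟨c, hc, hcx⟩
          exact ⟨⟨c, hpv.qle hc⟩, hc, Subtype.ext hcx⟩
        · rintro ⟨c, hc, hcx⟩
          exact ⟨c, hc, congrArg Subtype.val hcx⟩
      rw [e1, Subgroup.relIndex, e2]
      exact index_map_dvd _ f.rangeRestrict_surjective
    obtain ⟨g, -, hg⟩ := CfsgLib.Fusion.exists_conj_le_of_not_dvd_relIndex ((isPGroup_range hG).map ρ)
      (map_mono hpv.qle) hi hP (hPL.trans hLX)
    rw [← card_map_of_injective (K := P) (f := (MulAut.conj g).toMonoidHom) (MulAut.conj g).injective]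
    refine (Subgroup.card_le_of_le (K := zpowers uM) ?_).trans (by rw [Nat.card_zpowers, hT.orderOf])
    rw [← hQ]
    exact hg
  have huL : uM ∈ L := subset_closure (by simp)
  have hu'L : uM' ∈ L := subset_closure (by simp)
  have hM : IsPGroup p (omz p (E i)) := hG.to_subgroup _
  obtain ⟨τ', hτ'r, hτ'k⟩ := Set.not_subset.1 (not_range_le_ker hM hsyl hT hT' huL hu'L hφne)
  obtain ⟨t, htL, htinv, -, htc, htinv'⟩ := exists_neg (L := L) hM hsyl hT hT' huL hu'L hφne
  set τ := dlt uM τ' with hτ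
  have hτ1 : τ ≠ 1 := hτ'k
  have hτr : zpowers τ = (dlt uM).range := hT.zpowers_eq ⟨τ', rfl⟩ hτ1
  -- the Frattini subgroup
  set N := frn (E i) with hN
  have hNinv : ∀ (σ : MulAut (E i)) (r : E i), (r : G) ∈ N → (σ r : G) ∈ N := fun σ r hr =>
    mem_frn.2 (mem_frattini_iff_apply.2 (mem_frn.1 hr))
  have hτ'N : (τ' : G) ∉ N := fun hh => hτ'k (hfix' τ' (hfrv _ hh))
  have hτN : (τ : G) ∉ N := by
    intro hh
    obtain ⟨m, hm⟩ := hτ'r
    rw [huM'e, dlt_conj] at hm
    obtain ⟨a, ha⟩ := mem_zpowers_iff.1 (hτr.ge ⟨(ρ φ)⁻¹ m, rfl⟩)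
    refine hτ'N ?_
    rw [← hm, ← ha, map_zpow]
    refine zpow_mem ?_ a
    exact hNinv φ ⟨τ, τ.2.1⟩ hh
  have hNH : N ≤ H := by
    intro r hr
    have hrE : r ∈ E i := frn_le _ hr
    refine ⟨?_, hrE⟩
    have hle : frattini (E i) ≤ (E k).subgroupOf (E i) := by
      refine CfsgLib.FrattiniLe.frattini_le_of_pow_of_commutator (p := p) (fun t => mem_subgroupOf.2 ?_) ?_
      · rw [Subgroup.coe_pow]; exact (h.piv k).pow_mem _
      · rw [_root_.commutator_def]
        exact commutator_le.2 fun t _ t' _ => mem_subgroupOf.2 ((h.piv k).comm_mem _ _)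
    exact mem_subgroupOf.1 (hle (mem_frn.1 (show ((⟨r, hrE⟩ : E i) : G) ∈ frn (E i) from hr)))
  set W2 : Subgroup G := zpowers (τ' : G) ⊔ (zpowers (τ : G) ⊔ N) with hW2
  have hτH : (τ : G) ∈ H := ⟨hall i k τ.2, τ.2.1⟩
  have hτ'H : (τ' : G) ∈ H := ⟨hall i k τ'.2, τ'.2.1⟩
  have hτv : v * (τ : G) = (τ : G) * v := hfixv τ (hT.fix τ')
  have hW2v : ∀ x ∈ zpowers (τ : G) ⊔ N, v * x = x * v := fun x hx => by
    have hle : zpowers (τ : G) ⊔ N ≤ centralizer ({v} : Set G) := sup_le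
      (zpowers_le.2 (mem_centralizer_singleton_iff.2 hτv.symm)) (fun y hy => mem_centralizer_singleton_iff.2 (hfrv y hy).symm)
    exact (mem_centralizer_singleton_iff.1 (hle hx)).symm
  have hHW : H = W2 := by
    have hle : W2 ≤ H := sup_le (zpowers_le.2 hτ'H) (sup_le (zpowers_le.2 hτH) hNH)
    refine (eq_of_le_of_card_ge hle ?_).symm
    have h1 : p * Nat.card N ≤ Nat.card (zpowers (τ : G) ⊔ N : Subgroup G) :=
      CfsgLib.MaxClassCube.mul_card_le hG (lt_of_le_of_ne le_sup_right fun e =>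
        hτN (e.ge (mem_sup_left (mem_zpowers _))))
    have h2 : p * Nat.card (zpowers (τ : G) ⊔ N : Subgroup G) ≤ Nat.card W2 :=
      CfsgLib.MaxClassCube.mul_card_le hG (lt_of_le_of_ne le_sup_right fun e => hτ'k (hfix' τ' (hW2v _
        (e.ge (mem_sup_left (mem_zpowers _))))))
    have h3 := hpv.card_le_frn
    rw [hHc] at h3
    refine Nat.le_of_mul_le_mul_left (h3.trans ?_) hp.pos
    calc p ^ 3 * Nat.card N = p * (p * (p * Nat.card N)) := by ring
      _ ≤ p * (p * Nat.card (zpowers (τ : G) ⊔ N : Subgroup G)) := Nat.mul_le_mul_left _ (Nat.mul_le_mul_left _ h1)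
      _ ≤ _ := Nat.mul_le_mul_left _ h2
  have hHdec : ∀ x ∈ H, ∃ a b : ℤ, ∃ f ∈ N, x = (τ : G) ^ a * (τ' : G) ^ b * f := by
    intro x hx
    rw [hHW, hW2, ← sup_assoc] at hx
    obtain ⟨q, hq, f, hf, rfl⟩ := mem_sup_of_normal_right.1 hx
    have hcm : ∀ y ∈ zpowers (τ' : G) ⊔ zpowers (τ : G), ∃ a b : ℤ, y = (τ : G) ^ a * (τ' : G) ^ b := by
      intro y hy'
      rw [Subgroup.zpowers_eq_closure, Subgroup.zpowers_eq_closure, ← Subgroup.closure_union] at hy'
      have hcomm : Commute (τ : G) (τ' : G) := τ.2.2.1 _ τ'.2.1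
      induction hy' using Subgroup.closure_induction with
      | mem w hw =>
        rcases hw with hw | hw <;> rw [Set.mem_singleton_iff] at hw <;> subst hw
        · exact ⟨0, 1, by simp⟩
        · exact ⟨1, 0, by simp⟩
      | one => exact ⟨0, 0, by simp⟩
      | mul s t _ _ hs ht =>
        obtain ⟨a, b, rfl⟩ := hs; obtain ⟨a', b', rfl⟩ := ht
        exact ⟨a + a', b + b', by rw [zpow_add, zpow_add, mul_assoc, ← mul_assoc ((τ' : G) ^ b), (hcomm.symm.zpow_zpow b a').eq]; simp only [mul_assoc]⟩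
      | inv s _ hs =>
        obtain ⟨a, b, rfl⟩ := hs
        exact ⟨-a, -b, by rw [mul_inv_rev, ← zpow_neg, ← zpow_neg, (hcomm.symm.zpow_zpow (-b) (-a)).eq]⟩
    obtain ⟨a, b, rfl⟩ := hcm q hq
    exact ⟨a, b, f, hf, rfl⟩
  -- automorphisms acting trivially on `E i / H`
  have hHinv : ∀ σ : MulAut (E i), ∀ r : E i, (r : G) ∈ H → (σ r : G) ∈ H := by
    intro σ r hr
    obtain ⟨a, b, f, hf, hrf⟩ := hHdec _ hr
    have hfE : f ∈ E i := frn_le _ hf
    rw [show r = (⟨τ, τ.2.1⟩ : E i) ^ a * (⟨τ', τ'.2.1⟩ : E i) ^ b * ⟨f, hfE⟩ from Subtype.ext hrf, map_mul, map_mul,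
      map_zpow, map_zpow, Subgroup.coe_mul, Subgroup.coe_mul, Subgroup.coe_zpow, Subgroup.coe_zpow]
    refine mul_mem (mul_mem (zpow_mem ?_ a) (zpow_mem ?_ b)) (hNH (hNinv σ _ hf))
    · exact ⟨hall i k (omz_apply σ (r := ⟨τ, τ.2.1⟩) τ.2), (σ _).2⟩
    · exact ⟨hall i k (omz_apply σ (r := ⟨τ', τ'.2.1⟩) τ'.2), (σ _).2⟩
  let S₀ : Subgroup (MulAut (E i)) :=
    { carrier := {σ | σ ∈ X i ∧ ∀ r : E i, (r : G)⁻¹ * (σ r : G) ∈ H}
      one_mem' := ⟨(X i).one_mem, fun r => by simp⟩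
      mul_mem' := by
        rintro σ σ' ⟨hσ, hσ'⟩ ⟨hτ₀, hτ₀'⟩
        refine ⟨(X i).mul_mem hσ hτ₀, fun r => ?_⟩
        rw [MulAut.mul_apply, show (r : G)⁻¹ * (σ (σ' r) : G) = ((r : G)⁻¹ * (σ' r : G)) * ((σ' r : G)⁻¹ * (σ (σ' r) : G)) by group]
        exact mul_mem (hτ₀' r) (hσ' _)
      inv_mem' := by
        rintro σ ⟨hσ, hσ'⟩
        refine ⟨(X i).inv_mem hσ, fun r => ?_⟩
        have h1 := inv_mem (hσ' (σ⁻¹ r))
        rw [MulAut.apply_inv_self, mul_inv_rev, inv_inv] at h1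
        exact h1 }
  have hβS : β ∈ S₀ := ⟨hβX, fun r => by
    show (r : G)⁻¹ * (v * r * v⁻¹) ∈ H
    refine ⟨?_, mul_mem ((E i).inv_mem r.2) ((hn i).conj_mem r r.2 v)⟩
    rw [show (r : G)⁻¹ * (v * r * v⁻¹) = ((r : G)⁻¹ * v * r) * v⁻¹ by group]
    exact mul_mem (by simpa using (hn k).conj_mem v hD.vk (r : G)⁻¹) ((E k).inv_mem hD.vk)⟩
  have hβ'S : β' ∈ S₀ := ⟨hβ'X, fun r => by
    have h1 := hHinv φ ((φ⁻¹ r)⁻¹ * β (φ⁻¹ r)) (hβS.2 (φ⁻¹ r))
    rw [map_mul, map_inv, MulAut.apply_inv_self] at h1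
    simpa [hβ', MulAut.mul_apply] using h1⟩
  obtain ⟨th, hth, hthρ⟩ : ∃ th ∈ S₀, ρ th = t := by
    have hLe : L = (closure {β, β'}).map ρ := by rw [MonoidHom.map_closure, Set.image_pair]
    obtain ⟨th, hth, hthρ⟩ := hLe.le htL
    exact ⟨th, (closure_le (K := S₀)).2 (Set.insert_subset hβS (Set.singleton_subset_iff.2 hβ'S)) hth, hthρ⟩
  set κ := th * β * th⁻¹ * β⁻¹ with hκ
  have hκS : κ ∈ S₀ := S₀.mul_mem (S₀.mul_mem (S₀.mul_mem hth hβS) (S₀.inv_mem hth)) (S₀.inv_mem hβS)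
  have hκρ : ρ κ = 1 := by
    rw [hκ, map_mul, map_mul, map_mul, map_inv, map_inv, hthρ, ← huM, htc.eq, mul_inv_cancel_right, mul_inv_cancel]
  have hκH : ∀ r : E i, (r : G) ∈ H → (r : G)⁻¹ * (κ r : G) ∈ N := by
    intro r hr
    obtain ⟨a, b, f, hf, hrf⟩ := hHdec _ hr
    have hfE : f ∈ E i := frn_le _ hf
    have hk1 : ∀ m : omz p (E i), κ ⟨m, m.2.1⟩ = ⟨m, m.2.1⟩ := fun m => Subtype.ext (by
      have h1 := DFunLike.congr_fun hκρ m
      exact congrArg (fun x : omz p (E i) => (x : G)) h1)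
    have hre : r = (⟨τ, τ.2.1⟩ : E i) ^ a * (⟨τ', τ'.2.1⟩ : E i) ^ b * ⟨f, hfE⟩ := Subtype.ext hrf
    rw [← Subgroup.coe_inv, ← Subgroup.coe_mul, hre, map_mul, map_mul, map_zpow, map_zpow, hk1 τ, hk1 τ']
    simp only [mul_inv_rev, mul_assoc, inv_mul_cancel_left, Subgroup.coe_mul, Subgroup.coe_inv]
    exact mul_mem (inv_mem hf) (hNinv κ _ hf)
  have hκfr : frAct κ = 1 := by
    have hκp : frAct κ ^ p = 1 := by
      rw [← map_pow]
      refine frAct_eq_one_iff.2 fun r => ?_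
      set π := QuotientGroup.mk' (frattini (E i)) with hπ
      set q := r⁻¹ * κ r with hq
      have hqH : (q : G) ∈ H := hκS.2 r
      have hq' : π (κ q) = π q := (QuotientGroup.eq.2 (mem_frn.1 (show ((q⁻¹ * κ q : E i) : G) ∈ frn (E i) from
        hκH q hqH))).symm
      have hiter : ∀ m : ℕ, π ((κ ^ m) r) = π r * π q ^ m := by
        intro m
        induction m with
        | zero => simp
        | succ m ih =>
          have e1 : (κ ^ m) r = r * q ^ m * ((r * q ^ m)⁻¹ * (κ ^ m) r) := by group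
          have e2 : ((r * q ^ m)⁻¹ * (κ ^ m) r) ∈ frattini (E i) :=
            QuotientGroup.eq.1 (by rw [← map_pow π] at ih; exact (ih.trans (map_mul π r (q ^ m)).symm).symm)
          have e3 : π (κ ((r * q ^ m)⁻¹ * (κ ^ m) r)) = 1 :=
            (QuotientGroup.eq_one_iff _).2 (mem_frattini_iff_apply.2 e2)
          rw [pow_succ' κ m, MulAut.mul_apply, e1, map_mul κ, map_mul π, e3, mul_one, map_mul κ, map_mul π,
            map_pow κ, map_pow π, hq', show κ r = r * q by rw [hq]; group, map_mul π, mul_assoc, ← pow_succ']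
      refine (QuotientGroup.eq_one_iff _).1 ?_
      show π _ = 1
      rw [map_mul, hiter, map_inv, ← map_pow π q, show π (q ^ p) = 1 from
        (QuotientGroup.eq_one_iff _).2 (CfsgLib.Coprime.pow_mem_frattini (hG.to_subgroup (E i)) q), mul_one,
        mul_inv_cancel]
    obtain ⟨n₀, m', hm', hord⟩ := Nat.exists_eq_pow_mul_and_not_dvd (orderOf_pos κ).ne' p hp.ne_one
    set κ₁ := κ ^ m' with hκ₁
    have hκ₁p : IsPGroup p (zpowers κ₁) := IsPGroup.of_card (n := n₀) (by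
      have hm0 : m' ≠ 0 := by rintro rfl; exact hm' (dvd_zero p)
      rw [Nat.card_zpowers, hκ₁, orderOf_pow' κ hm0, hord, Nat.gcd_eq_right (Dvd.intro_left _ rfl),
        Nat.mul_div_cancel _ (Nat.pos_of_ne_zero hm0)])
    obtain ⟨φ₀, hφ₀, hconj⟩ := hpv.exists_conj hκ₁p (zpowers_le.2 ((X i).pow_mem hκS.1 m'))
    obtain ⟨g, hg⟩ := hconj κ₁ (mem_zpowers κ₁)
    have hρ1 : ρ (φ₀ * κ₁ * φ₀⁻¹) = 1 := by
      rw [map_mul, map_mul, hκ₁, map_pow, hκρ, one_pow, mul_one, map_inv, mul_inv_cancel]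
    have hgE : g ∈ E i := by
      refine hpv.mem_of_commute hz hznc ?_
      have h1 := DFunLike.congr_fun (hg ▸ hρ1 : ρ (MulAut.conjNormal g) = 1) (⟨z, hz⟩ : omz p (E i))
      have h2 : g * z * g⁻¹ = z := congrArg (fun x : omz p (E i) => (x : G)) h1
      exact (mul_inv_eq_iff_eq_mul.1 h2).symm
    have h1 : frAct (φ₀ * κ₁ * φ₀⁻¹) = 1 := by
      rw [← hg, show MulAut.conjNormal (H := E i) g = MulAut.conj (⟨g, hgE⟩ : E i) from
        MulAut.conjNormal_val (h := (⟨g, hgE⟩ : E i))]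
      refine frAct_eq_one_iff.2 fun a => ?_
      rw [MulAut.conj_apply]
      exact CfsgLib.Coprime.commutator_le_frattini (hG.to_subgroup (E i))
        (commutator_mem_commutator (mem_top _) (mem_top a))
    have h2 : frAct κ ^ m' = 1 := by
      rw [map_mul, map_mul, map_inv, conj_eq_one_iff, hκ₁, map_pow] at h1
      exact h1
    rw [← orderOf_eq_one_iff]
    exact Nat.eq_one_of_dvd_coprimes ((hp.coprime_iff_not_dvd).2 hm') (orderOf_dvd_of_pow_eq_one hκp)
      (orderOf_dvd_of_pow_eq_one h2)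
  -- the contradiction
  set π := QuotientGroup.mk' (frattini (E i)) with hπ
  have hcommπ : ∀ a b : E i, π a * π b = π b * π a := fun a b => by
    rw [← commutatorElement_eq_one_iff_mul_comm, ← map_commutatorElement]
    exact (QuotientGroup.eq_one_iff _).2 (CfsgLib.Coprime.commutator_le_frattini (hG.to_subgroup (E i))
      (commutator_mem_commutator (mem_top _) (mem_top _)))
  have hswap : ∀ r : E i, π (th (β r)) = π (β (th r)) := fun r => by
    have h1 : th * β = κ * (β * th) := by rw [hκ]; group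
    show π ((th * β) r) = _
    rw [h1]
    show π (κ (β (th r))) = _
    have h2 := frAct_eq_one_iff.1 hκfr (β (th r))
    exact mul_inv_eq_one.1 (by rw [← map_inv, ← map_mul]; exact (QuotientGroup.eq_one_iff _).2 h2)
  set yE : E i := ⟨y, hy⟩ with hyE
  set uE : E i := ⟨u₀, huH.2⟩ with huE
  set hh : E i := yE⁻¹ * th yE with hhh
  have hhH : (hh : G) ∈ H := hth.2 yE
  obtain ⟨a, b, f, hf, huf⟩ := hHdec _ huH
  obtain ⟨a', b', f', hf', hhf⟩ := hHdec _ hhH
  set T : E i := ⟨τ, τ.2.1⟩ with hTe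
  set T' : E i := ⟨τ', τ'.2.1⟩ with hTe'
  have hthT : th T = T⁻¹ := Subtype.ext (congrArg (fun x : omz p (E i) => (x : G))
    ((DFunLike.congr_fun hthρ τ).trans (htinv τ (hτr.le (mem_zpowers τ)))))
  have hthT' : th T' = T'⁻¹ := Subtype.ext (congrArg (fun x : omz p (E i) => (x : G))
    ((DFunLike.congr_fun hthρ τ').trans (htinv' τ' hτ'r)))
  have hβT : β T = T := Subtype.ext (by
    show v * (τ : G) * v⁻¹ = τ
    rw [hτv, mul_inv_cancel_right])
  have hβT' : β T' = T' * T := Subtype.ext (congrArg (fun x : omz p (E i) => (x : G))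
    (CfsgLib.Fusion.Transvection.apply_eq uM τ'))
  have hπf : ∀ {g : G} (hg : g ∈ N), π ⟨g, frn_le _ hg⟩ = 1 := fun hg =>
    (QuotientGroup.eq_one_iff _).2 (mem_frn.1 hg)
  have hπu : π uE = π T ^ a * π T' ^ b := by
    rw [show uE = T ^ a * T' ^ b * ⟨f, frn_le _ hf⟩ from Subtype.ext huf, map_mul, map_mul, map_zpow, map_zpow, hπf hf, mul_one]
  have hπh : π hh = π T ^ a' * π T' ^ b' := by
    rw [show hh = T ^ a' * T' ^ b' * ⟨f', frn_le _ hf'⟩ from Subtype.ext hhf, map_mul, map_mul, map_zpow, map_zpow, hπf hf', mul_one]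
  have hπN : ∀ (σ : MulAut (E i)) {g : G} (hg : g ∈ N), π (σ ⟨g, frn_le _ hg⟩) = 1 := fun σ g hg =>
    (QuotientGroup.eq_one_iff _).2 (mem_frattini_iff_apply.2 (mem_frn.1 hg))
  have hβy : β yE = uE * yE := Subtype.ext (by
    show v * y * v⁻¹ = v * y * v⁻¹ * y⁻¹ * y
    group)
  have hthy : th yE = yE * hh := by rw [hhh]; group
  have hth_u : π (th uE) = (π T ^ a * π T' ^ b)⁻¹ := by
    rw [show uE = T ^ a * T' ^ b * ⟨f, frn_le _ hf⟩ from Subtype.ext huf, map_mul th, map_mul π, hπN th hf, mul_one,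
      map_mul th, map_zpow th, map_zpow th, hthT, hthT', map_mul, map_zpow, map_zpow, map_inv, map_inv, inv_zpow,
      inv_zpow, mul_inv_rev]
    exact ((show Commute (π T) (π T') from hcommπ T T').zpow_zpow a b).inv_inv.eq
  have hβ_h : π (β hh) = π T ^ a' * (π T' * π T) ^ b' := by
    rw [show hh = T ^ a' * T' ^ b' * ⟨f', frn_le _ hf'⟩ from Subtype.ext hhf, map_mul β, map_mul π, hπN β hf', mul_one,
      map_mul β, map_zpow β, map_zpow β, hβT, hβT', map_mul, map_zpow, map_zpow, map_mul]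
  have key := hswap yE
  rw [hβy, map_mul th, hthy, map_mul β, hβy] at key
  simp only [map_mul, hπu, hπh, hth_u, hβ_h] at key
  have e12 : Commute (π T) (π T') := hcommπ T T'
  have e1 : Commute (π T) (π yE) := hcommπ T yE
  have e2 : Commute (π T') (π yE) := hcommπ T' yE
  rw [e12.symm.mul_zpow] at key
  have h2b : π T' ^ (2 * b) * π T ^ (2 * a + b') = 1 := by
    letI : CommGroup ((E i) ⧸ frattini (E i)) :=
      { (inferInstance : Group ((E i) ⧸ frattini (E i))) with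
        mul_comm := fun x w => by
          obtain ⟨x, rfl⟩ := QuotientGroup.mk'_surjective (frattini (E i)) x
          obtain ⟨w, rfl⟩ := QuotientGroup.mk'_surjective (frattini (E i)) w
          exact hcommπ x w }
    exact pow_eq_one_of_swap key
  have hfixN : ∀ (x : E i), π x = 1 → v * (x : G) = (x : G) * v := fun x hx =>
    hfrv _ (mem_frn.2 ((QuotientGroup.eq_one_iff x).1 hx))
  have hb : (b : ZMod p) = 0 := by
    by_contra hb
    have h3 := hfixN (T' ^ (2 * b) * T ^ (2 * a + b')) (by rw [map_mul, map_zpow, map_zpow]; exact h2b)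
    rw [Subgroup.coe_mul, Subgroup.coe_zpow, Subgroup.coe_zpow] at h3
    have h4 : Commute v ((τ' : G) ^ (2 * b)) := by
      have h5 := (show Commute v _ from h3).mul_right ((show Commute v (τ : G) from hτv).zpow_right (2 * a + b')).inv_right
      rwa [mul_inv_cancel_right] at h5
    have hb2 : ((2 * b : ℤ) : ZMod p) ≠ 0 := by
      push_cast
      refine mul_ne_zero (fun h2 => hpv.odd ?_) hb
      have h5 : ((2 : ℕ) : ZMod p) = 0 := by exact_mod_cast h2
      exact ((Nat.prime_dvd_prime_iff_eq hp Nat.prime_two).1 ((ZMod.natCast_eq_zero_iff 2 p).1 h5))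
    exact hτ'k (hfix' τ' (mem_centralizer_singleton_iff.1 (CfsgLib.Fusion.RankThree.mem_of_zpow_mem
      (H := centralizer ({v} : Set G)) (by rw [τ'.2.2.2]; exact one_mem _)
      (mem_centralizer_singleton_iff.2 h4.symm.eq) hb2)).symm)
  refine hR1 (commutatorElement_eq_one_iff_mul_comm.2 ?_)
  show v * u₀ = u₀ * v
  rw [huf, CfsgLib.Fusion.LineTorus.zpow_congr τ'.2.2.2 (r := b) (s := 0) (by simpa using hb), zpow_zero, mul_one]
  exact hW2v _ (mul_mem (mem_sup_left (zpow_mem (mem_zpowers _) a)) (mem_sup_right hf))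

end CfsgLib.Fusion.IndexFamily
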