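import Cfsg.Agent.Lib.Fusion.System.RankThree.NormalFamily.Conjugates
import Cfsg.Agent.Lib.Fusion.System.EssentialFourth
import Cfsg.Agent.Lib.Fusion.System.RankThree.Top
import Cfsg.Agent.Lib.PGroup.FrattiniLe

/-!
# Noncommuting conjugates: the Frattini subgroup of `E i` is centralized

With the data of `ConjData`, the element `v` centralizes the Frattini subgroup of `E i`.
-/

set_option autoImplicit false
set_option linter.style.haveILetI false
set_option linter.unusedSectionVars false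

open Subgroup
open scoped commutatorElement

namespace CfsgLib.Fusion.IndexFamily

open CfsgLib.Fusion.RankThree (frn mem_frn)

universe u v

variable {G : Type u} [Group G] [Finite G] {p : ℕ} [Fact p.Prime] {I : Type v} {E : I → Subgroup G}
  [hn : ∀ i, (E i).Normal] {X : ∀ i, Subgroup (MulAut (E i))} {Γ : Subgroup (MulAut G)}

variable (h : Fam p E X Γ)
include h

/-- The commutators of `v` with an element of `E i` outside `E k`. -/
theorem Fam.conj_double {i k : I} {α : MulAut (E k)} {z : G} {z₀ : E k} {D : Subgroup G}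
    (hD : ConjData p (E i) (E k) D z (α z₀ : G)) {y : G} (hy : y ∈ E i) (hyk : y ∉ E k)
    (huH : (α z₀ : G) * y * (α z₀ : G)⁻¹ * y⁻¹ ∈ E k ⊓ E i)
    (huD : (α z₀ : G) * y * (α z₀ : G)⁻¹ * y⁻¹ ∉ D) :
    let u := (α z₀ : G) * y * (α z₀ : G)⁻¹ * y⁻¹
    ⁅(α z₀ : G), u⁆ ∈ center G ∧ ⁅(α z₀ : G), u⁆ ≠ 1 ∧ u ^ p = 1 := by
  intro u
  set v : G := (α z₀ : G) with hv
  obtain ⟨a, d, hd, hud⟩ := hD.decI u huH
  have hvd : Commute v d := (hD.cen d hd v hD.vk).symm
  have hR : ⁅v, u⁆ = ⁅v, z ^ a⁆ := by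
    rw [hud, commutatorElement_def, commutatorElement_def]
    rw [show v * (z ^ a * d) * v⁻¹ * (z ^ a * d)⁻¹ = v * z ^ a * (d * v⁻¹ * d⁻¹) * (z ^ a)⁻¹ by group,
      hvd.symm.inv_right.eq]
    group
  have hza : z ^ a ∈ omz p (E i) := zpow_mem hD.zmem a
  have hRo : ⁅v, u⁆ ∈ omz p (E i) := by
    rw [hR, commutatorElement_def]
    exact mul_mem ((omz_normal (E i)).conj_mem _ hza v) (inv_mem hza)
  have hRD : ⁅v, u⁆ ∈ D := hD.comm v hD.vk u huH.1
  have hR1 : ⁅v, u⁆ ≠ 1 := by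
    intro h1
    rw [hR, commutatorElement_eq_one_iff_mul_comm] at h1
    have ha : (a : ZMod p) = 0 := by
      by_contra ha
      refine hD.ncomm (mem_centralizer_singleton_iff.1 (CfsgLib.Fusion.RankThree.mem_of_zpow_mem
        (H := centralizer ({v} : Set G)) (by rw [hD.zmem.2.2]; exact one_mem _)
        (mem_centralizer_singleton_iff.2 h1.symm) ha))
    rw [CfsgLib.Fusion.LineTorus.zpow_congr hD.zmem.2.2 (r := a) (s := 0) (by simpa using ha), zpow_zero, one_mul] at hud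
    exact huD (show u ∈ D by rw [hud]; exact hd)
  have hRc : ⁅v, u⁆ ∈ center G := (h.piv k).mem_center_of hyk (hRo.2.1 y hy) (hD.cen _ hRD)
  refine ⟨hRc, hR1, ?_⟩
  -- iterate the conjugation
  set R := ⁅v, u⁆ with hRdef
  have hRcomm : ∀ g, Commute R g := fun g => (mem_center_iff.1 hRc g).symm
  have hvy : v * y * v⁻¹ = u * y := by show v * y * v⁻¹ = v * y * v⁻¹ * y⁻¹ * y; group
  have hvu : v * u * v⁻¹ = R * u := by rw [hRdef, commutatorElement_def]; group
  have hpow : ∀ n : ℕ, v ^ n * y * (v ^ n)⁻¹ = R ^ n.choose 2 * u ^ n * y := by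
    intro n
    induction n with
    | zero => simp
    | succ n ih =>
      rw [pow_succ', show v * v ^ n * y * (v * v ^ n)⁻¹ = v * (v ^ n * y * (v ^ n)⁻¹) * v⁻¹ by group, ih,
        show v * (R ^ n.choose 2 * u ^ n * y) * v⁻¹ = (v * R ^ n.choose 2 * v⁻¹) * (v * u ^ n * v⁻¹) * (v * y * v⁻¹) by group,
        show v * u ^ n * v⁻¹ = (R * u) ^ n by rw [← conj_pow, hvu], hvy, show v * R ^ n.choose 2 * v⁻¹ = R ^ n.choose 2 by
          rw [← ((hRcomm v).pow_left _).eq, mul_inv_cancel_right],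
        (hRcomm u).mul_pow, show (n + 1).choose 2 = n.choose 2 + n by
          rw [Nat.choose_succ_succ' n 1, Nat.choose_one_right, Nat.add_comm], pow_add, pow_succ]
      simp only [mul_assoc]
  have h1 := hpow p
  rw [hD.vp, one_mul, inv_one, mul_one] at h1
  have hRp : R ^ p = 1 := hRo.2.2
  have hc : R ^ p.choose 2 = 1 := by
    obtain ⟨m, hm⟩ := (Fact.out : p.Prime).dvd_choose_self two_ne_zero
      (lt_of_le_of_ne (Fact.out : p.Prime).two_le (Ne.symm (h.piv i).odd))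
    rw [hm, pow_mul, hRp, one_pow]
  rw [hc, one_mul] at h1
  exact (mul_eq_right.1 h1.symm)

/-- `v` centralizes the Frattini subgroup of `E i`. -/
theorem Fam.conj_frn {i k : I} {α : MulAut (E k)} {z : G} {z₀ : E k} {D : Subgroup G}
    (hD : ConjData p (E i) (E k) D z (α z₀ : G)) {y : G} (hy : y ∈ E i) (hyk : y ∉ E k)
    (huH : (α z₀ : G) * y * (α z₀ : G)⁻¹ * y⁻¹ ∈ E k ⊓ E i)
    (huD : (α z₀ : G) * y * (α z₀ : G)⁻¹ * y⁻¹ ∉ D) :
    ∀ r ∈ frn (E i), (α z₀ : G) * r = r * (α z₀ : G) := by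
  set v : G := (α z₀ : G) with hv
  have hp := (Fact.out : p.Prime)
  have hG := (h.piv i).pgroup
  obtain ⟨-, -, hup⟩ := h.conj_double hD hy hyk huH huD
  set u := v * y * v⁻¹ * y⁻¹ with hu
  obtain ⟨a, d₀, hd₀, hud⟩ := hD.decI u huH
  haveI := hD.normal
  -- elements of `E i`
  have hdec : ∀ r ∈ E i, ∃ s j : ℤ, ∃ d ∈ D, r = z ^ j * (y ^ s * d) := by
    intro r hr
    obtain ⟨s, e, he, rfl⟩ := (h.piv k).decomp hyk r
    have hei : e ∈ E i := by simpa using mul_mem ((E i).inv_mem (zpow_mem hy s)) hr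
    obtain ⟨j, d, hd, rfl⟩ := hD.decI e ⟨he, hei⟩
    refine ⟨s, j, d, hd, ?_⟩
    rw [← mul_assoc, ← mul_assoc, ((show Commute z y from hD.zmem.2.1 y hy).zpow_zpow j s).eq]
  have hcommD : ∀ r ∈ E i, ∀ t ∈ E i, ⁅r, t⁆ ∈ D := by
    intro r hr t ht
    obtain ⟨s, j, d, hd, rfl⟩ := hdec r hr
    obtain ⟨s', j', d', hd', rfl⟩ := hdec t ht
    rw [← QuotientGroup.eq_one_iff]
    show QuotientGroup.mk' D ⁅_, _⁆ = 1
    set π := QuotientGroup.mk' D
    rw [map_commutatorElement, commutatorElement_eq_one_iff_mul_comm, map_mul, map_mul, map_mul, map_mul,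
      show π d = 1 from (QuotientGroup.eq_one_iff d).2 hd, show π d' = 1 from (QuotientGroup.eq_one_iff d').2 hd',
      map_zpow, map_zpow, map_zpow, map_zpow, mul_one, mul_one]
    have e : Commute (π z) (π y) := (show Commute z y from hD.zmem.2.1 y hy).map π
    exact ((((Commute.refl (π z)).zpow_zpow j j').mul_right (e.zpow_zpow j s')).mul_left
      ((e.symm.zpow_zpow s j').mul_right ((Commute.refl (π y)).zpow_zpow s s'))).eq
  -- the elements of order dividing `p` in `D`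
  let D₁ : Subgroup G :=
    { carrier := {x | x ∈ D ∧ x ^ p = 1}
      one_mem' := ⟨one_mem D, one_pow p⟩
      mul_mem' := by
        rintro x w ⟨hx, hxp⟩ ⟨hw, hwp⟩
        refine ⟨mul_mem hx hw, ?_⟩
        rw [(show Commute x w from hD.cen x hx w (hD.Dle hw).1).mul_pow, hxp, hwp, one_mul]
      inv_mem' := by
        rintro x ⟨hx, hxp⟩
        exact ⟨inv_mem hx, by rw [inv_pow, hxp, inv_one]⟩ }
  have hD₁m : ∀ {x : G}, x ∈ D₁ ↔ x ∈ D ∧ x ^ p = 1 := Iff.rfl
  haveI : D₁.Normal := ⟨fun x hx g => hD₁m.2 ⟨hD.normal.conj_mem x (hD₁m.1 hx).1 g, by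
    rw [conj_pow, (hD₁m.1 hx).2, mul_one, mul_inv_cancel]⟩⟩
  have hD₁c : Nat.card D₁ ≤ p ^ 2 := by
    have hA : Nat.card (zpowers z ⊔ D₁ : Subgroup G) ≤ p ^ 3 := by
      have hel : ∀ x ∈ zpowers z ⊔ D₁, x ∈ E k ∧ x ^ p = 1 ∧ ∃ j : ℤ, ∃ d ∈ D₁, x = z ^ j * d := by
        intro x hx
        obtain ⟨c, hc, d, hd, rfl⟩ := mem_sup_of_normal_right.1 hx
        obtain ⟨j, rfl⟩ := mem_zpowers_iff.1 hc
        refine ⟨mul_mem (zpow_mem hD.zk j) (hD.Dle (hD₁m.1 hd).1).1, ?_, j, d, hd, rfl⟩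
        rw [((show Commute d (z ^ j) from hD.cen d (hD₁m.1 hd).1 _ (zpow_mem hD.zk j)).symm).mul_pow, (hD₁m.1 hd).2,
          mul_one, ← zpow_natCast, ← zpow_mul, mul_comm, zpow_mul, zpow_natCast, hD.zmem.2.2, one_zpow]
      refine card_elementary_le (h.piv i).rank _ (fun x hx w hw => ?_) fun x hx => (hel x hx).2.1
      obtain ⟨j, d, hd, rfl⟩ := (hel x hx).2.2
      obtain ⟨j', d', hd', rfl⟩ := (hel w hw).2.2
      have e1 : ∀ t ∈ E k, Commute d t := hD.cen d (hD₁m.1 hd).1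
      have e2 : ∀ t ∈ E k, Commute d' t := hD.cen d' (hD₁m.1 hd').1
      exact ((((Commute.refl z).zpow_zpow j j').mul_right (e2 _ (zpow_mem hD.zk j)).symm).mul_left
        ((e1 _ (zpow_mem hD.zk j')).mul_right (e1 d' (hD.Dle (hD₁m.1 hd').1).1))).eq
    have hlt : D₁ < zpowers z ⊔ D₁ := lt_of_le_of_ne le_sup_right fun e =>
      hD.zD (hD₁m.1 (e.ge (mem_sup_left (mem_zpowers z)))).1
    refine Nat.le_of_mul_le_mul_left ?_ hp.pos
    exact ((CfsgLib.MaxClassCube.mul_card_le hG hlt).trans hA).trans (le_of_eq (by ring))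
  have hd₀p : d₀ ^ p = 1 := by
    have h1 := hup
    rwa [hud, (show Commute (z ^ a) d₀ from (hD.cen d₀ hd₀ _ (zpow_mem hD.zk a)).symm).mul_pow, ← zpow_natCast (z ^ a),
      ← zpow_mul, mul_comm a, zpow_mul, zpow_natCast, hD.zmem.2.2, one_zpow, one_mul] at h1
  have hdrop : ∀ d₁ ∈ D₁, ∀ g : G, (d₁ * g) ^ p = g ^ p := by
    intro d₁ hd₁ g
    have hc := commutator_central_of_card_le hG D₁ hD₁c (inv_mem hd₁) g
    obtain ⟨hcD, hcZ⟩ := mem_inf.1 hc
    set c := ⁅g, d₁⁻¹⁆⁻¹ with hcdef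
    have hcc : ∀ t, Commute c t := fun t => (show Commute t c from mem_center_iff.1 (inv_mem hcZ) t).symm
    have hgd : g * d₁ = d₁ * c * g := by
      rw [hcdef, commutatorElement_inv, commutatorElement_def]
      group
    have hcp : c ^ p = 1 := (hD₁m.1 (inv_mem hcD)).2
    obtain ⟨m, hm⟩ := hp.dvd_choose_self two_ne_zero (lt_of_le_of_ne hp.two_le (Ne.symm (h.piv i).odd))
    rw [CfsgLib.Fusion.EssentialFourth.mul_pow_choose hgd (hcc d₁) (hcc g), (hD₁m.1 hd₁).2, hm, pow_mul, hcp,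
      one_pow, one_mul, one_mul]
  -- the powers are fixed
  have hvD : ∀ d ∈ D, v * d * v⁻¹ = d := fun d hd => by
    rw [← hD.cen d hd v hD.vk, mul_inv_cancel_right]
  have hpowfix : ∀ r ∈ E i, v * r ^ p = r ^ p * v := by
    intro r hr
    obtain ⟨s, j, d, hd, rfl⟩ := hdec r hr
    have hzc : ∀ t ∈ E i, Commute z t := hD.zmem.2.1
    have hzp : ∀ c : ℤ, (z ^ c) ^ p = 1 := fun c => (zpow_mem hD.zmem c : z ^ c ∈ omz p (E i)).2.2
    have hys : y ^ s * d ∈ E i := mul_mem (zpow_mem hy s) (hD.Dle hd).2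
    have hsplit : ∀ (c : G), c ∈ omz p (E i) → ∀ t ∈ E i, (c * t) ^ p = t ^ p := fun c hc t ht => by
      rw [(show Commute c t from hc.2.1 t ht).mul_pow, hc.2.2, one_mul]
    have hd₀i : d₀ * y ∈ E i := mul_mem (hD.Dle hd₀).2 hy
    have hzj : v * z ^ j * v⁻¹ ∈ omz p (E i) := (omz_normal (E i)).conj_mem _ (zpow_mem hD.zmem j) v
    have hA : v * (z ^ j * (y ^ s * d)) * v⁻¹ =
        (v * z ^ j * v⁻¹) * ((z ^ a) ^ s * ((d₀ * y) ^ s * d)) := by
      rw [show v * (z ^ j * (y ^ s * d)) * v⁻¹ = (v * z ^ j * v⁻¹) * ((v * y ^ s * v⁻¹) * (v * d * v⁻¹)) by group,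
        show v * y ^ s * v⁻¹ = (v * y * v⁻¹) ^ s from conj_zpow.symm, show v * y * v⁻¹ = z ^ a * (d₀ * y) by rw [← mul_assoc, ← hud, hu]; group,
        ((show Commute z (d₀ * y) from hzc _ hd₀i).zpow_left a).mul_zpow, hvD d hd]
      simp only [mul_assoc]
    have hd₁ : (d₀ * y) ^ s * (y ^ s)⁻¹ ∈ D₁ := by
      rw [← QuotientGroup.eq_one_iff]
      show QuotientGroup.mk' D₁ _ = 1
      rw [map_mul, map_inv, map_zpow, map_mul, show QuotientGroup.mk' D₁ d₀ = 1 from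
        (QuotientGroup.eq_one_iff d₀).2 (hD₁m.2 ⟨hd₀, hd₀p⟩), one_mul, map_zpow, mul_inv_cancel]
    have key : (v * (z ^ j * (y ^ s * d)) * v⁻¹) ^ p = (z ^ j * (y ^ s * d)) ^ p := by
      rw [hA, hsplit _ hzj _ (mul_mem (zpow_mem (zpow_mem hD.zmem.1 a) s)
          (mul_mem (zpow_mem hd₀i s) (hD.Dle hd).2)),
        hsplit _ (zpow_mem (zpow_mem hD.zmem a) s) _ (mul_mem (zpow_mem hd₀i s) (hD.Dle hd).2),
        hsplit _ (zpow_mem hD.zmem j) _ hys,
        show (d₀ * y) ^ s * d = ((d₀ * y) ^ s * (y ^ s)⁻¹) * (y ^ s * d) by group, hdrop _ hd₁]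
    rw [conj_pow] at key
    exact mul_inv_eq_iff_eq_mul.1 key
  intro r hr
  have hle : frattini (E i) ≤ (centralizer ({v} : Set G)).subgroupOf (E i) := by
    refine CfsgLib.FrattiniLe.frattini_le_of_pow_of_commutator (p := p) (fun t => ?_) ?_
    · exact mem_subgroupOf.2 (mem_centralizer_singleton_iff.2 (by
        rw [Subgroup.coe_pow]; exact (hpowfix t t.2).symm))
    · rw [_root_.commutator_def]
      refine commutator_le.2 fun t _ t' _ => mem_subgroupOf.2 (mem_centralizer_singleton_iff.2 ?_)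
      have h1 := hcommD t t.2 t' t'.2
      exact hD.cen _ h1 v hD.vk
  have h2 := hle (mem_frn.1 (show ((⟨r, CfsgLib.Fusion.RankThree.frn_le _ hr⟩ : E i) : G) ∈ frn (E i) from hr))
  exact (mem_centralizer_singleton_iff.1 (mem_subgroupOf.1 h2)).symm

end CfsgLib.Fusion.IndexFamily
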