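import Cfsg.Agent.Lib.Fusion.System.RankThree.NormalFamily.Powers

/-!
# Noncommuting conjugates inside a member: the structure of that member

If `z ∈ omz p (E i)` fails to commute with the image `v` of an element of `omz p (E i)` under an
automorphism of `E k`, then `E k` is `⟨z, v⟩` times its centre, and an element of `E i` outside
`E k` moves `v` out of the centre.
-/

set_option autoImplicit false
set_option linter.style.haveILetI false
set_option linter.unusedSectionVars false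

open Subgroup
open scoped commutatorElement

namespace CfsgLib.Fusion.IndexFamily

universe u v

variable {G : Type u} [Group G] [Finite G] {p : ℕ} [Fact p.Prime] {I : Type v} {E : I → Subgroup G}
  [hn : ∀ i, (E i).Normal] {X : ∀ i, Subgroup (MulAut (E i))} {Γ : Subgroup (MulAut G)}

/-- The structure of a member containing noncommuting conjugates. -/
structure ConjData (p : ℕ) (Ei Ek : Subgroup G) (D : Subgroup G) (z v : G) : Prop where
  zmem : z ∈ omz p Ei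
  zk : z ∈ Ek
  vk : v ∈ Ek
  vi : v ∉ Ei
  vp : v ^ p = 1
  ncomm : z * v ≠ v * z
  Dle : D ≤ Ek ⊓ Ei
  zD : z ∉ D
  cen : ∀ d ∈ D, ∀ r ∈ Ek, d * r = r * d
  char : ∀ r : Ek, (∀ s ∈ Ek, (r : G) * s = s * r) → (r : G) ∈ D
  dec : ∀ r ∈ Ek, ∃ a b : ℤ, ∃ d ∈ D, r = z ^ a * v ^ b * d
  decI : ∀ r ∈ Ek ⊓ Ei, ∃ a : ℤ, ∃ d ∈ D, r = z ^ a * d
  comm : ∀ r ∈ Ek, ∀ s ∈ Ek, ⁅r, s⁆ ∈ D
  normal : D.Normal

variable (h : Fam p E X Γ)
include h

/-- The structure from noncommuting conjugates. -/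
theorem Fam.conjData {i k : I} {α : MulAut (E k)} {z : G} (hz : z ∈ omz p (E i)) (hzk : z ∈ E k) {z₀ : E k}
    (hz₀ : (z₀ : G) ∈ omz p (E i)) (hne : z * (α z₀ : G) ≠ (α z₀ : G) * z) :
    ∃ D, ConjData p (E i) (E k) D z (α z₀ : G) ∧ D = (E k ⊓ E i) ⊓ img α (E k ⊓ E i) := by
  have hp := (Fact.out : p.Prime)
  set v : G := (α z₀ : G) with hv
  set H := E k ⊓ E i with hH
  have hvi : v ∉ E i := fun hvi => hne (hz.2.1 v hvi)
  have hki : E k ≠ E i := fun e => hvi (e ▸ (α z₀).2)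
  have hHc := h.card_inf hki
  have hconjH : ∀ r ∈ E k, ∀ y ∈ H, r * y * r⁻¹ ∈ H := fun r _ y hy =>
    (inferInstance : H.Normal).conj_mem y hy r
  have hzimg : z ∉ img α H := fun hzi => by
    obtain ⟨r, hr, hrz⟩ := mem_img.1 hzi
    refine hne ?_
    have h1 : r * z₀ = z₀ * r := Subtype.ext ((hz₀.2.1 r hr.2).symm)
    rw [← hrz, hv, ← Subgroup.coe_mul, ← map_mul, h1, map_mul, Subgroup.coe_mul]
  haveI : ((img α H).subgroupOf (E k)).Normal := ⟨fun y hy r => mem_subgroupOf.2 (by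
    simpa using img_conj α hconjH r.2 (mem_subgroupOf.1 hy))⟩
  haveI : (H.subgroupOf (E k)).Normal := inferInstance
  have hc1 : Nat.card (H.subgroupOf (E k)) = Nat.card H :=
    Nat.card_congr (subgroupOfEquivOfLe inf_le_left).toEquiv
  have hc2 : Nat.card ((img α H).subgroupOf (E k)) = Nat.card H :=
    (Nat.card_congr (subgroupOfEquivOfLe (img_le α H)).toEquiv).trans (card_img α inf_le_left)
  obtain ⟨hcen, -, hdec⟩ := central_of_two_hyperplanes ((h.piv k).pgroup.to_subgroup (E k))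
    (CfsgLib.Fusion.RankThree.sectional_of_injective (h.piv k).rank (E k).subtype (E k).subtype_injective)
    (H := H.subgroupOf (E k)) (H' := (img α H).subgroupOf (E k)) (by rw [hc1]; exact hHc) (by rw [hc2]; exact hHc)
    (w := ⟨z, hzk⟩) (w' := α z₀) ⟨hzk, hz.1⟩ hzimg (mem_img.2 ⟨z₀, ⟨z₀.2, hz₀.1⟩, rfl⟩) (fun hh => hvi hh.2)
    (fun d hd => Subtype.ext (hz.2.1 d (mem_subgroupOf.1 hd.1).2))
    (fun d hd => by
      obtain ⟨r, hr, hrd⟩ := mem_img.1 (mem_subgroupOf.1 hd.2)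
      rw [← show α r = d from Subtype.ext hrd, ← map_mul, ← map_mul]
      exact congrArg α (Subtype.ext (hz₀.2.1 r hr.2)))
  have hvp : v ^ p = 1 := by
    have h1 : z₀ ^ p = 1 := Subtype.ext hz₀.2.2
    have h2 := congrArg α h1
    rw [map_pow, map_one] at h2
    exact congrArg (fun r : E k => (r : G)) h2
  set D := H ⊓ img α H with hD
  have hcen' : ∀ d ∈ D, ∀ r ∈ E k, d * r = r * d := fun d hd r hr =>
    congrArg Subtype.val (mem_center_iff.1 (hcen (show (⟨d, hd.1.1⟩ : E k) ∈ _ ⊓ _ from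
      ⟨mem_subgroupOf.2 hd.1, mem_subgroupOf.2 hd.2⟩)) ⟨r, hr⟩).symm
  have hdec' : ∀ r ∈ E k, ∃ a b : ℤ, ∃ d ∈ D, r = z ^ a * v ^ b * d := by
    intro r hr
    obtain ⟨a, b, d, hd, hrd⟩ := hdec ⟨r, hr⟩
    exact ⟨a, b, d, ⟨mem_subgroupOf.1 hd.1, mem_subgroupOf.1 hd.2⟩, congrArg Subtype.val hrd⟩
  have hzero : ∀ {x w : G} {t : ℤ}, x ^ p = 1 → Commute (x ^ t) w → ¬ Commute x w → (t : ZMod p) = 0 := by
    intro x w t hx hcw hne
    by_contra ht
    refine hne (mem_centralizer_singleton_iff.1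
      (CfsgLib.Fusion.RankThree.mem_of_zpow_mem (H := centralizer ({w} : Set G)) (by rw [hx]; exact one_mem _)
        (mem_centralizer_singleton_iff.2 hcw) ht))
  have hchar : ∀ r : E k, (∀ s ∈ E k, (r : G) * s = s * r) → (r : G) ∈ D := by
    intro r hr
    obtain ⟨a, b, d, hd, hrd⟩ := hdec' r r.2
    have hd' : ∀ s ∈ E k, Commute d s := hcen' d hd
    have hb : (b : ZMod p) = 0 := by
      refine hzero hvp ?_ fun hh => hne hh.symm.eq
      have h3 : Commute (r : G) z := hr z hzk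
      rw [hrd] at h3
      have h4 := (((Commute.refl z).zpow_left a).inv_left.mul_left h3).mul_left (hd' z hzk).inv_left
      simpa [mul_assoc] using h4
    rw [CfsgLib.Fusion.LineTorus.zpow_congr hvp (r := b) (s := 0) (by simpa using hb), zpow_zero, mul_one] at hrd
    have ha : (a : ZMod p) = 0 := by
      refine hzero hz.2.2 ?_ hne
      have h3 : Commute (r : G) v := hr v (α z₀).2
      rw [hrd] at h3
      have h4 := h3.mul_left (hd' v (α z₀).2).inv_left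
      simpa [mul_assoc] using h4
    rw [CfsgLib.Fusion.LineTorus.zpow_congr hz.2.2 (r := a) (s := 0) (by simpa using ha), zpow_zero, one_mul] at hrd
    rw [hrd]; exact hd
  have hDnormal : D.Normal := ⟨fun d hd g => hchar ⟨g * d * g⁻¹, (hn k).conj_mem d hd.1.1 g⟩ fun s hs => by
    have h1 := hcen' d hd (g⁻¹ * s * g) (by simpa using (hn k).conj_mem s hs g⁻¹)
    calc g * d * g⁻¹ * s = g * (d * (g⁻¹ * s * g)) * g⁻¹ := by group
      _ = s * (g * d * g⁻¹) := by rw [h1]; group⟩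
  refine ⟨D, ⟨hz, hzk, (α z₀).2, hvi, hvp, hne, inf_le_left, fun hzD => hne (hcen' z hzD v (α z₀).2), hcen', hchar,
    hdec', fun r hr => ?_, ?_, hDnormal⟩, rfl⟩
  · obtain ⟨a, b, d, hd, hrd⟩ := hdec' r hr.1
    refine ⟨a, d, hd, ?_⟩
    have hb : (b : ZMod p) = 0 := by
      by_contra hb0
      refine hvi (CfsgLib.Fusion.RankThree.mem_of_zpow_mem (by rw [hvp]; exact one_mem _) ?_ hb0)
      have h1 := mul_mem (mul_mem ((E i).inv_mem (zpow_mem hz.1 a)) hr.2) ((E i).inv_mem hd.1.2)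
      rw [hrd] at h1
      convert h1 using 1
      group
    rw [hrd, CfsgLib.Fusion.LineTorus.zpow_congr hvp (r := b) (s := 0) (by simpa using hb), zpow_zero, mul_one]
  · haveI := hDnormal
    set π := QuotientGroup.mk' D
    have hgen : Commute (π z) (π v) := by
      rw [← commutatorElement_eq_one_iff_commute, ← map_commutatorElement]
      refine (QuotientGroup.eq_one_iff _).2 ⟨⟨?_, ?_⟩, ?_⟩
      · exact mul_mem (mul_mem (mul_mem hzk (α z₀).2) ((E k).inv_mem hzk)) ((E k).inv_mem (α z₀).2)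
      · rw [commutatorElement_def, show z * v * z⁻¹ * v⁻¹ = z * (v * z⁻¹ * v⁻¹) by group]
        exact mul_mem hz.1 ((hn i).conj_mem z⁻¹ ((E i).inv_mem hz.1) v)
      · rw [commutatorElement_def]
        exact mul_mem (img_conj α hconjH hzk (mem_img.2 ⟨z₀, ⟨z₀.2, hz₀.1⟩, rfl⟩))
          ((img α H).inv_mem (mem_img.2 ⟨z₀, ⟨z₀.2, hz₀.1⟩, rfl⟩))
    intro r hr s hs
    rw [← QuotientGroup.eq_one_iff]
    show π ⁅r, s⁆ = 1
    rw [map_commutatorElement, commutatorElement_eq_one_iff_mul_comm]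
    obtain ⟨a, b, d, hd, rfl⟩ := hdec' r hr
    obtain ⟨a', b', d', hd', rfl⟩ := hdec' s hs
    rw [map_mul, map_mul, map_mul, map_mul, show π d = 1 from (QuotientGroup.eq_one_iff d).2 hd,
      show π d' = 1 from (QuotientGroup.eq_one_iff d').2 hd', map_zpow, map_zpow, map_zpow, map_zpow, mul_one, mul_one]
    exact ((((Commute.refl (π z)).zpow_zpow a a').mul_right (hgen.zpow_zpow a b')).mul_left
      ((hgen.symm.zpow_zpow b a').mul_right ((Commute.refl (π v)).zpow_zpow b b'))).eq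

/-- An element of `E i` outside `E k` moves `v` out of the centre of `E k`. -/
theorem Fam.conj_moves (hall : ∀ i j, omz p (E i) ≤ E j) {i k : I} {α : MulAut (E k)} (hα : α ∈ X k) {z : G}
    {z₀ : E k} (hz₀ : (z₀ : G) ∈ omz p (E i)) {D : Subgroup G} (hD : ConjData p (E i) (E k) D z (α z₀ : G))
    {y : G} (hy : y ∈ E i) (hyk : y ∉ E k) :
    (α z₀ : G) * y * (α z₀ : G)⁻¹ * y⁻¹ ∈ E k ⊓ E i ∧ (α z₀ : G) * y * (α z₀ : G)⁻¹ * y⁻¹ ∉ D := by
  set v : G := (α z₀ : G) with hv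
  set u := v * y * v⁻¹ * y⁻¹ with hu
  have huH : u ∈ E k ⊓ E i := by
    refine ⟨?_, mul_mem ((hn i).conj_mem y hy v) ((E i).inv_mem hy)⟩
    rw [hu, show v * y * v⁻¹ * y⁻¹ = v * (y * v⁻¹ * y⁻¹) by group]
    exact mul_mem hD.vk ((hn k).conj_mem v⁻¹ ((E k).inv_mem hD.vk) y)
  refine ⟨huH, fun huD => ?_⟩
  have hDinv : ∀ (φ : MulAut (E k)) (r : E k), (r : G) ∈ D → (φ r : G) ∈ D := by
    intro φ r hr
    refine hD.char (φ r) fun s hs => ?_
    obtain ⟨t, ht⟩ := φ.surjective ⟨s, hs⟩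
    have h1 : r * t = t * r := Subtype.ext (hD.cen r hr t t.2)
    have h2 := congrArg (fun q : E k => (q : G)) (congrArg φ h1)
    simp only [map_mul, ht, Subgroup.coe_mul] at h2
    exact h2
  -- automorphisms trivial on `E k / D`
  let N : Subgroup (MulAut (E k)) :=
    { carrier := {σ | σ ∈ X k ∧ ∀ r : E k, (r : G)⁻¹ * (σ r : G) ∈ D}
      one_mem' := ⟨(X k).one_mem, fun r => by simp⟩
      mul_mem' := by
        rintro σ τ ⟨hσ, hσ'⟩ ⟨hτ, hτ'⟩
        refine ⟨(X k).mul_mem hσ hτ, fun r => ?_⟩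
        rw [MulAut.mul_apply, show (r : G)⁻¹ * (σ (τ r) : G) = ((r : G)⁻¹ * (τ r : G)) * ((τ r : G)⁻¹ * (σ (τ r) : G)) by group]
        exact mul_mem (hτ' r) (hσ' _)
      inv_mem' := by
        rintro σ ⟨hσ, hσ'⟩
        refine ⟨(X k).inv_mem hσ, fun r => ?_⟩
        have h1 := inv_mem (hσ' (σ⁻¹ r))
        rw [MulAut.apply_inv_self, mul_inv_rev, inv_inv] at h1
        exact h1 }
  have hNconj : ∀ φ ∈ X k, ∀ σ ∈ N, φ * σ * φ⁻¹ ∈ N := by
    intro φ hφ σ hσ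
    refine ⟨(X k).mul_mem ((X k).mul_mem hφ hσ.1) ((X k).inv_mem hφ), fun r => ?_⟩
    have h1 := hDinv φ ((φ⁻¹ r)⁻¹ * σ (φ⁻¹ r)) (hσ.2 (φ⁻¹ r))
    rw [map_mul, map_inv, MulAut.apply_inv_self] at h1
    simpa [MulAut.mul_apply] using h1
  have hQN : (MulAut.conjNormal (H := E k)).range ≤ N := by
    rintro _ ⟨g, rfl⟩
    obtain ⟨a, e, he, rfl⟩ := (h.piv k).decomp hyk g
    rw [map_mul, map_zpow]
    refine mul_mem (zpow_mem (show MulAut.conjNormal y ∈ N from ⟨(h.piv k).qle ⟨y, rfl⟩, fun r => ?_⟩) a)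
      (show MulAut.conjNormal e ∈ N from ⟨(h.piv k).qle ⟨e, rfl⟩, fun r => ?_⟩)
    · show (r : G)⁻¹ * (y * r * y⁻¹) ∈ D
      obtain ⟨s, b, d, hd, hrd⟩ := hD.dec r r.2
      have hyv : y * v * y⁻¹ = u⁻¹ * v := by rw [hu]; group
      have hyz : y * z * y⁻¹ = z := by rw [← hD.zmem.2.1 y hy, mul_inv_cancel_right]
      rw [hrd, show y * (z ^ s * v ^ b * d) * y⁻¹ = (y * z * y⁻¹) ^ s * (y * v * y⁻¹) ^ b * (y * d * y⁻¹) by
        rw [conj_zpow, conj_zpow]; group, hyz, hyv,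
        ((show Commute u v from hD.cen u huD v hD.vk).inv_left).mul_zpow]
      have huv : Commute (u⁻¹ ^ b) (v ^ b) := ((show Commute u v from hD.cen u huD v hD.vk).inv_left).zpow_zpow b b
      rw [huv.eq, show (z ^ s * v ^ b * d)⁻¹ * (z ^ s * (v ^ b * u⁻¹ ^ b) * (y * d * y⁻¹)) =
        d⁻¹ * u⁻¹ ^ b * (y * d * y⁻¹) by group]
      exact mul_mem (mul_mem (inv_mem hd) (zpow_mem (inv_mem huD) b)) (hD.normal.conj_mem d hd y)
    · show (r : G)⁻¹ * (e * r * e⁻¹) ∈ D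
      have h1 := hD.comm (r : G)⁻¹ ((E k).inv_mem r.2) e he
      rw [commutatorElement_def, inv_inv] at h1
      simpa [mul_assoc] using h1
  obtain ⟨σ, hσ, μ, hμ, hμN, hαe⟩ := (h.piv k).frattini_arg hQN (fun σ hσ => hσ.1) hNconj hα
  obtain ⟨γ, hγ, hγe⟩ := (h.piv k).ext μ hμ hμN
  -- the image of `z₀` under `μ` lies in `E i`
  obtain ⟨j, hj, hjX⟩ := h.map γ hγ i
  have hγz : γ (z₀ : G) ∈ omz p (E j) := by
    refine ⟨hj.le (mem_map_of_mem γ.toMonoidHom hz₀.1), fun e he => ?_, by rw [← map_pow, hz₀.2.2, map_one]⟩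
    obtain ⟨e', he', rfl⟩ := hj.ge he
    show γ (z₀ : G) * γ e' = γ e' * γ (z₀ : G)
    rw [← map_mul, ← map_mul, hz₀.2.1 e' he']
  have hμi : (μ z₀ : G) ∈ E i := hγe z₀ ▸ hall j i hγz
  refine hD.vi ?_
  have h1 := hσ.2 (μ z₀)
  have h2 := mul_mem hμi (hD.Dle h1).2
  rwa [mul_inv_cancel_left, ← MulAut.mul_apply, ← hαe, ← hv] at h2

end CfsgLib.Fusion.IndexFamily
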