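import Cfsg.Agent.Lib.Fusion.System.RankThree.NormalFamily.Powers

/-!
# Coordinates on a group of the shape of a Sylow subgroup of `Sp₄(p)`

Four elements with fixed relations give unique normal forms, so two such groups are isomorphic.
-/

set_option autoImplicit false
set_option linter.style.haveILetI false
set_option linter.unusedSectionVars false

open Subgroup
open scoped commutatorElement

namespace CfsgLib.Fusion.IndexFamily

universe u v

/-- The relations between the four generators. -/
structure Coords (p : ℕ) {G : Type u} [Group G] (z y w e : G) : Prop where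
  zy : Commute z y
  zw : Commute z w
  yw : Commute y w
  zp : z ^ p = 1
  yp : y ^ p = 1
  wp : w ^ p = 1
  ep : e ^ p = 1
  cz : e * z = z * y * e
  cy : e * y = y * w * e
  cw : e * w = w * e

section

variable {G : Type u} [Group G]

/-- The product with given exponents in the abelian part. -/
def abPart (z y w : G) (a b c : ℕ) : G := z ^ a * y ^ b * w ^ c

/-- The normal form with given exponents. -/
def normalWord (z y w e : G) (x : ℕ × ℕ × ℕ × ℕ) : G := abPart z y w x.1 x.2.1 x.2.2.1 * e ^ x.2.2.2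

/-- The exponents of a product of normal forms. -/
def combine (x x' : ℕ × ℕ × ℕ × ℕ) : ℕ × ℕ × ℕ × ℕ :=
  (x.1 + x'.1, x.2.1 + (x.2.2.2 * x'.1 + x'.2.1),
    x.2.2.1 + (x.2.2.2.choose 2 * x'.1 + (x.2.2.2 * x'.2.1 + x'.2.2.1)), x.2.2.2 + x'.2.2.2)

/-- Exponents below `p` as natural numbers. -/
def quadVal {p : ℕ} (q : Fin p × Fin p × Fin p × Fin p) : ℕ × ℕ × ℕ × ℕ :=
  ((q.1 : ℕ), (q.2.1 : ℕ), (q.2.2.1 : ℕ), (q.2.2.2 : ℕ))

/-- Reduction of exponents. -/
def quadRed (p : ℕ) [NeZero p] (x : ℕ × ℕ × ℕ × ℕ) : Fin p × Fin p × Fin p × Fin p :=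
  (Fin.ofNat p x.1, Fin.ofNat p x.2.1, Fin.ofNat p x.2.2.1, Fin.ofNat p x.2.2.2)

variable {p : ℕ} {z y w e : G} (h : Coords p z y w e)
include h

theorem Coords.ab_mul (a b c a' b' c' : ℕ) :
    abPart z y w a b c * abPart z y w a' b' c' = abPart z y w (a + a') (b + b') (c + c') := by
  rw [abPart, abPart, abPart, (((h.zw.symm.pow_pow c a').mul_right (h.yw.symm.pow_pow c b'))).mul_mul_mul_comm,
    (h.zy.symm.pow_pow b a').mul_mul_mul_comm, ← pow_add, ← pow_add, ← pow_add]

theorem Coords.e_pow_z (k : ℕ) : e ^ k * z = abPart z y w 1 k (k.choose 2) * e ^ k := by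
  induction k with
  | zero => simp [abPart]
  | succ k ih =>
    have h1 : e * y ^ k = (y * w) ^ k * e := (show SemiconjBy e y (y * w) from h.cy).pow_right k
    have h2 : e * w ^ (k.choose 2) = w ^ (k.choose 2) * e := (show Commute e w from h.cw).pow_right _
    calc e ^ (k + 1) * z = e * (e ^ k * z) := by rw [pow_succ', mul_assoc]
      _ = (e * z) * y ^ k * w ^ (k.choose 2) * e ^ k := by rw [ih, abPart, pow_one]; simp only [mul_assoc]
      _ = z * y * (e * y ^ k) * w ^ (k.choose 2) * e ^ k := by rw [h.cz]; simp only [mul_assoc]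
      _ = z * y * (y * w) ^ k * (e * w ^ (k.choose 2)) * e ^ k := by rw [h1]; simp only [mul_assoc]
      _ = z * (y * y ^ k) * (w ^ k * w ^ (k.choose 2)) * (e * e ^ k) := by
        rw [h2, h.yw.mul_pow]; simp only [mul_assoc]
      _ = _ := by
        rw [← pow_succ', ← pow_succ', ← pow_add, abPart, pow_one, Nat.choose_succ_succ, Nat.choose_one_right]

theorem Coords.e_pow_y (k : ℕ) : e ^ k * y = abPart z y w 0 1 k * e ^ k := by
  induction k with
  | zero => simp [abPart]
  | succ k ih =>
    have h2 : e * w ^ k = w ^ k * e := (show Commute e w from h.cw).pow_right _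
    calc e ^ (k + 1) * y = e * (e ^ k * y) := by rw [pow_succ', mul_assoc]
      _ = e * y * w ^ k * e ^ k := by rw [ih, abPart, pow_zero, pow_one, one_mul]; simp only [mul_assoc]
      _ = y * w * (e * w ^ k) * e ^ k := by rw [h.cy]; simp only [mul_assoc]
      _ = y * (w * w ^ k) * (e * e ^ k) := by rw [h2]; simp only [mul_assoc]
      _ = _ := by rw [← pow_succ', ← pow_succ', abPart, pow_zero, pow_one, one_mul]

theorem Coords.ab_pow (a b c n : ℕ) : abPart z y w a b c ^ n = abPart z y w (a * n) (b * n) (c * n) := by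
  induction n with
  | zero => simp [abPart]
  | succ n ih => rw [pow_succ, ih, h.ab_mul, Nat.mul_succ, Nat.mul_succ, Nat.mul_succ]

theorem Coords.e_pow_ab (k a b c : ℕ) :
    e ^ k * abPart z y w a b c = abPart z y w a (k * a + b) (k.choose 2 * a + (k * b + c)) * e ^ k := by
  have h1 : e ^ k * z ^ a = abPart z y w a (k * a) (k.choose 2 * a) * e ^ k := by
    have := ((show SemiconjBy (e ^ k) z (abPart z y w 1 k (k.choose 2)) from h.e_pow_z k).pow_right a).eq
    rwa [h.ab_pow, one_mul] at this
  have h2 : e ^ k * y ^ b = abPart z y w 0 b (k * b) * e ^ k := by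
    have := ((show SemiconjBy (e ^ k) y (abPart z y w 0 1 k) from h.e_pow_y k).pow_right b).eq
    rwa [h.ab_pow, zero_mul, one_mul] at this
  have h3 : e ^ k * w ^ c = abPart z y w 0 0 c * e ^ k := by
    rw [abPart, pow_zero, pow_zero, one_mul, one_mul]
    exact ((show Commute e w from h.cw).pow_pow k c).eq
  calc e ^ k * abPart z y w a b c = e ^ k * z ^ a * y ^ b * w ^ c := by simp only [abPart, mul_assoc]
    _ = abPart z y w a (k * a) (k.choose 2 * a) * (e ^ k * y ^ b) * w ^ c := by rw [h1]; simp only [mul_assoc]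
    _ = abPart z y w a (k * a) (k.choose 2 * a) * abPart z y w 0 b (k * b) * (e ^ k * w ^ c) := by
      rw [h2]; simp only [mul_assoc]
    _ = _ := by
      rw [h3, h.ab_mul, ← mul_assoc, h.ab_mul, add_zero, add_zero, add_zero, add_assoc]

theorem Coords.word_mul (x x' : ℕ × ℕ × ℕ × ℕ) :
    normalWord z y w e x * normalWord z y w e x' = normalWord z y w e (combine x x') := by
  simp only [normalWord, combine]
  rw [mul_assoc (abPart z y w _ _ _), ← mul_assoc (e ^ _), h.e_pow_ab, mul_assoc (abPart z y w _ _ _) (e ^ _),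
    ← pow_add, ← mul_assoc, h.ab_mul]

theorem Coords.word_red [NeZero p] (x : ℕ × ℕ × ℕ × ℕ) :
    normalWord z y w e (quadVal (quadRed p x)) = normalWord z y w e x := by
  simp only [normalWord, abPart, quadVal, quadRed, Fin.val_ofNat]
  rw [← pow_eq_pow_mod x.1 h.zp, ← pow_eq_pow_mod x.2.1 h.yp, ← pow_eq_pow_mod x.2.2.1 h.wp,
    ← pow_eq_pow_mod x.2.2.2 h.ep]

/-- The normal forms are unique. -/
theorem Coords.injective [Finite G] [Fact p.Prime] {A : Subgroup G} (hz : z ∈ A) (hy : y ∈ A) (hw : w ∈ A)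
    (he : e ∉ A) (hw1 : w ≠ 1) :
    Function.Injective fun q : Fin p × Fin p × Fin p × Fin p => normalWord z y w e (quadVal q) := by
  have hord : orderOf w = p := orderOf_eq_prime h.wp hw1
  have hinj : ∀ i j : Fin p, w ^ (i : ℕ) = w ^ (j : ℕ) → i = j := fun i j hij =>
    Fin.ext (pow_injOn_Iio_orderOf (by rw [Set.mem_Iio, hord]; exact i.2) (by rw [Set.mem_Iio, hord]; exact j.2) hij)
  have hmem : ∀ a b c, abPart z y w a b c ∈ A := fun a b c =>
    mul_mem (mul_mem (pow_mem hz a) (pow_mem hy b)) (pow_mem hw c)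
  rintro ⟨a, b, c, k⟩ ⟨a', b', c', k'⟩ heq
  simp only [normalWord, quadVal] at heq
  have hk : k = k' := by
    by_contra hne
    have hA : e ^ ((k : ℤ) - (k' : ℤ)) ∈ A := by
      rw [zpow_sub, zpow_natCast, zpow_natCast,
        show e ^ (k : ℕ) = (abPart z y w a b c)⁻¹ * abPart z y w a' b' c' * e ^ (k' : ℕ) by
          rw [mul_assoc, ← heq, inv_mul_cancel_left], mul_inv_cancel_right]
      exact mul_mem (inv_mem (hmem _ _ _)) (hmem _ _ _)
    refine he (CfsgLib.Fusion.RankThree.mem_of_zpow_mem (by rw [h.ep]; exact one_mem _) hA ?_)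
    intro h0
    push_cast at h0
    exact hne (Fin.ext (by
      have h1 := congrArg ZMod.val (sub_eq_zero.1 h0)
      rwa [ZMod.val_natCast_of_lt k.2, ZMod.val_natCast_of_lt k'.2] at h1))
  subst hk
  have h1 : abPart z y w (a : ℕ) (b : ℕ) (c : ℕ) = abPart z y w a' b' c' := mul_right_cancel heq
  have hstep : ∀ {i j l i' j' l' : ℕ}, abPart z y w i j l = abPart z y w i' j' l' →
      abPart z y w 0 i j = abPart z y w 0 i' j' := by
    intro i j l i' j' l' hij
    have key : ∀ i j l, e ^ 1 * abPart z y w i j l = abPart z y w i j l * abPart z y w 0 i j * e ^ 1 := by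
      intro i j l
      rw [h.e_pow_ab, h.ab_mul, show Nat.choose 1 2 = 0 from rfl]
      congr 2 <;> omega
    have h2 := key i j l
    rw [hij, key] at h2
    exact (mul_left_cancel (mul_right_cancel h2)).symm
  have h2 := hstep h1
  have h3 := hstep h2
  have ha : a = a' := hinj a a' (by simpa [abPart] using h3)
  subst ha
  have hb : b = b' := hinj b b' (by
    rw [abPart, abPart] at h2
    exact mul_left_cancel h2)
  subst hb
  have hc : c = c' := hinj c c' (mul_left_cancel h1)
  subst hc
  rfl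

omit h

/-- Normal forms are preserved by homomorphisms. -/
theorem map_normalWord {H : Type v} [Group H] (f : G →* H) (x : ℕ × ℕ × ℕ × ℕ) :
    f (normalWord z y w e x) = normalWord (f z) (f y) (f w) (f e) x := by
  simp only [normalWord, abPart, map_mul, map_pow]

end

/-- Coordinates in which every element has a unique normal form. -/
def IsChart (p : ℕ) (G : Type u) [Group G] : Prop :=
  ∃ z y w e : G, Coords p z y w e ∧
    Function.Bijective fun q : Fin p × Fin p × Fin p × Fin p => normalWord z y w e (quadVal q)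

/-- Two groups with coordinates are isomorphic. -/
theorem IsChart.nonempty_equiv {p : ℕ} [NeZero p] {G : Type u} [Group G] {H : Type v} [Group H]
    (hG : IsChart p G) (hH : IsChart p H) : Nonempty (G ≃* H) := by
  obtain ⟨z, y, w, e, hc, hb⟩ := hG
  obtain ⟨z', y', w', e', hc', hb'⟩ := hH
  set f := Equiv.ofBijective _ hb with hf
  set f' := Equiv.ofBijective _ hb' with hf'
  refine ⟨⟨f.symm.trans f', fun x x' => ?_⟩⟩
  obtain ⟨q, rfl⟩ := f.surjective x
  obtain ⟨q', rfl⟩ := f.surjective x'
  have h1 : f q * f q' = f (quadRed p (combine (quadVal q) (quadVal q'))) := by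
    show normalWord z y w e _ * normalWord z y w e _ = normalWord z y w e _
    rw [hc.word_mul, hc.word_red]
  have h2 : f' q * f' q' = f' (quadRed p (combine (quadVal q) (quadVal q'))) := by
    show normalWord z' y' w' e' _ * normalWord z' y' w' e' _ = normalWord z' y' w' e' _
    rw [hc'.word_mul, hc'.word_red]
  show f' (f.symm (f q * f q')) = f' (f.symm (f q)) * f' (f.symm (f q'))
  rw [h1, f.symm_apply_apply, f.symm_apply_apply, f.symm_apply_apply, h2]

/-- A group of the shape has coordinates. -/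
theorem Shape.isChart {G : Type u} [Group G] [Finite G] {p : ℕ} [Fact p.Prime] (hs : Shape p G) :
    IsChart p G := by
  obtain ⟨A, hAn, hcG, hcA, hab, hexp, e, he, hep, z, hz, hw1⟩ := hs
  haveI := hAn
  have hp := (Fact.out : p.Prime)
  have hG : IsPGroup p G := IsPGroup.of_card hcG
  have hconj : ∀ x ∈ A, ⁅e, x⁆ ∈ A := fun x hx => mul_mem (hAn.conj_mem x hx e) (inv_mem hx)
  set y := ⁅e, z⁆ with hy
  set w := ⁅e, y⁆ with hw
  have hyA : y ∈ A := hconj z hz
  have hwA : w ∈ A := hconj y hyA
  have hrel : ∀ x ∈ A, e * x = x * ⁅e, x⁆ * e := fun x hx => by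
    rw [hab x hx _ (hconj x hx), commutatorElement_def]
    group
  have hstep : ∀ (B : Subgroup G) [B.Normal] (n : ℕ), Nat.card B ≤ p ^ (n + 1) →
      Nat.card (⁅B, (⊤ : Subgroup G)⁆ : Subgroup G) ≤ p ^ n := by
    intro B _ n hB
    rcases lt_or_eq_of_le (commutator_le_left B (⊤ : Subgroup G)) with hlt | heq
    · have h1 := (CfsgLib.MaxClassCube.mul_card_le hG hlt).trans hB
      rw [pow_succ'] at h1
      exact Nat.le_of_mul_le_mul_left h1 hp.pos
    · have h1 : B ≤ ⊥ := CfsgLib.Fusion.RankThree.le_of_le_sup_commutator hG (by rw [bot_sup_eq, heq])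
      rw [heq, le_bot_iff.1 h1, card_bot]
      exact Nat.one_le_pow _ _ hp.pos
  have hmemc : ∀ {B : Subgroup G} {x : G}, x ∈ B → ⁅e, x⁆ ∈ ⁅B, (⊤ : Subgroup G)⁆ := fun {B x} hx => by
    rw [commutator_comm]
    exact commutator_mem_commutator (mem_top e) hx
  have hc3 := hstep _ 0 (hstep _ 1 (hstep A 2 hcA.le))
  have hcw : ⁅e, w⁆ = 1 := by
    have h1 := hmemc (hmemc (hmemc hz))
    rw [← hy, ← hw] at h1
    have h2 := eq_bot_of_card_le (⁅⁅⁅A, (⊤ : Subgroup G)⁆, (⊤ : Subgroup G)⁆, (⊤ : Subgroup G)⁆) (by simpa using hc3)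
    exact mem_bot.1 (h2.le h1)
  have hco : Coords p z y w e := ⟨hab z hz y hyA, hab z hz w hwA, hab y hyA w hwA, hexp z hz, hexp y hyA,
    hexp w hwA, hep, hrel z hz, hrel y hyA, commutatorElement_eq_one_iff_mul_comm.1 hcw⟩
  refine ⟨z, y, w, e, hco, (Nat.bijective_iff_injective_and_card _).2 ⟨hco.injective hz hyA hwA he hw1, ?_⟩⟩
  simp only [Nat.card_prod, Nat.card_fin, hcG]
  ring

end CfsgLib.Fusion.IndexFamily
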