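import Cfsg.Agent.Lib.Fusion.System.RankThree.NormalFamily.Powers
import Cfsg.Agent.Lib.Fusion.System.Transvection

/-!
# A family of elementary abelian subgroups in a group of order `p ^ 4`

The fixed lines of the automizers coincide and form a common invariant subgroup.
-/

set_option autoImplicit false
set_option linter.style.haveILetI false
set_option linter.unusedSectionVars false

open Subgroup
open scoped commutatorElement

namespace CfsgLib.Fusion.IndexFamily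

open CfsgLib.Fusion.RankThree (InvE)
open CfsgLib.Fusion.Transvection (dlt IsTrv dlt_eq_one exists_neg)

universe u v

variable {G : Type u} [Group G] [Finite G] {p : ℕ} [Fact p.Prime] {I : Type v} {E : I → Subgroup G}
  [hn : ∀ i, (E i).Normal] {X : ∀ i, Subgroup (MulAut (E i))} {Γ : Subgroup (MulAut G)}

/-- In a `p`-group only the identity equals its inverse, for odd `p`. -/
theorem eq_one_of_inv_eq (hG : IsPGroup p G) (hp : p ≠ 2) {c : G} (hc : c⁻¹ = c) : c = 1 := by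
  have h2 : c ^ 2 = 1 := by rw [pow_two]; nth_rw 1 [← hc]; exact inv_mul_cancel c
  obtain ⟨n, hn⟩ := hG c
  have hco : Nat.Coprime (p ^ n) 2 :=
    Nat.Coprime.pow_left n ((Nat.coprime_primes Fact.out Nat.prime_two).2 hp)
  rw [← orderOf_eq_one_iff]
  exact Nat.eq_one_of_dvd_coprimes hco (orderOf_dvd_of_pow_eq_one hn) (orderOf_dvd_of_pow_eq_one h2)

variable (h : Fam p E X Γ)
include h

/-- `Γ` acts by commuting maps on an elementary centre with an invariant subgroup of order `p`. -/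
theorem Fam.commute_center (hG : IsPGroup p G) {c₀ : G} (hc : c₀ ^ p = 1)
    (hinv : ∀ γ ∈ Γ, γ c₀ ∈ zpowers c₀) {Z : Subgroup G} (hZ : Z ≤ center G)
    (hZc : Nat.card Z ≤ p * Nat.card (zpowers c₀)) (hcZ : c₀ ∈ Z) (hZi : ∀ γ ∈ Γ, ∀ x ∈ Z, γ x ∈ Z)
    {σ τ : MulAut G} (hσ : σ ∈ Γ) (hτ : τ ∈ Γ) {x : G} (hx : x ∈ Z) : σ (τ x) = τ (σ x) := by
  set κ := σ⁻¹ * τ⁻¹ * σ * τ with hκ
  have hκΓ : κ ∈ Γ := Γ.mul_mem (Γ.mul_mem (Γ.mul_mem (Γ.inv_mem hσ) (Γ.inv_mem hτ)) hσ) hτ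
  suffices hfix : κ x = x by
    have h1 := congrArg τ (congrArg σ hfix)
    rw [hκ, MulAut.mul_apply, MulAut.mul_apply, MulAut.mul_apply, MulAut.apply_inv_self, MulAut.apply_inv_self] at h1
    exact h1
  -- `κ` fixes `c₀`
  have hwt : ∀ γ ∈ Γ, ∃ k : ℤ, γ c₀ = c₀ ^ k := fun γ hγ => by
    obtain ⟨k, hk⟩ := mem_zpowers_iff.1 (hinv γ hγ)
    exact ⟨k, hk.symm⟩
  have hκc : κ c₀ = c₀ := by
    obtain ⟨a, ha⟩ := hwt σ hσ
    obtain ⟨b, hb⟩ := hwt τ hτ
    have h1 : σ (τ c₀) = τ (σ c₀) := by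
      rw [hb, map_zpow, ha, map_zpow, hb, ← zpow_mul, ← zpow_mul, mul_comm]
    rw [hκ, MulAut.mul_apply, MulAut.mul_apply, MulAut.mul_apply, h1, MulAut.inv_apply_self,
      MulAut.inv_apply_self]
  have hcc : ∀ y ∈ zpowers c₀, κ y = y := fun y hy => by
    obtain ⟨k, rfl⟩ := mem_zpowers_iff.1 hy
    rw [map_zpow, hκc]
  have hzle : zpowers c₀ ≤ Z := zpowers_le.2 hcZ
  -- trivial on the upper factor
  have hstep : ∀ y ∈ Z, y⁻¹ * κ y ∈ zpowers c₀ := by
    intro y hy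
    by_cases hy0 : y ∈ zpowers c₀
    · exact mul_mem (inv_mem hy0) (by rw [hcc y hy0]; exact hy0)
    haveI : (zpowers c₀).Normal := CfsgLib.Schur.normal_le_center (hzle.trans hZ)
    have hcard : Nat.card Z = p * Nat.card (zpowers c₀) := le_antisymm hZc
      (CfsgLib.MaxClassCube.mul_card_le hG (lt_of_le_of_ne hzle fun e => hy0 (e ▸ hy)))
    have hgen : ∀ γ ∈ Γ, ∃ k : ℤ, (y ^ k)⁻¹ * γ y ∈ zpowers c₀ := fun γ hγ =>
      CfsgLib.Fusion.RankThree.exists_zpow_inv_mul_mem hG hzle hcard hy hy0 (hZi γ hγ y hy)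
    obtain ⟨a, ha⟩ := hgen σ hσ
    obtain ⟨b, hb⟩ := hgen τ hτ
    have hmv : ∀ γ ∈ Γ, ∀ u ∈ zpowers c₀, γ u ∈ zpowers c₀ := fun γ hγ u hu => by
      obtain ⟨k, rfl⟩ := mem_zpowers_iff.1 hu
      rw [map_zpow]
      exact zpow_mem (hinv γ hγ) k
    set π := QuotientGroup.mk' (zpowers c₀) with hπ
    have hπe : ∀ {u v : G}, u⁻¹ * v ∈ zpowers c₀ → π u = π v := fun hm => (QuotientGroup.eq).2 hm
    have hπa : π (σ y) = π y ^ a := by rw [← map_zpow]; exact (hπe ha).symm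
    have hπb : π (τ y) = π y ^ b := by rw [← map_zpow]; exact (hπe hb).symm
    have hcongr : ∀ γ ∈ Γ, ∀ u v : G, π u = π v → π (γ u) = π (γ v) := fun γ hγ u v huv =>
      hπe (by rw [← map_inv, ← map_mul]; exact hmv γ hγ _ (QuotientGroup.eq.1 huv))
    have h1 : π (σ (τ y)) = π (τ (σ y)) := by
      rw [hcongr σ hσ (τ y) (y ^ b) (by rw [hπb, map_zpow]), hcongr τ hτ (σ y) (y ^ a) (by rw [hπa, map_zpow]),
        map_zpow σ, map_zpow τ, map_zpow π, map_zpow π, hπa, hπb, ← zpow_mul, ← zpow_mul, mul_comm]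
    refine QuotientGroup.eq.1 ((show π (κ y) = π y from ?_).symm)
    have h2 := hcongr _ (Γ.inv_mem hσ) _ _ (hcongr _ (Γ.inv_mem hτ) _ _ h1)
    rw [hκ, MulAut.mul_apply, MulAut.mul_apply, MulAut.mul_apply, h2, MulAut.inv_apply_self, MulAut.inv_apply_self]
  have hκp : ∀ y ∈ Z, (κ ^ p) y = y := by
    intro y hy
    have hpw : ∀ k : ℕ, (κ ^ k) y = y * (y⁻¹ * κ y) ^ k := by
      intro k
      induction k with
      | zero => simp
      | succ k ih =>
        rw [pow_succ', MulAut.mul_apply, ih, map_mul, map_pow, hcc _ (hstep y hy), pow_succ', ← mul_assoc,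
          mul_inv_cancel_left]
    obtain ⟨k, hk⟩ := mem_zpowers_iff.1 (hstep y hy)
    rw [hpw, ← hk, ← zpow_natCast, ← zpow_mul, mul_comm, zpow_mul, zpow_natCast, hc, one_zpow, mul_one]
  -- the group induced on `Z` has order prime to `p`
  haveI := finite_mulAut (⊤ : Subgroup G)
  haveI : Finite (MulAut G) := Finite.of_injective (fun a : MulAut G => (a : G → G)) DFunLike.coe_injective
  let f : Γ →* Equiv.Perm Z :=
    { toFun := fun γ =>
        { toFun := fun u => ⟨(γ : MulAut G) u, hZi _ γ.2 u u.2⟩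
          invFun := fun u => ⟨((γ : MulAut G))⁻¹ u, hZi _ (Γ.inv_mem γ.2) u u.2⟩
          left_inv := fun u => Subtype.ext (MulAut.inv_apply_self _ _ _)
          right_inv := fun u => Subtype.ext (MulAut.apply_inv_self _ _ _) }
      map_one' := rfl
      map_mul' := fun _ _ => rfl }
  have hker : ((MulAut.conj (G := G)).range).subgroupOf Γ ≤ f.ker := by
    rintro ⟨γ, hγ⟩ ⟨g, hg⟩
    refine Equiv.ext fun u => Subtype.ext ?_
    show γ (u : G) = u
    rw [show γ = MulAut.conj g from hg.symm, MulAut.conj_apply, mem_center_iff.1 (hZ u.2) g, mul_inv_cancel_right]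
  have hrange : ¬ p ∣ Nat.card f.range := fun hd => h.inn (by
    rw [← Subgroup.index_ker] at hd
    exact hd.trans (Subgroup.index_dvd_of_le hker))
  have h1 : (⟨f ⟨κ, hκΓ⟩, ⟨⟨κ, hκΓ⟩, rfl⟩⟩ : f.range) ^ p = 1 := by
    refine Subtype.ext ?_
    rw [SubmonoidClass.coe_pow, ← map_pow]
    exact Equiv.ext fun u => Subtype.ext (hκp u u.2)
  have h2 : (⟨f ⟨κ, hκΓ⟩, ⟨⟨κ, hκΓ⟩, rfl⟩⟩ : f.range) = 1 := by
    rw [← orderOf_eq_one_iff]
    exact Nat.eq_one_of_dvd_coprimes ((Fact.out : p.Prime).coprime_iff_not_dvd.2 hrange)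
      (orderOf_dvd_of_pow_eq_one h1) (orderOf_dvd_natCard _)
  exact congrArg Subtype.val (DFunLike.congr_fun (congrArg Subtype.val h2) (⟨x, hx⟩ : Z))

/-- The data of one elementary member: a line in the centre and an element of `Γ`. -/
theorem Fam.line {l m : I} (hne : E m ≠ E l) (h3 : Nat.card (E l) = p ^ 3)
    (hab : ∀ a ∈ E l, ∀ b ∈ E l, a * b = b * a) (hexp : ∀ a ∈ E l, a ^ p = 1)
    (habm : ∀ a ∈ E m, ∀ b ∈ E m, a * b = b * a) :
    Nat.card (center G) = p ^ 2 ∧ Nat.card (commutator G) = p ∧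
      ∀ α ∈ X l, α ∉ normalizer ((MulAut.conjNormal (H := E l)).range : Set (MulAut (E l))) →
        Nat.card (center G ⊓ img α (center G) : Subgroup G) = p ∧
        ∃ σ ∈ Γ, (∀ c ∈ commutator G, σ c = c⁻¹) ∧ ∀ d ∈ center G ⊓ img α (center G), σ d = d := by
  have hp := (Fact.out : p.Prime)
  have hpv := h.piv l
  have hG := hpv.pgroup
  haveI := finite_mulAut (E l)
  have hnle : ¬ E m ≤ E l := fun hle => hne (eq_of_le_of_card_ge hle (le_of_eq
    (Nat.eq_of_mul_eq_mul_left hp.pos ((h.piv l).index.symm.trans (h.piv m).index))))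
  obtain ⟨n, hnm, hnl⟩ := SetLike.not_le_iff_exists.1 hnle
  have hcen : E l ⊓ E m = center G := le_antisymm
    (fun x hx => hpv.mem_center_of hnl (habm x hx.2 n hnm) fun e he => hab x hx.1 e he)
    (le_inf hpv.center_le (h.piv m).center_le)
  have hcard : Nat.card (E l) = p * Nat.card (center G) := hcen ▸ h.card_inf hne.symm
  have hc2 : Nat.card (center G) = p ^ 2 := Nat.eq_of_mul_eq_mul_left hp.pos (by rw [← hcard, h3]; ring)
  obtain ⟨α₀, hα₀, hα₀n⟩ := hpv.exists_not_normalizer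
  have hax0 := hpv.axis (H := center G) hpv.center_le hcard hnl
    (fun y hy => mem_center_iff.1 hy n) hα₀ hα₀n
  obtain ⟨e, w, hw, hax⟩ := hax0
  haveI : (zpowers w).Normal := CfsgLib.Schur.normal_le_center (zpowers_le.2 hax.wH)
  have hwp : w ^ p = 1 := hexp w hw
  have hw1 : w ≠ 1 := fun e => hax.wN (e ▸ one_mem _)
  have hwcard : Nat.card (zpowers w) = p := by
    rw [Nat.card_zpowers]; exact orderOf_eq_prime hwp hw1
  have hwcom : w ∈ commutator G := by
    rw [hax.w_eq, show e⁻¹ * (n * e * n⁻¹) = ⁅e⁻¹, n⁆ by rw [commutatorElement_def]; group]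
    exact commutator_mem_commutator (mem_top _) (mem_top _)
  set w' : G := (α₀ ⟨w, hw⟩ : G) with hw'
  set π := QuotientGroup.mk' (zpowers w) with hπ
  obtain ⟨s, j, d, hd, hed⟩ := hax.dec e hax.emem
  have hπe : π (n * e * n⁻¹) = π e := by
    rw [show n * e * n⁻¹ = e * w by rw [hax.w_eq]; group, map_mul,
      show π w = 1 from (QuotientGroup.eq_one_iff w).2 (mem_zpowers w), mul_one]
  have hfix : ∀ y ∈ center G, n * y * n⁻¹ = y := fun y hy => by
    rw [mem_center_iff.1 hy n, mul_inv_cancel_right]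
  have hπw' : π (n * w' * n⁻¹) = π w' := by
    have hcm : w'⁻¹ * (n * w' * n⁻¹) ∈ center G := hcen ▸ ⟨mul_mem ((E l).inv_mem (α₀ ⟨w, hw⟩).2)
      ((hn l).conj_mem _ (α₀ ⟨w, hw⟩).2 n), by
      rw [show w'⁻¹ * (n * w' * n⁻¹) = (w'⁻¹ * n * w'⁻¹⁻¹) * n⁻¹ by group]
      exact mul_mem ((hn m).conj_mem n hnm _) ((E m).inv_mem hnm)⟩
    set τ := w'⁻¹ * (n * w' * n⁻¹) with hτ
    have hτp : τ ^ p = 1 := hexp τ (hpv.center_le hcm)
    have h1 : π τ ^ j = 1 := by
      have h2 : n * e * n⁻¹ = e * τ ^ j := by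
        rw [hed, show n * (w ^ s * w' ^ j * d) * n⁻¹ = (n * w ^ s * n⁻¹) * (n * w' ^ j * n⁻¹) * (n * d * n⁻¹) by group,
          hfix d hd.1, hfix _ (zpow_mem hax.wH s), ← conj_zpow, show n * w' * n⁻¹ = w' * τ by rw [hτ]; group,
          (show Commute w' τ from mem_center_iff.1 hcm w').mul_zpow, mul_assoc, mul_assoc, mul_assoc,
          (show Commute (τ ^ j) d from ((show Commute τ d from mem_center_iff.1 hd.1 τ)).zpow_left j).eq]
        simp only [hw', mul_assoc]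
      have h3 := hπe
      rwa [h2, map_mul, map_zpow, mul_eq_left] at h3
    have hj : (j : ZMod p) ≠ 0 := fun hj => by
      refine hax.wN (?_ : w ∈ img α₀ (center G))
      have hz := CfsgLib.Fusion.LineTorus.zpow_congr (hexp w' (α₀ ⟨w, hw⟩).2) (r := j) (s := 0) (by simpa using hj)
      rw [hz, zpow_zero, mul_one] at hed
      have h4 : n * e * n⁻¹ = e := hfix e (hed ▸ mul_mem (zpow_mem hax.wH s) hd.1)
      rw [hax.w_eq, h4, inv_mul_cancel]
      exact one_mem _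
    have h5 : π τ = 1 := by
      have := CfsgLib.Fusion.RankThree.mem_of_zpow_mem (H := (⊥ : Subgroup (G ⧸ zpowers w)))
        (y := π τ) (p := p) (by rw [← map_pow, hτp, map_one]; exact one_mem _) (by rw [h1]; exact one_mem _) hj
      exact mem_bot.1 this
    rw [show n * w' * n⁻¹ = w' * τ by rw [hτ]; group, map_mul, h5, mul_one]
  have hcomm : commutator G ≤ zpowers w := by
    have hnr : ∀ r ∈ E l, Commute (π n) (π r) := fun r hr => by
      obtain ⟨s', j', d', hd', rfl⟩ := hax.dec r hr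
      have e1 : ∀ y ∈ center G, Commute (π n) (π y) := fun y hy => (show Commute n y from mem_center_iff.1 hy n).map π
      have e2 : Commute (π n) (π w') := by
        have h1 := hπw'
        rw [map_mul, map_mul, map_inv, mul_inv_eq_iff_eq_mul] at h1
        exact h1
      rw [map_mul, map_mul, map_zpow, map_zpow]
      exact (((e1 w hax.wH).zpow_right s').mul_right (e2.zpow_right j')).mul_right (e1 d' hd'.1)
    rw [_root_.commutator_def]
    refine commutator_le.2 fun a _ b _ => ?_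
    rw [← QuotientGroup.eq_one_iff]
    show π ⁅a, b⁆ = 1
    rw [map_commutatorElement, commutatorElement_eq_one_iff_mul_comm]
    obtain ⟨a1, r, hr, rfl⟩ := hpv.decomp hnl a
    obtain ⟨b1, t, ht, rfl⟩ := hpv.decomp hnl b
    rw [map_mul π, map_mul π, map_zpow, map_zpow]
    exact ((((Commute.refl (π n)).zpow_zpow a1 b1).mul_right ((hnr t ht).zpow_left a1)).mul_left
      (((hnr r hr).zpow_left b1).symm.mul_right ((show Commute r t from hab r hr t ht).map π))).eq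
  have hcome : commutator G = zpowers w := le_antisymm hcomm (zpowers_le.2 hwcom)
  refine ⟨hc2, hcome ▸ hwcard, fun α hα hαn => ?_⟩
  obtain ⟨e', w₁, hw₁, hax'⟩ := hpv.axis (H := center G) hpv.center_le hcard hnl
    (fun y hy => mem_center_iff.1 hy n) hα hαn
  set D : Subgroup G := center G ⊓ img α (center G) with hD
  have hDc : Nat.card D = p := by
    have e1 := hax'.card
    rw [h3, show p ^ 3 = p * p * p by ring] at e1
    exact (Nat.eq_of_mul_eq_mul_left (mul_pos hp.pos hp.pos) e1).symm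
  refine ⟨hDc, ?_⟩
  letI : CommGroup (E l) :=
    { (inferInstance : Group (E l)) with mul_comm := fun a b => Subtype.ext (hab a a.2 b b.2) }
  set u := MulAut.conjNormal (H := E l) n with hu
  have hur : ∀ r : E l, ((dlt u r : E l) : G) ∈ commutator G := fun r => by
    show (r : G)⁻¹ * (n * r * n⁻¹) ∈ commutator G
    rw [show (r : G)⁻¹ * (n * r * n⁻¹) = ⁅(r : G)⁻¹, n⁆ by rw [commutatorElement_def]; group]
    exact commutator_mem_commutator (mem_top _) (mem_top _)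
  have hdfix : ∀ r : E l, (r : G) ∈ center G → dlt u r = 1 := fun r hr =>
    dlt_eq_one.2 (Subtype.ext (hfix r hr))
  have hw₁c : zpowers w = zpowers w₁ := by
    refine (eq_of_le_of_card_ge (zpowers_le.2 ?_) (le_of_eq ?_)).symm
    · rw [← hcome, hax'.w_eq, show e'⁻¹ * (n * e' * n⁻¹) = ⁅e'⁻¹, n⁆ by rw [commutatorElement_def]; group]
      exact commutator_mem_commutator (mem_top _) (mem_top _)
    · rw [hwcard, Nat.card_zpowers]
      exact (orderOf_eq_prime (hexp w₁ hw₁) fun e => hax'.wN (e ▸ one_mem _)).symm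
  have hrange : (dlt u).range.map (E l).subtype = zpowers w := by
    refine le_antisymm ?_ ?_
    · rintro _ ⟨_, ⟨r, rfl⟩, rfl⟩
      exact hcomm (hur r)
    · rw [hw₁c]
      exact zpowers_le.2 ⟨dlt u ⟨e', hax'.emem⟩, ⟨_, rfl⟩, hax'.w_eq.symm⟩
  have hT : IsTrv p u := ⟨by rw [← card_map_of_injective (K := (dlt u).range) (E l).subtype_injective, hrange, hwcard],
    fun r => hdfix _ ((zpowers_le.2 hax.wH) (hcomm (hur r)))⟩
  have hQ : (MulAut.conjNormal (H := E l)).range = zpowers u := by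
    refine le_antisymm ?_ (zpowers_le.2 ⟨n, rfl⟩)
    rintro _ ⟨g, rfl⟩
    obtain ⟨a, r, hr, rfl⟩ := hpv.decomp hnl g
    rw [map_mul, map_zpow]
    refine mul_mem (zpow_mem (mem_zpowers u) a) ?_
    rw [show MulAut.conjNormal (H := E l) r = 1 from MulEquiv.ext fun y => Subtype.ext (by
      show r * (y : G) * r⁻¹ = y
      rw [hab r hr y y.2, mul_inv_cancel_right])]
    exact one_mem _
  have hsyl : ∀ P : Subgroup (MulAut (E l)), P ≤ X l → IsPGroup p P → Nat.card P ≤ p := by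
    intro P hPX hP
    obtain ⟨φ, -, hφ⟩ := hpv.exists_conj hP hPX
    rw [← card_map_of_injective (K := P) (f := (MulAut.conj φ).toMonoidHom) (MulAut.conj φ).injective]
    refine (Subgroup.card_le_of_le (K := zpowers u) ?_).trans (by rw [Nat.card_zpowers, hT.orderOf])
    rintro _ ⟨y, hy, rfl⟩
    exact hQ ▸ hφ y hy
  have huX : u ∈ X l := hpv.qle ⟨n, rfl⟩
  have hne' : α * u * α⁻¹ ∉ zpowers u := fun hmem => hαn (by
    rw [hQ]
    refine mem_normalizer_iff.2 fun y => ?_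
    have hsub : (zpowers u).map (MulAut.conj α).toMonoidHom = zpowers u := by
      rw [MonoidHom.map_zpowers]
      exact eq_of_le_of_card_ge (zpowers_le.2 hmem)
        (by rw [Nat.card_zpowers, Nat.card_zpowers]; exact (orderOf_injective (MulAut.conj α).toMonoidHom (MulAut.conj α).injective u).ge)
    refine ⟨fun hy => hsub.le ⟨y, hy, rfl⟩, fun hy => ?_⟩
    obtain ⟨z, hz, hzy⟩ := hsub.ge hy
    exact (MulAut.conj α).injective hzy ▸ hz)
  obtain ⟨t, htX, htinv, htfix, htc, -⟩ := exists_neg (L := X l) (hG.to_subgroup (E l)) hsyl hT (hT.conj α) huX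
    ((X l).mul_mem ((X l).mul_mem hα huX) ((X l).inv_mem hα)) hne'
  have htN : t ∈ normalizer ((MulAut.conjNormal (H := E l)).range : Set (MulAut (E l))) := by
    rw [hQ]
    refine mem_normalizer_iff.2 fun y => ⟨fun hy => ?_, fun hy => ?_⟩
    · obtain ⟨k, rfl⟩ := mem_zpowers_iff.1 hy
      rw [(htc.zpow_right k).eq, mul_inv_cancel_right]
      exact zpow_mem (mem_zpowers u) k
    · obtain ⟨k, hk⟩ := mem_zpowers_iff.1 hy
      refine mem_zpowers_iff.2 ⟨k, ?_⟩
      rw [← mul_right_inj t, (htc.zpow_right k).eq, hk, inv_mul_cancel_right]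
  obtain ⟨σ, hσΓ, hσ⟩ := hpv.ext t htX htN
  refine ⟨σ, hσΓ, fun c hc => ?_, fun x hx => ?_⟩
  · rw [hcome, ← hrange] at hc
    obtain ⟨r, hr, rfl⟩ := hc
    rw [(E l).coe_subtype, hσ, htinv r hr, Subgroup.coe_inv]
  · have hxl : x ∈ E l := hpv.center_le hx.1
    rw [show x = ((⟨x, hxl⟩ : E l) : G) from rfl, hσ, htfix ⟨x, hxl⟩ (hdfix _ hx.1)]
    obtain ⟨r, hr, hrx⟩ := mem_img.1 hx.2
    rw [show (⟨x, hxl⟩ : E l) = α r from Subtype.ext hrx.symm, CfsgLib.Fusion.Transvection.dlt_conj,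
      MulAut.inv_apply_self, hdfix r hr, map_one]

/-- All members elementary: the common line. -/
theorem Fam.flat {i k : I} {z : G} (hz : z ∈ omz p (E i)) (hzk : z ∉ E k)
    (hsm : Nat.card G = p ^ 4 ∧ (∀ c ∈ center G, c ^ p = 1) ∧ (∀ l, Nat.card (E l) = p ^ 3) ∧
      (∀ a ∈ E i, ∀ b ∈ E i, a * b = b * a) ∧ ∀ a ∈ E i, a ^ p = 1)
    (hall : ∀ l, ∀ a ∈ E l, ∀ b ∈ E l, a * b = b * a) : Common E X Γ := by
  obtain ⟨-, hel, h3, habi, hexpi⟩ := hsm
  have hp := (Fact.out : p.Prime)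
  have hG := (h.piv i).pgroup
  have hodd := (h.piv i).odd
  have hki : E k ≠ E i := fun e => hzk (e ▸ hz.1)
  have hexp : ∀ l, ∀ a ∈ E l, a ^ p = 1 := by
    intro l a ha
    by_cases hl : E l = E i
    · exact hexpi a (hl ▸ ha)
    obtain ⟨y, hy, hyl⟩ := SetLike.not_le_iff_exists.1 (h.not_le_of_ne hz hzk hl)
    obtain ⟨β, -, e, w, hw, hax, -, hwp, hwp'⟩ := h.exists_axis hy hyl
    obtain ⟨s, j, d, hd, rfl⟩ := hax.dec a ha
    have e1 : Commute w (β ⟨w, hw⟩ : G) := hall l w hw _ (β ⟨w, hw⟩).2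
    rw [(show Commute _ d from mem_center_iff.1 (hax.central hd) _).mul_pow, (e1.zpow_zpow s j).mul_pow,
      hel d (hax.central hd), mul_one, ← zpow_natCast (w ^ s), ← zpow_mul, mul_comm, zpow_mul, zpow_natCast, hwp,
      one_zpow, ← zpow_natCast (_ ^ j), ← zpow_mul, mul_comm j, zpow_mul, zpow_natCast, hwp', one_zpow, mul_one]
  have hother : ∀ l, ∃ m, E m ≠ E l := fun l => by
    by_cases hl : E l = E i
    · exact ⟨k, hl ▸ hki⟩
    · exact ⟨i, fun e => hl e.symm⟩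
  have hline := fun l => (h.line (hother l).choose_spec (h3 l) (hall l) (hexp l) (hall _))
  obtain ⟨hc2, hcomc, -⟩ := hline i
  obtain ⟨c₀, hc0⟩ : ∃ c₀, zpowers c₀ = commutator G := by
    haveI : IsCyclic (commutator G) := isCyclic_of_prime_card hcomc
    exact (Subgroup.isCyclic_iff_exists_zpowers_eq_top _).1 inferInstance
  have hc0m : c₀ ∈ commutator G := hc0 ▸ mem_zpowers c₀
  have hcomle : commutator G ≤ center G := fun x hx =>
    CfsgLib.MetacyclicOmega.le_center_of_card_le hG _ hcomc.le hx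
  have hZi : ∀ γ ∈ Γ, ∀ x ∈ center G, γ x ∈ center G := fun γ _ x hx => mem_center_iff.2 fun g => by
    obtain ⟨g', rfl⟩ := γ.surjective g
    rw [← map_mul, ← map_mul, mem_center_iff.1 hx g']
  have hcomm := fun (σ τ : MulAut G) (hσ : σ ∈ Γ) (hτ : τ ∈ Γ) (x : G) (hx : x ∈ center G) =>
    h.commute_center hG (c₀ := c₀) (hel c₀ (hcomle hc0m))
      (fun γ _ => hc0.ge ((Subgroup.characteristic_iff_le_comap.1 inferInstance γ) hc0m)) le_rfl
      (by rw [hc0, hcomc, hc2, pow_two]) (hcomle hc0m) hZi hσ hτ hx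
  -- fixed points of an inverting element are unique
  have hfixset : ∀ {σ : MulAut G}, σ ∈ Γ → (∀ c ∈ commutator G, σ c = c⁻¹) → ∀ {D : Subgroup G}, D ≤ center G →
      Nat.card D = p → (∀ d ∈ D, σ d = d) → ∀ x ∈ center G, σ x = x → x ∈ D := by
    intro σ hσ hinv D hD hDc hfix x hx hxf
    have hc0D : c₀ ∉ D := fun hcd => by
      have h1 : c₀ = 1 := eq_one_of_inv_eq hG hodd ((hinv c₀ hc0m).symm.trans (hfix c₀ hcd))
      rw [h1, zpowers_one_eq_bot] at hc0
      rw [← hc0, card_bot] at hcomc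
      exact hp.ne_one hcomc.symm
    haveI : D.Normal := CfsgLib.Schur.normal_le_center hD
    obtain ⟨a, ha⟩ := CfsgLib.Fusion.RankThree.exists_zpow_inv_mul_mem hG hD (by rw [hc2, hDc, pow_two])
      (hcomle hc0m) hc0D hx
    have hσa : σ ((c₀ ^ a)⁻¹ * x) = (c₀ ^ a)⁻¹ * x := hfix _ ha
    rw [map_mul, map_inv, hxf, map_zpow, hinv c₀ hc0m, mul_left_inj, inv_zpow] at hσa
    have h1 : c₀ ^ a = 1 := eq_one_of_inv_eq hG hodd (by simpa using hσa.symm)
    rwa [h1, inv_one, one_mul] at ha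
  have hsame : ∀ {σ τ : MulAut G}, σ ∈ Γ → τ ∈ Γ → (∀ c ∈ commutator G, σ c = c⁻¹) → (∀ c ∈ commutator G, τ c = c⁻¹) →
      ∀ {D D' : Subgroup G}, D ≤ center G → D' ≤ center G → Nat.card D = p → Nat.card D' = p →
      (∀ d ∈ D, σ d = d) → (∀ d ∈ D', τ d = d) → D = D' := by
    intro σ τ hσ hτ hσi hτi D D' hD hD' hc hc' hf hf'
    refine eq_of_le_of_card_ge (fun d hd => ?_) (le_of_eq (hc'.trans hc.symm))
    have h1 : τ d ∈ D := hfixset hσ hσi hD hc hf _ (hZi τ hτ d (hD hd)) (by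
      rw [hcomm σ τ hσ hτ d (hD hd), hf d hd])
    haveI : D'.Normal := CfsgLib.Schur.normal_le_center hD'
    have hc0D' : c₀ ∉ D' := fun hcd => by
      have h1 : c₀ = 1 := eq_one_of_inv_eq hG hodd ((hτi c₀ hc0m).symm.trans (hf' c₀ hcd))
      rw [h1, zpowers_one_eq_bot] at hc0
      rw [← hc0, card_bot] at hcomc
      exact hp.ne_one hcomc.symm
    obtain ⟨a, ha⟩ := CfsgLib.Fusion.RankThree.exists_zpow_inv_mul_mem hG hD' (by rw [hc2, hc', pow_two])
      (hcomle hc0m) hc0D' (hD hd)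
    set d' := (c₀ ^ a)⁻¹ * d with hd'
    have hdd : d = c₀ ^ a * d' := by rw [hd']; group
    have h2 : c₀ ^ a * c₀ ^ a ∈ D := by
      have e1 : τ d = (c₀ ^ a)⁻¹ * d' := by
        conv_lhs => rw [hdd]
        rw [map_mul, map_zpow, hτi c₀ hc0m, hf' d' ha, inv_zpow]
      have h3 := mul_mem hd (inv_mem h1)
      rw [e1] at h3
      convert h3 using 1
      rw [hdd]; group
    have h4 : c₀ ^ a * c₀ ^ a = 1 := by
      refine eq_one_of_inv_eq hG hodd ?_
      have h5 := hf _ h2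
      rw [map_mul, map_zpow, hσi c₀ hc0m, inv_zpow] at h5
      rw [mul_inv_rev]; exact h5
    have h6 : c₀ ^ a = 1 := eq_one_of_inv_eq hG hodd (inv_eq_of_mul_eq_one_right h4)
    rw [hdd, h6, one_mul]
    exact ha
  obtain ⟨α₁, hα₁, hα₁n⟩ := (h.piv i).exists_not_normalizer
  obtain ⟨hD1, σ₁, hσ₁, hσ₁i, hσ₁f⟩ := (hline i).2.2 α₁ hα₁ hα₁n
  set D : Subgroup G := center G ⊓ img α₁ (center G) with hDdef
  refine ⟨D, fun hb => hp.ne_one (by rw [← hD1, hb, card_bot]), fun γ hγ d hd => ?_, fun l => ⟨inf_le_left.trans (h.center_le l), ?_⟩⟩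
  · refine hfixset hσ₁ hσ₁i inf_le_left hD1 hσ₁f _ (hZi γ hγ d hd.1) ?_
    rw [hcomm σ₁ γ hσ₁ hγ d hd.1, hσ₁f d hd]
  obtain ⟨m, hm⟩ := hother l
  intro φ hφ r hr
  set N := normalizer ((MulAut.conjNormal (H := E l)).range : Set (MulAut (E l))) with hN
  have heqD : ∀ α ∈ X l, α ∉ N → center G ⊓ img α (center G) = D := fun α hα hαn => by
    obtain ⟨hc, σ, hσ, hσi, hσf⟩ := (hline l).2.2 α hα hαn
    exact hsame hσ hσ₁ hσi hσ₁i inf_le_left inf_le_left hc hD1 hσf hσ₁f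
  have himg : ∀ μ ∈ X l, μ ∈ N → ∀ x : E l, (x : G) ∈ center G → (μ x : G) ∈ center G := by
    intro μ hμ hμN x hx
    obtain ⟨n, hnm, hnl⟩ := SetLike.not_le_iff_exists.1 (fun hle => hm (eq_of_le_of_card_ge hle
      (le_of_eq ((h3 l).trans (h3 m).symm))))
    refine (h.piv l).mem_center_of hnl ?_ fun e he => hall l _ (μ x).2 e he
    obtain ⟨g, hg⟩ := (mem_normalizer_iff.1 ((N.inv_mem hμN)) (MulAut.conjNormal n)).1 ⟨n, rfl⟩
    have h1 : (μ⁻¹ * MulAut.conjNormal (H := E l) n * μ⁻¹⁻¹) x = x := by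
      rw [← hg]
      refine Subtype.ext ?_
      show g * (x : G) * g⁻¹ = x
      rw [mem_center_iff.1 hx g, mul_inv_cancel_right]
    rw [inv_inv, MulAut.mul_apply, MulAut.mul_apply] at h1
    have h2 := congrArg (fun y => (μ y : G)) h1
    simp only [MulAut.apply_inv_self, MulAut.conjNormal_apply] at h2
    rw [← mul_inv_eq_iff_eq_mul.1 h2]
  have hall' : ∀ ψ ∈ X l, ∀ x ∈ D, x ∈ img ψ (center G) := by
    intro ψ hψ x hx
    by_cases hψN : ψ ∈ N
    · have hxl : x ∈ E l := h.center_le l hx.1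
      refine mem_img.2 ⟨ψ⁻¹ ⟨x, hxl⟩, himg ψ⁻¹ ((X l).inv_mem hψ) (N.inv_mem hψN) _ hx.1, ?_⟩
      rw [MulAut.apply_inv_self]
    · exact (heqD ψ hψ hψN ▸ hx).2
  obtain ⟨α₂, hα₂, hα₂n⟩ := (h.piv l).exists_not_normalizer
  rw [← heqD α₂ hα₂ hα₂n]
  have hstep : ∀ ψ ∈ X l, (φ r : G) ∈ img ψ (center G) := fun ψ hψ => by
    obtain ⟨y, hy, hyr⟩ := mem_img.1 (hall' (φ⁻¹ * ψ) ((X l).mul_mem ((X l).inv_mem hφ) hψ) r hr)
    refine mem_img.2 ⟨y, hy, ?_⟩
    rw [MulAut.mul_apply] at hyr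
    rw [← show φ⁻¹ (ψ y) = r from Subtype.ext hyr, MulAut.apply_inv_self]
  refine ⟨?_, hstep α₂ hα₂⟩
  obtain ⟨y, hy, hyr⟩ := mem_img.1 (hstep 1 (X l).one_mem)
  rw [← hyr]
  exact hy

end CfsgLib.Fusion.IndexFamily
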