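import Cfsg.Agent.Lib.Fusion.System.RankThree.NormalFamily.NegElement
import Cfsg.Agent.Lib.PGroup.FrattiniLe

/-!
# The intersection of two invariant pivots is not invariant

If the automizer of the second pivot kept the intersection, the two Frattini subgroups would leave
an elementary abelian section of order `p ^ 4`.
-/

set_option autoImplicit false
set_option linter.style.haveILetI false
set_option linter.unusedSectionVars false

open Subgroup
open scoped commutatorElement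

namespace CfsgLib.Fusion.IndexFamily

open CfsgLib.Fusion.RankThree (InvE frn frn_le mem_frn false_of_four)
open CfsgLib.MaxClassEss (frAct frAct_eq_one_iff mem_frattini_iff_apply isPGroup_of_frAct)

universe u

variable {G : Type u} [Group G] [Finite G] {p : ℕ} [Fact p.Prime]

/-- A normal subgroup with all `p`-th powers and commutators of `E` contains `frn E`. -/
theorem frn_le_of {E N : Subgroup G} (hpow : ∀ e ∈ E, e ^ p ∈ N) (hcomm : ∀ a ∈ E, ∀ b ∈ E, ⁅a, b⁆ ∈ N) :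
    frn E ≤ N := by
  rintro _ ⟨x, hx, rfl⟩
  refine mem_subgroupOf.1 (CfsgLib.FrattiniLe.frattini_le_of_pow_of_commutator (p := p) (F := N.subgroupOf E)
    (fun y => mem_subgroupOf.2 (hpow y y.2)) ?_ hx)
  rw [_root_.commutator_def]
  exact commutator_le.2 fun a _ b _ => mem_subgroupOf.2 (hcomm a a.2 b b.2)

/-- Powers lie in `frn`. -/
theorem pow_mem_frn (hG : IsPGroup p G) {E : Subgroup G} {e : G} (he : e ∈ E) : e ^ p ∈ frn E :=
  ⟨(⟨e, he⟩ : E) ^ p, CfsgLib.Coprime.pow_mem_frattini (hG.to_subgroup E) _, rfl⟩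

/-- Commutators lie in `frn`. -/
theorem comm_mem_frn (hG : IsPGroup p G) {E : Subgroup G} {a b : G} (ha : a ∈ E) (hb : b ∈ E) : ⁅a, b⁆ ∈ frn E :=
  ⟨⁅(⟨a, ha⟩ : E), ⟨b, hb⟩⁆, CfsgLib.Coprime.commutator_le_frattini (hG.to_subgroup E)
    (commutator_mem_commutator (mem_top _) (mem_top _)), rfl⟩

/-- The Frattini quotient has order at most `p ^ 3`. -/
theorem card_le_frn_quot (hG : IsPGroup p G) (hr : Cfsg.SectionalPRankLE p 3 G) (E : Subgroup G) [E.Normal] :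
    Nat.card E ≤ p ^ 3 * Nat.card (frn E) := by
  set π := QuotientGroup.mk' (frn E) with hπ
  have h1 := CfsgLib.MaxClassCube.card_map_mul_card_inf_ker' π E
  rw [hπ, QuotientGroup.ker_mk', inf_eq_right.2 (frn_le E)] at h1
  rw [← h1]
  refine Nat.mul_le_mul_right _ (CfsgLib.Fusion.RankThree.card_le_of_section hr _ _ ?_ ?_)
  · rintro _ ⟨a, ha, rfl⟩ _ ⟨b, hb, rfl⟩
    rw [← commutatorElement_eq_one_iff_mul_comm, ← map_commutatorElement]
    exact (QuotientGroup.eq_one_iff _).2 (comm_mem_frn hG ha hb)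
  · rintro _ ⟨a, ha, rfl⟩
    rw [← map_pow]
    exact (QuotientGroup.eq_one_iff _).2 (pow_mem_frn hG ha)

/-- An element whose square lies in a normal subgroup of a `p`-group lies in it. -/
theorem mem_of_sq_mem (hG : IsPGroup p G) (hodd : p ≠ 2) (N : Subgroup G) [N.Normal] {x : G} (hx : x * x ∈ N) :
    x ∈ N := by
  rw [← QuotientGroup.eq_one_iff]
  obtain ⟨n, hn⟩ := hG.to_quotient N (x : G ⧸ N)
  have h2 : (x : G ⧸ N) ^ 2 = 1 := by
    rw [← QuotientGroup.mk_pow, pow_two]; exact (QuotientGroup.eq_one_iff _).2 hx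
  have hco : Nat.Coprime (p ^ n) 2 :=
    Nat.Coprime.pow_left n ((Nat.coprime_primes Fact.out Nat.prime_two).2 hodd)
  rw [← orderOf_eq_one_iff]
  exact Nat.eq_one_of_dvd_coprimes hco (orderOf_dvd_of_pow_eq_one hn) (orderOf_dvd_of_pow_eq_one h2)

/-- The automorphisms of `E` trivial modulo `D`. -/
def trivMod {E : Subgroup G} (D : Subgroup G) : Subgroup (MulAut E) where
  carrier := {α | ∀ r : E, ((r⁻¹ * α r : E) : G) ∈ D}
  one_mem' := fun r => by simp
  mul_mem' := fun {α β} ha hb r => by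
    have h1 := mul_mem (hb r) (ha (β r))
    rw [MulAut.mul_apply]
    simpa [mul_assoc] using h1
  inv_mem' := fun {α} ha r => by
    have h1 := inv_mem (ha (α⁻¹ r))
    rw [MulAut.apply_inv_self] at h1
    simpa using h1

variable {E₁ E₂ : Subgroup G} [E₁.Normal] [E₂.Normal] {X₁ : Subgroup (MulAut E₁)} {X₂ : Subgroup (MulAut E₂)}
  {Γ : Subgroup (MulAut G)}

/-- The intersection of two invariant pivots is moved. -/
theorem Piv.hyperplane_moved (h₁ : Piv p E₁ X₁ Γ) (h₂ : Piv p E₂ X₂ Γ) (hne : E₁ ≠ E₂)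
    (hf₁ : ∀ γ ∈ Γ, ∀ r ∈ E₁, γ r ∈ E₁) (hf₂ : ∀ γ ∈ Γ, ∀ r ∈ E₂, γ r ∈ E₂)
    (hD : InvE X₂ (E₁ ⊓ E₂)) : False := by
  have hp := (Fact.out : p.Prime)
  have hG := h₁.pgroup
  have hodd := h₁.odd
  haveI := finite_mulAut E₂
  haveI := finite_mulAut E₁
  set D : Subgroup G := E₁ ⊓ E₂ with hDdef
  set Φ₁ := frn E₁ with hΦ₁
  set Φ₂ := frn E₂ with hΦ₂
  have hcE : Nat.card E₁ = Nat.card E₂ := Nat.eq_of_mul_eq_mul_left hp.pos (h₁.index.symm.trans h₂.index)
  have hnle : ¬ E₁ ≤ E₂ := fun hle => hne (eq_of_le_of_card_ge hle hcE.ge)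
  have hnle' : ¬ E₂ ≤ E₁ := fun hle => hne (eq_of_le_of_card_ge hle hcE.le).symm
  obtain ⟨g₀, hg₀, hg₀'⟩ := SetLike.not_le_iff_exists.1 hnle
  obtain ⟨x₀, hx₀, hx₀'⟩ := SetLike.not_le_iff_exists.1 hnle'
  have hcD : Nat.card E₂ = p * Nat.card D := by
    have h1 := CfsgLib.MaxClassCube.card_map_mul_card_inf_ker' (QuotientGroup.mk' E₁) E₂
    rw [QuotientGroup.ker_mk', inf_comm] at h1
    rw [← h1]
    congr 1
    refine le_antisymm ((Subgroup.card_le_card_group _).trans_eq h₁.index_eq) ?_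
    have h2 : (⊥ : Subgroup (G ⧸ E₁)) < E₂.map (QuotientGroup.mk' E₁) := bot_lt_iff_ne_bot.2 fun hb => by
      have h3 : QuotientGroup.mk' E₁ x₀ ∈ E₂.map (QuotientGroup.mk' E₁) := mem_map_of_mem _ hx₀
      rw [hb, mem_bot] at h3
      exact hx₀' ((QuotientGroup.eq_one_iff _).1 h3)
    have h4 := CfsgLib.MaxClassCube.mul_card_le (hG.to_quotient E₁) h2
    rwa [card_bot, mul_one] at h4
  have hΦ₁D : Φ₁ ≤ D := frn_le_of (p := p) (fun e he => ⟨E₁.pow_mem he p, h₂.pow_mem e⟩)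
    fun a ha b hb => ⟨frn_le E₁ (comm_mem_frn hG ha hb), h₂.comm_mem a b⟩
  have hΦ₂D : Φ₂ ≤ D := frn_le_of (p := p) (fun e he => ⟨h₁.pow_mem e, E₂.pow_mem he p⟩)
    fun a ha b hb => ⟨h₁.comm_mem a b, frn_le E₂ (comm_mem_frn hG ha hb)⟩
  have hDp : ∀ d ∈ D, d ^ p ∈ Φ₁ ⊓ Φ₂ := fun d hd => ⟨pow_mem_frn hG hd.1, pow_mem_frn hG hd.2⟩
  have hDc : ∀ a ∈ D, ∀ b ∈ D, ⁅a, b⁆ ∈ Φ₁ ⊓ Φ₂ := fun a ha b hb =>
    ⟨comm_mem_frn hG ha.1 hb.1, comm_mem_frn hG ha.2 hb.2⟩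
  have hGD : ∀ a b : G, ⁅a, b⁆ ∈ D := fun a b => ⟨h₁.comm_mem a b, h₂.comm_mem a b⟩
  have hfrnΓ : ∀ (E : Subgroup G) [E.Normal], (∀ γ ∈ Γ, ∀ r ∈ E, γ r ∈ E) → ∀ γ ∈ Γ, ∀ r ∈ frn E, γ r ∈ frn E := by
    intro E _ hf γ hγ r hr
    have hle : frn E ≤ (frn E).comap γ.toMonoidHom := frn_le_of (p := p) (fun e he => by
      show γ (e ^ p) ∈ frn E
      rw [map_pow]; exact pow_mem_frn hG (hf γ hγ e he)) fun a ha b hb => by
      show γ ⁅a, b⁆ ∈ frn E
      rw [map_commutatorElement]; exact comm_mem_frn hG (hf γ hγ a ha) (hf γ hγ b hb)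
    exact hle hr
  -- the subgroup of the automizer trivial modulo `D`
  set P : Subgroup (MulAut E₂) := X₂ ⊓ trivMod D with hPdef
  have hPn : ∀ α ∈ X₂, ∀ y ∈ P, α * y * α⁻¹ ∈ P := fun α hα y hy =>
    ⟨X₂.mul_mem (X₂.mul_mem hα hy.1) (X₂.inv_mem hα), fun r => by
      have h1 := hD α hα _ (hy.2 (α⁻¹ r))
      rw [map_mul, map_inv, MulAut.apply_inv_self] at h1
      exact h1⟩
  have hQP : (MulAut.conjNormal (H := E₂)).range ≤ P := by
    rintro _ ⟨g, rfl⟩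
    refine ⟨h₂.qle ⟨g, rfl⟩, fun r => ?_⟩
    show (r : G)⁻¹ * (g * r * g⁻¹) ∈ D
    rw [show (r : G)⁻¹ * (g * r * g⁻¹) = ⁅(r : G)⁻¹, g⁆ by rw [commutatorElement_def]; group]
    exact hGD _ _
  have hker : ∀ Y : Subgroup (MulAut E₂), Y ≤ P →
      (∀ σ ∈ Y, ∀ r : E₂, (r : G) ∈ D → ((r⁻¹ * σ r : E₂) : G) ∈ Φ₂) → IsPGroup p Y := by
    intro Y hY htriv y
    set π := QuotientGroup.mk' (frattini E₂) with hπ
    set A := (D.subgroupOf E₂).map π with hA
    have hp' : IsPGroup p (Y.map (frAct (H := E₂))) := by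
      refine (isPGroup_chainStab ((hG.to_subgroup E₂).to_quotient _) A A le_rfl).to_le ?_
      rintro _ ⟨σ, hσ, rfl⟩
      have h1 : ∀ a ∈ A, frAct σ a = a := by
        rintro _ ⟨r, hr, rfl⟩
        exact ((QuotientGroup.eq (s := frattini E₂)).2 (mem_frn.1 (htriv σ hσ r hr))).symm
      refine ⟨h1, fun b hb => ?_, fun v => ?_⟩
      · rw [h1 b hb, inv_mul_cancel]; exact one_mem _
      · obtain ⟨r, rfl⟩ := QuotientGroup.mk'_surjective (frattini E₂) v
        exact ⟨r⁻¹ * σ r, (hY hσ).2 r, by rw [map_mul, map_inv]; rfl⟩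
    obtain ⟨k, hk⟩ := hp' ⟨frAct (y : MulAut E₂), mem_map_of_mem _ y.2⟩
    have hk' : frAct ((y : MulAut E₂) ^ p ^ k) = 1 := by rw [map_pow]; exact congrArg Subtype.val hk
    obtain ⟨l, hl⟩ := isPGroup_of_frAct (hG.to_subgroup E₂) (frAct (H := E₂)).ker (fun σ hσ => hσ) ⟨_, hk'⟩
    refine ⟨k + l, Subtype.ext ?_⟩
    rw [SubmonoidClass.coe_pow, pow_add, pow_mul]
    exact congrArg Subtype.val hl
  have hiΦ₂ : InvE X₂ Φ₂ := fun α _ r hr => mem_frn.2 (mem_frattini_iff_apply.2 (mem_frn.1 hr))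
  have hiΦ₁ : InvE X₁ Φ₁ := fun α _ r hr => mem_frn.2 (mem_frattini_iff_apply.2 (mem_frn.1 hr))
  -- `G` moves `D / Φ₂`
  obtain ⟨a, ha, haΦ⟩ : ∃ a ∈ D, ⁅g₀, a⁆ ∉ Φ₂ := by
    by_contra hcon
    push Not at hcon
    let Y : Subgroup (MulAut E₂) :=
      { carrier := {σ | σ ∈ P ∧ ∀ r : E₂, (r : G) ∈ D → ((r⁻¹ * σ r : E₂) : G) ∈ Φ₂}
        one_mem' := ⟨P.one_mem, fun r _ => by simp⟩
        mul_mem' := fun {σ τ} hs ht => ⟨P.mul_mem hs.1 ht.1, fun r hr => by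
          have h1 := mul_mem (ht.2 r hr) (hs.2 (τ r) (hD τ ht.1.1 r hr))
          rw [MulAut.mul_apply]
          simpa [mul_assoc] using h1⟩
        inv_mem' := fun {σ} hs => ⟨P.inv_mem hs.1, fun r hr => by
          have h1 := inv_mem (hs.2 (σ⁻¹ r) (hD σ⁻¹ (X₂.inv_mem hs.1.1) r hr))
          rw [MulAut.apply_inv_self] at h1
          simpa using h1⟩ }
    have hin := h₂.core Y (fun σ hσ => hσ.1.1) (fun α hα y hy => ⟨hPn α hα y hy.1, fun r hr => by
      have h1 := hiΦ₂ α hα _ (hy.2 (α⁻¹ r) (hD α⁻¹ (X₂.inv_mem hα) r hr))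
      rw [map_mul, map_inv, MulAut.apply_inv_self] at h1
      exact h1⟩) (hker Y (fun σ hσ => hσ.1) fun σ hσ => hσ.2)
    refine hg₀' (h₂.mem_of_inn (hin ⟨hQP ⟨g₀, rfl⟩, fun r hr => ?_⟩))
    show (r : G)⁻¹ * (g₀ * r * g₀⁻¹) ∈ Φ₂
    rw [show (r : G)⁻¹ * (g₀ * r * g₀⁻¹) = (r : G)⁻¹ * ⁅g₀, (r : G)⁆ * (r : G)⁻¹⁻¹ by
      rw [commutatorElement_def]; group]
    exact (inferInstance : Φ₂.Normal).conj_mem _ (hcon r hr) _
  -- the line
  set L : Subgroup G := Φ₂ ⊔ ⁅D, (⊤ : Subgroup G)⁆ with hLdef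
  haveI : L.Normal := inferInstance
  have hLD : L ≤ D := sup_le hΦ₂D (commutator_le_left D _)
  have hLne : L < D := lt_of_le_of_ne hLD fun e => haΦ (by
    have h1 : D ≤ Φ₂ := CfsgLib.Fusion.RankThree.le_of_le_sup_commutator hG e.ge
    exact h1 (hGD g₀ a))
  have hDΦ₂ : Nat.card D ≤ p ^ 2 * Nat.card Φ₂ := by
    have h1 := card_le_frn_quot hG h₂.rank E₂
    rw [hcD, show p ^ 3 * Nat.card Φ₂ = p * (p ^ 2 * Nat.card Φ₂) by ring] at h1
    exact Nat.le_of_mul_le_mul_left h1 hp.pos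
  have hDΦ₁ : Nat.card D ≤ p ^ 2 * Nat.card Φ₁ := by
    have h1 := card_le_frn_quot hG h₂.rank E₁
    rw [hcE, hcD, show p ^ 3 * Nat.card Φ₁ = p * (p ^ 2 * Nat.card Φ₁) by ring] at h1
    exact Nat.le_of_mul_le_mul_left h1 hp.pos
  have hLc : ∀ {N : Subgroup G}, Nat.card D ≤ p ^ 2 * Nat.card N → Nat.card L ≤ p * Nat.card N := fun {N} hN => by
    have h1 := (CfsgLib.MaxClassCube.mul_card_le hG hLne).trans hN
    rw [pow_two, mul_assoc] at h1
    exact Nat.le_of_mul_le_mul_left h1 hp.pos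
  have hLmem : ∀ (y : G), ∀ d ∈ D, ⁅y, d⁆ ∈ L := fun y d hd => by
    refine mem_sup_right ?_
    rw [commutator_comm]
    exact commutator_mem_commutator (mem_top y) hd
  obtain ⟨t, ht, β, hβ, hβt, -, hβg₀, hβinv'⟩ := h₂.exists_neg_elem hg₀' (A := D) (N := Φ₂) (L := L)
    inf_le_right hΦ₂D le_sup_left hLD hD hiΦ₂ (fun d hd e he => comm_mem_frn hG he hd.2) (hLmem g₀)
    (hLc hDΦ₂) inf_le_left hPn hQP hker
  have hβinv := hβinv' hDΦ₂
  -- `β` is trivial modulo `D`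
  set πD := QuotientGroup.mk' D with hπD
  have hβD : ∀ y : G, y⁻¹ * β y ∈ D := fun y => by
    refine (QuotientGroup.eq (s := D)).1 ?_
    show πD y = πD (β y)
    obtain ⟨k, e, he, rfl⟩ := h₂.decomp hg₀' y
    have e1 : πD g₀ = πD (β g₀) := (QuotientGroup.eq (s := D)).2
      ⟨E₁.mul_mem (E₁.inv_mem hg₀) (hf₁ β hβ g₀ hg₀), hβg₀⟩
    have e2 : πD e = πD (β e) := by
      refine (QuotientGroup.eq (s := D)).2 ?_
      have h1 := ht.2 ⟨e, he⟩
      rw [Subgroup.coe_mul, Subgroup.coe_inv, ← hβt] at h1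
      exact h1
    rw [map_mul β, map_mul πD, map_mul πD, map_zpow β, map_zpow πD, map_zpow πD, ← e1, ← e2]
  set π₂ := QuotientGroup.mk' Φ₂ with hπ₂
  have hL2 : ∀ y : G, ∀ l ∈ L, π₂ y * π₂ l = π₂ l * π₂ y := fun y l hl => by
    haveI : (L.map π₂).Normal := (inferInstance : L.Normal).map _ (QuotientGroup.mk'_surjective Φ₂)
    have hle : Nat.card (L.map π₂) ≤ p := by
      have h1 := CfsgLib.MaxClassCube.card_map_mul_card_inf_ker' π₂ L
      rw [hπ₂, QuotientGroup.ker_mk', inf_eq_right.2 le_sup_left] at h1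
      exact Nat.le_of_mul_le_mul_right (h1.trans_le (hLc hDΦ₂)) Nat.card_pos
    exact mem_center_iff.1 (CfsgLib.MetacyclicOmega.le_center_of_card_le (hG.to_quotient Φ₂) _ hle
      (mem_map_of_mem π₂ hl)) (π₂ y)
  have hgp : ∀ g ∈ E₁, g ^ p ∈ Φ₂ := by
    intro g hg
    have hgD : g ^ p ∈ D := ⟨E₁.pow_mem hg p, h₂.pow_mem g⟩
    obtain ⟨d, hd⟩ : ∃ d, d = g⁻¹ * β g := ⟨_, rfl⟩
    have hdD : d ∈ D := hd ▸ hβD g
    have h1 : π₂ (β (g ^ p)) = π₂ (g ^ p) := by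
      rw [map_pow β, show β g = g * d by rw [hd]; group, map_pow, map_pow, map_mul]
      have hc : ∀ y : G, π₂ y * ⁅π₂ d, π₂ g⁆ = ⁅π₂ d, π₂ g⁆ * π₂ y := fun y => by
        rw [← map_commutatorElement]
        refine hL2 y _ ?_
        rw [← commutatorElement_inv]
        exact inv_mem (hLmem g d hdD)
      rw [mul_pow_odd hodd (hc g) (hc d) ?_, ← map_pow π₂ d,
        show π₂ (d ^ p) = 1 from (QuotientGroup.eq_one_iff _).2 (hDp d hdD).2, mul_one]
      rw [← map_commutatorElement, ← map_pow]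
      exact (QuotientGroup.eq_one_iff _).2 (hDp _ (hGD d g)).2
    refine mem_of_sq_mem hG hodd Φ₂ ((QuotientGroup.eq_one_iff _).1 ?_)
    show π₂ (g ^ p * g ^ p) = 1
    rw [map_mul]
    nth_rw 1 [← h1]
    rw [← map_mul]
    exact (QuotientGroup.eq_one_iff _).2 (hβinv _ hgD)
  set πL := QuotientGroup.mk' L with hπL
  have hDL : ∀ y : G, ∀ d ∈ D, Commute (πL y) (πL d) := fun y d hd => by
    rw [← commutatorElement_eq_one_iff_commute, ← map_commutatorElement]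
    exact (QuotientGroup.eq_one_iff _).2 (hLmem y d hd)
  have hΦ₁L : Φ₁ ≤ L := frn_le_of (p := p) (fun e he => mem_sup_left (hgp e he)) fun u hu v hv => by
    refine (QuotientGroup.eq_one_iff _).1 ?_
    show πL ⁅u, v⁆ = 1
    rw [map_commutatorElement, commutatorElement_eq_one_iff_commute]
    obtain ⟨i, d, hd, rfl⟩ := h₂.decomp hg₀' u
    obtain ⟨j, d', hd', rfl⟩ := h₂.decomp hg₀' v
    have hdD : d ∈ D := ⟨by simpa using mul_mem (inv_mem (zpow_mem hg₀ i)) hu, hd⟩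
    have hd'D : d' ∈ D := ⟨by simpa using mul_mem (inv_mem (zpow_mem hg₀ j)) hv, hd'⟩
    rw [map_mul, map_mul, map_zpow, map_zpow]
    exact ((((Commute.refl (πL g₀)).zpow_zpow i j).mul_right ((hDL g₀ d' hd'D).zpow_left i)).mul_left
      (((hDL g₀ d hdD).zpow_left j).symm.mul_right (hDL d d' hd'D)))
  have hL1 : ∀ y : G, ∀ l ∈ L, ⁅y, l⁆ ∈ Φ₁ := fun y l hl => by
    set π₁ := QuotientGroup.mk' Φ₁ with hπ₁
    haveI : (L.map π₁).Normal := (inferInstance : L.Normal).map _ (QuotientGroup.mk'_surjective Φ₁)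
    have hle : Nat.card (L.map π₁) ≤ p := by
      have h1 := CfsgLib.MaxClassCube.card_map_mul_card_inf_ker' π₁ L
      rw [hπ₁, QuotientGroup.ker_mk', inf_eq_right.2 hΦ₁L] at h1
      exact Nat.le_of_mul_le_mul_right (h1.trans_le (hLc hDΦ₁)) Nat.card_pos
    refine (QuotientGroup.eq_one_iff _).1 ?_
    show π₁ ⁅y, l⁆ = 1
    rw [map_commutatorElement, commutatorElement_eq_one_iff_mul_comm]
    exact mem_center_iff.1 (CfsgLib.MetacyclicOmega.le_center_of_card_le (hG.to_quotient Φ₁) _ hle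
      (mem_map_of_mem π₁ hl)) (π₁ y)
  have hgen : ∀ l ∈ L, ∃ k : ℤ, (⁅g₀, a⁆ ^ k)⁻¹ * l ∈ Φ₂ := by
    intro l hl
    refine CfsgLib.Fusion.RankThree.exists_zpow_inv_mul_mem hG le_sup_left ?_ (hLmem g₀ a ha) haΦ hl
    refine le_antisymm (hLc hDΦ₂) (CfsgLib.MaxClassCube.mul_card_le hG ?_)
    exact lt_of_le_of_ne le_sup_left fun e => haΦ (e.ge (hLmem g₀ a ha))
  have hg₀a : ⁅g₀, a⁆ ∈ Φ₁ := comm_mem_frn hG hg₀ ha.1
  -- an element of `E₂` commuting with `g₀` modulo `Φ₂`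
  obtain ⟨x, hx, hx', hxg⟩ : ∃ x ∈ E₂, x ∉ E₁ ∧ ⁅x, g₀⁆ ∈ Φ₂ := by
    set v := ⁅x₀, g₀⁆ with hv
    have hvD : v ∈ D := hGD _ _
    have hvL : v ∈ L := by
      refine mem_of_sq_mem hG hodd L ((QuotientGroup.eq_one_iff _).1 ?_)
      show πL (v * v) = 1
      have h1 : πL (β v) = πL v := by
        obtain ⟨d, hd⟩ : ∃ d, d = x₀⁻¹ * β x₀ := ⟨_, rfl⟩
        obtain ⟨d', hd'⟩ : ∃ d', d' = g₀⁻¹ * β g₀ := ⟨_, rfl⟩
        have e1 : Commute (πL g₀) (πL d) := hDL g₀ d (hd ▸ hβD x₀)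
        have e2 : ∀ y, Commute (πL y) (πL d') := fun y => hDL y d' (hd' ▸ hβD g₀)
        rw [hv, map_commutatorElement β, show β x₀ = x₀ * d by rw [hd]; group,
          show β g₀ = g₀ * d' by rw [hd']; group, map_commutatorElement, map_commutatorElement, map_mul, map_mul]
        have e3 : ∀ y, Commute (πL y) (πL d) := fun y => hDL y d (hd ▸ hβD x₀)
        simp only [commutatorElement_def, mul_inv_rev]
        calc πL x₀ * πL d * (πL g₀ * πL d') * ((πL d)⁻¹ * (πL x₀)⁻¹) * ((πL d')⁻¹ * (πL g₀)⁻¹)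
            = πL x₀ * (πL d * (πL g₀ * πL d') * (πL d)⁻¹) * (πL x₀)⁻¹ * ((πL d')⁻¹ * (πL g₀)⁻¹) := by
              simp only [mul_assoc]
          _ = πL x₀ * (πL g₀ * πL d') * (πL x₀)⁻¹ * ((πL d')⁻¹ * (πL g₀)⁻¹) := by
              rw [((e3 g₀).mul_left (e3 d')).symm.eq, mul_inv_cancel_right]
          _ = πL x₀ * πL g₀ * (πL d' * (πL x₀)⁻¹ * (πL d')⁻¹) * (πL g₀)⁻¹ := by simp only [mul_assoc]
          _ = _ := by rw [((e2 x₀).inv_left).symm.eq, mul_inv_cancel_right]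
      rw [map_mul]
      nth_rw 1 [← h1]
      rw [← map_mul]
      exact (QuotientGroup.eq_one_iff _).2 (mem_sup_left (hβinv v hvD))
    obtain ⟨k, hk⟩ := hgen v hvL
    refine ⟨a ^ k * x₀, E₂.mul_mem (E₂.zpow_mem ha.2 k) hx₀, fun hc => hx₀' ?_, ?_⟩
    · simpa using E₁.mul_mem (E₁.inv_mem (E₁.zpow_mem ha.1 k)) hc
    · refine (QuotientGroup.eq_one_iff _).1 ?_
      show π₂ ⁅a ^ k * x₀, g₀⁆ = 1
      have e1 : π₂ v = π₂ ⁅g₀, a⁆ ^ k := by
        rw [← map_zpow]; exact ((QuotientGroup.eq (s := Φ₂)).2 hk).symm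
      have e2 : ⁅π₂ a ^ k, π₂ g₀⁆ = (π₂ ⁅g₀, a⁆ ^ k)⁻¹ := by
        have hcl : ∀ y, Commute (π₂ y) (π₂ ⁅g₀, a⁆) := fun y => hL2 y _ (hLmem g₀ a ha)
        rw [← commutatorElement_inv, inv_inj, comm_zpow_of_comm (by rw [← map_commutatorElement]; exact (hcl a).symm),
          map_commutatorElement]
      rw [show ⁅a ^ k * x₀, g₀⁆ = a ^ k * v * (a ^ k)⁻¹ * ⁅a ^ k, g₀⁆ by
        rw [hv, commutatorElement_def, commutatorElement_def]; group,
        map_mul, map_mul, map_mul, map_inv, e1, map_commutatorElement π₂ (a ^ k) g₀, map_zpow, e2]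
      have e3 : Commute (π₂ a ^ k) (π₂ ⁅g₀, a⁆ ^ k) :=
        ((show Commute (π₂ a) (π₂ ⁅g₀, a⁆) from hL2 a _ (hLmem g₀ a ha)).zpow_zpow k k)
      rw [e3.eq, mul_inv_cancel_right, mul_inv_cancel]
  -- everything modulo the intersection of the Frattini subgroups
  set M : Subgroup G := Φ₁ ⊓ Φ₂ with hM
  set π := QuotientGroup.mk' M with hπ
  have hπ1 : ∀ {y : G}, y ∈ M → π y = 1 := fun hy => (QuotientGroup.eq_one_iff _).2 hy
  have hcL : ∀ y : G, ∀ l ∈ L, Commute (π y) (π l) := fun y l hl => by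
    rw [← commutatorElement_eq_one_iff_commute, ← map_commutatorElement]
    refine hπ1 ⟨hL1 y l hl, (QuotientGroup.eq_one_iff _).1 ?_⟩
    show π₂ ⁅y, l⁆ = 1
    rw [map_commutatorElement, commutatorElement_eq_one_iff_mul_comm]
    exact hL2 y l hl
  have hcDD : ∀ d ∈ D, ∀ d' ∈ D, Commute (π d) (π d') := fun d hd d' hd' => by
    rw [← commutatorElement_eq_one_iff_commute, ← map_commutatorElement]
    exact hπ1 (hDc d hd d' hd')
  have hmap : ∀ {N : Subgroup G} {y : G}, M ≤ N → π y ∈ N.map π → y ∈ N := fun {N y} hMN hy => by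
    obtain ⟨z, hz, hzy⟩ := hy
    have h1 := (QuotientGroup.eq (s := M)).1 hzy
    simpa using mul_mem hz (hMN h1)
  have hMD : M ≤ D := inf_le_left.trans hΦ₁D
  have hΦ₂M : ∀ {c : G}, c ∈ Φ₂ → c ∉ Φ₁ → ∀ y ∈ Φ₂, ∃ k : ℤ, (c ^ k)⁻¹ * y ∈ M := by
    intro c hc hc1 y hy
    haveI : M.Normal := inferInstance
    refine CfsgLib.Fusion.RankThree.exists_zpow_inv_mul_mem hG inf_le_right ?_ hc (fun h => hc1 h.1) hy
    refine le_antisymm ?_ (CfsgLib.MaxClassCube.mul_card_le hG (lt_of_le_of_ne inf_le_right fun e => hc1 (e.ge hc).1))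
    have h1 := CfsgLib.MaxClassCube.card_map_mul_card_inf_ker' (QuotientGroup.mk' Φ₁) Φ₂
    have h2 := CfsgLib.MaxClassCube.card_map_mul_card_inf_ker' (QuotientGroup.mk' Φ₁) L
    rw [QuotientGroup.ker_mk'] at h1 h2
    rw [inf_eq_right.2 hΦ₁L] at h2
    rw [inf_comm] at h1
    rw [← h1]
    refine Nat.mul_le_mul_right _ ((Subgroup.card_le_of_le (map_mono (f := QuotientGroup.mk' Φ₁) (le_sup_left : Φ₂ ≤ L))).trans ?_)
    exact Nat.le_of_mul_le_mul_right (h2.trans_le (hLc hDΦ₁)) Nat.card_pos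
  have hMΓ : ∀ γ ∈ Γ, ∀ y ∈ M, γ y ∈ M := fun γ hγ y hy =>
    ⟨hfrnΓ E₁ hf₁ γ hγ y hy.1, hfrnΓ E₂ hf₂ γ hγ y hy.2⟩
  have hne1 : π ⁅g₀, a⁆ ∉ Φ₂.map π := fun hc => haΦ (hmap inf_le_right hc)
  have hexpD : ∀ d ∈ D, π d ^ p = 1 := fun d hd => by rw [← map_pow]; exact hπ1 (hDp d hd)
  have hxD : ∀ {S : Set (G ⧸ M)}, S ⊆ D.map π → π x ∉ closure S := fun hS hc =>
    hx' (hmap (hMD.trans inf_le_left) (map_mono inf_le_left ((closure_le _).2 hS hc)))
  by_cases hcase : ∀ d ∈ D, ⁅x, d⁆ ∈ Φ₁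
  · -- `x` centralizes `D` modulo `M`
    have hxD' : ∀ d ∈ D, Commute (π x) (π d) := fun d hd => by
      rw [← commutatorElement_eq_one_iff_commute, ← map_commutatorElement]
      exact hπ1 ⟨hcase d hd, comm_mem_frn hG hx hd.2⟩
    set f := ⁅x, g₀⁆ with hf
    have hxL : ∀ e ∈ E₁, ⁅x, e⁆ ∈ L := fun e he => by
      refine (QuotientGroup.eq_one_iff _).1 ?_
      show πL ⁅x, e⁆ = 1
      obtain ⟨i, d, hd, rfl⟩ := h₂.decomp hg₀' e
      have hdD : d ∈ D := ⟨by simpa using mul_mem (inv_mem (zpow_mem hg₀ i)) he, hd⟩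
      rw [map_commutatorElement, commutatorElement_eq_one_iff_commute, map_mul, map_zpow]
      refine (Commute.zpow_right ?_ i).mul_right (hDL x d hdD)
      rw [← commutatorElement_eq_one_iff_commute, ← map_commutatorElement]
      exact (QuotientGroup.eq_one_iff _).2 (mem_sup_left hxg)
    have hf1 : f ∉ Φ₁ := fun hfΦ => by
      have htriv : ∀ r : E₁, ((r⁻¹ * MulAut.conjNormal (H := E₁) x r : E₁) : G) ∈ Φ₁ := fun r => by
        show (r : G)⁻¹ * (x * r * x⁻¹) ∈ Φ₁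
        rw [show (r : G)⁻¹ * (x * r * x⁻¹) = (r : G)⁻¹ * ⁅x, (r : G)⁆ * (r : G)⁻¹⁻¹ by
          rw [commutatorElement_def]; group]
        refine (inferInstance : Φ₁.Normal).conj_mem _ ?_ _
        obtain ⟨i, d, hd, hr⟩ := h₂.decomp hg₀' (r : G)
        have hdD : d ∈ D := ⟨by simpa [hr] using mul_mem (inv_mem (zpow_mem hg₀ i)) r.2, hd⟩
        rw [hr, ← QuotientGroup.eq_one_iff]
        show QuotientGroup.mk' Φ₁ ⁅x, g₀ ^ i * d⁆ = 1
        rw [map_commutatorElement, commutatorElement_eq_one_iff_commute, map_mul, map_zpow]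
        refine (Commute.zpow_right ?_ i).mul_right ?_ <;>
          rw [← commutatorElement_eq_one_iff_commute, ← map_commutatorElement] <;>
          refine (QuotientGroup.eq_one_iff _).2 ?_
        · exact hfΦ
        · exact hcase d hdD
      have hin := h₁.core (X₁ ⊓ (frAct (H := E₁)).ker) inf_le_left (fun α hα y hy =>
        ⟨X₁.mul_mem (X₁.mul_mem hα hy.1) (X₁.inv_mem hα), show frAct (α * y * α⁻¹) = 1 by
          rw [map_mul, map_mul, show frAct y = 1 from hy.2, mul_one, map_inv, mul_inv_cancel]⟩)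
        (isPGroup_of_frAct (hG.to_subgroup E₁) _ fun σ hσ => hσ.2)
      refine hx' (h₁.mem_of_inn (hin ⟨h₁.qle ⟨x, rfl⟩, MonoidHom.mem_ker.2 (frAct_eq_one_iff.2 fun r => ?_)⟩))
      have h1 := (inferInstance : (frattini E₁).Normal).conj_mem _ (mem_frn.1 (htriv r)) r
      simpa [mul_assoc] using h1
    obtain ⟨t₁, -, β₁, hβ₁, -, hβ₁inv, hβ₁x, -⟩ := h₁.exists_neg_elem hx' (A := E₁) (N := Φ₁) (L := L)
      le_rfl (frn_le E₁) hΦ₁L (hLD.trans inf_le_left) (fun α _ r _ => (α r).2) hiΦ₁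
      (fun d hd e he => comm_mem_frn hG he hd) hxL (hLc hDΦ₁) (P := X₁) le_rfl
      (fun α hα y hy => X₁.mul_mem (X₁.mul_mem hα hy) (X₁.inv_mem hα)) h₁.qle
      (fun Y hY htriv => isPGroup_of_frAct (hG.to_subgroup E₁) Y fun σ hσ => frAct_eq_one_iff.2 fun r => by
        have h1 := (inferInstance : (frattini E₁).Normal).conj_mem _ (mem_frn.1 (htriv σ hσ r r.2)) r
        simpa [mul_assoc] using h1)
    obtain ⟨j, hj⟩ := hΦ₂M hxg hf1 (x ^ p) (pow_mem_frn hG hx)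
    have hxp : x ^ p ∈ M := by
      obtain ⟨d, hd⟩ : ∃ d, d = x⁻¹ * β₁ x := ⟨_, rfl⟩
      have hdD : d ∈ D := hd ▸ ⟨hβ₁x, E₂.mul_mem (E₂.inv_mem hx) (hf₂ β₁ hβ₁ x hx)⟩
      have e1 : π (β₁ (x ^ p)) = π (x ^ p) := by
        rw [map_pow β₁, show β₁ x = x * d by rw [hd]; group, map_pow, map_pow, map_mul, (hxD' d hdD).mul_pow,
          hexpD d hdD, mul_one]
      have e2 : π (x ^ p) = π (f ^ j) := ((QuotientGroup.eq (s := M)).2 hj).symm
      have e3 : f ^ j ∈ Φ₁ := by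
        refine mem_of_sq_mem hG hodd Φ₁ ?_
        have h4 : π (β₁ (f ^ j)) = π (f ^ j) := by
          refine Eq.trans ?_ (e1.trans e2)
          refine (QuotientGroup.eq (s := M)).2 ?_
          rw [← map_inv, ← map_mul]
          exact hMΓ β₁ hβ₁ _ hj
        have h5 : (β₁ (f ^ j))⁻¹ * f ^ j ∈ Φ₁ := ((QuotientGroup.eq (s := M)).1 h4).1
        have h6 : (QuotientGroup.mk' Φ₁) (β₁ f) = (QuotientGroup.mk' Φ₁ f)⁻¹ := by
          refine eq_inv_of_mul_eq_one_left ?_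
          rw [← map_mul]
          exact (QuotientGroup.eq_one_iff _).2 (hβ₁inv g₀ hg₀)
        refine (QuotientGroup.eq_one_iff _).1 ?_
        show QuotientGroup.mk' Φ₁ (f ^ j * f ^ j) = 1
        have h7 : QuotientGroup.mk' Φ₁ (β₁ (f ^ j)) = QuotientGroup.mk' Φ₁ (f ^ j) :=
          (QuotientGroup.eq (s := Φ₁)).2 h5
        rw [map_mul]
        nth_rw 1 [← h7]
        rw [map_zpow β₁, map_zpow, h6, inv_zpow, ← map_zpow, inv_mul_cancel]
      have h8 : (f ^ j) * ((f ^ j)⁻¹ * x ^ p) ∈ M := mul_mem ⟨e3, zpow_mem hxg j⟩ hj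
      rwa [mul_inv_cancel_left] at h8
    refine false_of_four hG h₁.rank M (a := π f) (b := π ⁅g₀, a⁆) (c := π a) (d := π x)
      (fun h0 => hf1 ((QuotientGroup.eq_one_iff _).1 h0).1) (fun hb => hne1 ?_) (fun hc => ?_) (hxD ?_) ?_ ?_
    · exact zpowers_le.2 (mem_map_of_mem π hxg) hb
    · have h1 : a ∈ L := hmap (inf_le_left.trans hΦ₁L) ((closure_le _).2 (by
        rintro _ (rfl | rfl)
        · exact mem_map_of_mem π (mem_sup_left hxg)
        · exact mem_map_of_mem π (hLmem g₀ a ha)) hc)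
      refine haΦ ((QuotientGroup.eq_one_iff _).1 ?_)
      show π₂ ⁅g₀, a⁆ = 1
      rw [map_commutatorElement, commutatorElement_eq_one_iff_mul_comm]
      exact hL2 g₀ a h1
    · rintro _ (rfl | rfl | rfl)
      · exact mem_map_of_mem π (hΦ₂D hxg)
      · exact mem_map_of_mem π (hGD g₀ a)
      · exact mem_map_of_mem π ha
    · rintro y (rfl | rfl | rfl | rfl)
      · exact hexpD _ (hΦ₂D hxg)
      · exact hexpD _ (hGD g₀ a)
      · exact hexpD _ ha
      · rw [← map_pow]; exact hπ1 hxp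
    · have c1 : ∀ y, Commute (π y) (π f) := fun y => hcL y f (mem_sup_left hxg)
      have c2 : ∀ y, Commute (π y) (π ⁅g₀, a⁆) := fun y => hcL y _ (hLmem g₀ a ha)
      rintro y (rfl | rfl | rfl | rfl) z (rfl | rfl | rfl | rfl) <;>
        first
          | rfl
          | exact (c1 _).eq
          | exact (c1 _).symm.eq
          | exact (c2 _).eq
          | exact (c2 _).symm.eq
          | exact (hxD' a ha).eq
          | exact (hxD' a ha).symm.eq
  · -- `x` moves `D` modulo `M`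
    push Not at hcase
    obtain ⟨b, hb, hbΦ⟩ := hcase
    set c := ⁅x, b⁆ with hc
    have hcΦ : c ∈ Φ₂ := comm_mem_frn hG hx hb.2
    obtain ⟨k, hk⟩ := hΦ₂M hcΦ hbΦ _ hxg
    have hcC : ∀ y, Commute (π y) (π c) := fun y => hcL y c (mem_sup_left hcΦ)
    set g := g₀ * (b ^ k)⁻¹ with hg
    have hgE : g ∈ E₁ := E₁.mul_mem hg₀ (E₁.inv_mem (E₁.zpow_mem hb.1 k))
    have hgE' : g ∉ E₂ := fun hc' => hg₀' (by simpa [hg] using E₂.mul_mem hc' (E₂.zpow_mem hb.2 k))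
    have hxgM : Commute (π x) (π g) := by
      rw [← commutatorElement_eq_one_iff_commute]
      have e1 : ⁅π x, π g₀⁆ = π c ^ k := by
        rw [← map_commutatorElement, ← map_zpow]; exact ((QuotientGroup.eq (s := M)).2 hk).symm
      have e2 : ⁅π x, (π b ^ k)⁻¹⁆ = (π c ^ k)⁻¹ := by
        rw [← zpow_neg, comm_zpow_of_comm (by rw [← map_commutatorElement]; exact (hcC b).symm),
          ← map_commutatorElement, zpow_neg]
      rw [hg, map_mul, map_inv, map_zpow, show ⁅π x, π g₀ * (π b ^ k)⁻¹⁆ =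
        ⁅π x, π g₀⁆ * (π g₀ * ⁅π x, (π b ^ k)⁻¹⁆ * (π g₀)⁻¹) by simp only [commutatorElement_def]; group, e1, e2,
        (show Commute (π g₀) (π c ^ k)⁻¹ from ((hcC g₀).zpow_right k).inv_right).eq, mul_inv_cancel_right,
        mul_inv_cancel]
    have hxp : x ^ p ∈ M := by
      obtain ⟨j, hj⟩ := hΦ₂M hcΦ hbΦ (x ^ p) (pow_mem_frn hG hx)
      obtain ⟨d, hd⟩ : ∃ d, d = x⁻¹ * β x := ⟨_, rfl⟩
      have hdD : d ∈ D := hd ▸ hβD x
      have hcd : ∀ y, Commute (π y) ⁅π d, π x⁆ := fun y => by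
        rw [← map_commutatorElement]
        refine hcL y _ (mem_sup_left ?_)
        exact comm_mem_frn hG hdD.2 hx
      have e1 : π (β (x ^ p)) = π (x ^ p) := by
        rw [map_pow β, show β x = x * d by rw [hd]; group, map_pow, map_pow, map_mul,
          mul_pow_odd hodd (hcd x) (hcd d) (by rw [← map_commutatorElement]; exact hexpD _ (hGD d x)),
          hexpD d hdD, mul_one]
      obtain ⟨f, hf⟩ : ∃ f, f = β b * b := ⟨_, rfl⟩
      have e2 : π (β c) = (π c)⁻¹ := by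
        have hfΦ : f ∈ Φ₂ := hf ▸ hβinv b hb
        rw [hc, map_commutatorElement β, show β x = x * d by rw [hd]; group,
          show β b = f * b⁻¹ by rw [hf]; group, map_commutatorElement, map_mul, map_mul, map_inv,
          map_commutatorElement]
        have f1 : Commute (π x * π d) (π f) :=
          (hcL x f (mem_sup_left hfΦ)).mul_left (hcL d f (mem_sup_left hfΦ))
        have f2 : Commute (π d) (π b)⁻¹ := (hcDD d hdD b hb).inv_right
        rw [comm_mul_of_comm (by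
          rw [show ⁅π x * π d, (π b)⁻¹⁆ = ⁅π x, (π b)⁻¹⁆ by
            simp only [commutatorElement_def, mul_inv_rev, inv_inv]
            calc π x * π d * (π b)⁻¹ * ((π d)⁻¹ * (π x)⁻¹) * (π b)⁻¹⁻¹ =
                π x * (π d * (π b)⁻¹ * (π d)⁻¹) * (π x)⁻¹ * (π b)⁻¹⁻¹ := by simp only [mul_assoc]
              _ = _ := by rw [f2.eq, mul_inv_cancel_right]]
          rw [← map_inv, ← map_commutatorElement]
          exact (hcL f _ (mem_sup_left (comm_mem_frn hG hx (inv_mem hb.2)))).symm),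
          commutatorElement_eq_one_iff_commute.2 f1, one_mul]
        simp only [commutatorElement_def, mul_inv_rev, inv_inv]
        have f3 : Commute (π b) (π x * π b * (π x)⁻¹ * (π b)⁻¹) := by
          have h9 := hcC b
          rw [hc, map_commutatorElement, commutatorElement_def] at h9
          exact h9
        calc π x * π d * (π b)⁻¹ * ((π d)⁻¹ * (π x)⁻¹) * (π b)⁻¹⁻¹ =
            π x * (π d * (π b)⁻¹ * (π d)⁻¹) * (π x)⁻¹ * (π b)⁻¹⁻¹ := by simp only [mul_assoc]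
          _ = π x * (π b)⁻¹ * (π x)⁻¹ * π b := by rw [f2.eq, mul_inv_cancel_right]; group
          _ = (π b)⁻¹ * (π x * π b * (π x)⁻¹ * (π b)⁻¹)⁻¹ * π b := by group
          _ = _ := by rw [f3.inv_right.inv_left.eq, inv_mul_cancel_right]; group
      have e3 : π (x ^ p) = π c ^ j := by rw [← map_zpow]; exact ((QuotientGroup.eq (s := M)).2 hj).symm
      have e4 : π (β (x ^ p)) = (π c ^ j)⁻¹ := by
        have h1 : π (β (x ^ p)) = π (β (c ^ j)) :=
          ((QuotientGroup.eq (s := M)).2 (by rw [← map_inv, ← map_mul]; exact hMΓ β hβ _ hj)).symm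
        rw [h1, map_zpow β, map_zpow, e2, inv_zpow]
      refine mem_of_sq_mem hG hodd M ((QuotientGroup.eq_one_iff _).1 ?_)
      show π (x ^ p * x ^ p) = 1
      rw [map_mul]
      nth_rw 1 [← e1]
      rw [e4, e3, inv_mul_cancel]
    have hgp' : g ^ p ∈ M := ⟨pow_mem_frn hG hgE, hgp g hgE⟩
    refine false_of_four hG h₁.rank M (a := π c) (b := π ⁅g₀, a⁆) (c := π x) (d := π g)
      (fun h0 => hbΦ ((QuotientGroup.eq_one_iff _).1 h0).1) (fun hb' => hne1 ?_) (hxD ?_) (fun hc' => ?_) ?_ ?_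
    · exact zpowers_le.2 (mem_map_of_mem π hcΦ) hb'
    · rintro _ (rfl | rfl)
      · exact mem_map_of_mem π (hΦ₂D hcΦ)
      · exact mem_map_of_mem π (hGD g₀ a)
    · refine hgE' (hmap (hMD.trans inf_le_right) ((closure_le _).2 ?_ hc'))
      rintro _ (rfl | rfl | rfl)
      · exact mem_map_of_mem π (hΦ₂D hcΦ).2
      · exact mem_map_of_mem π (hGD g₀ a).2
      · exact mem_map_of_mem π hx
    · rintro y (rfl | rfl | rfl | rfl)
      · exact hexpD _ (hΦ₂D hcΦ)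
      · exact hexpD _ (hGD g₀ a)
      · rw [← map_pow]; exact hπ1 hxp
      · rw [← map_pow]; exact hπ1 hgp'
    · have c2 : ∀ y, Commute (π y) (π ⁅g₀, a⁆) := fun y => hcL y _ (hLmem g₀ a ha)
      rintro y (rfl | rfl | rfl | rfl) z (rfl | rfl | rfl | rfl) <;>
        first
          | rfl
          | exact (hcC _).eq
          | exact (hcC _).symm.eq
          | exact (c2 _).eq
          | exact (c2 _).symm.eq
          | exact hxgM.eq
          | exact hxgM.symm.eq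

end CfsgLib.Fusion.IndexFamily
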