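import Cfsg.Agent.Lib.Fusion.System.RankThree.NormalFamily.Basic
import Cfsg.Agent.Lib.Fusion.System.RankThree.JData
import Cfsg.Agent.Lib.Fusion.System.RankThree.Transvection
import Cfsg.Agent.Lib.PGroup.SchurExponent

/-!
# A group of order `p ^ 3` acting faithfully on an elementary abelian group of order at most `p ^ 3`

It induces the whole unitriangular group: there is a unique invariant flag and every pair of values
of the commutators with a basis adapted to the flag occurs.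
-/

set_option autoImplicit false
set_option linter.style.haveILetI false
set_option linter.unusedSectionVars false

open Subgroup
open scoped commutatorElement

namespace CfsgLib.Fusion.IndexFamily

universe u

variable {G : Type u} [Group G] [Finite G] {p : ℕ} [Fact p.Prime]

/-- The flag of a full unitriangular action. -/
structure Flag (p : ℕ) {G : Type u} [Group G] (A R P : Subgroup G) (q a : G) : Prop where
  cardA : Nat.card A = p ^ 3
  cardR : Nat.card R = p
  cardP : Nat.card P = p ^ 2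
  RP : R ≤ P
  PA : P ≤ A
  center : ∀ y ∈ A, y ∈ Subgroup.center G → y ∈ R
  R_center : R ≤ Subgroup.center G
  normal : P.Normal
  qP : q ∈ P
  qR : q ∉ R
  aA : a ∈ A
  aP : a ∉ P
  commP : ∀ x ∈ P, ∀ g : G, ⁅g, x⁆ ∈ R
  commA : ∀ x ∈ A, ∀ g : G, ⁅g, x⁆ ∈ P
  second : ∀ x ∈ A, (∀ g : G, ⁅g, x⁆ ∈ R) → x ∈ P
  surj : ∀ r ∈ R, ∀ t ∈ P, ∃ g : G, ⁅g, q⁆ = r ∧ ⁅g, a⁆ = t

omit [Finite G] [Fact p.Prime] in
/-- Commutators with a product of commuting images. -/
theorem comm_mul_of_comm {g x y : G} (h : Commute ⁅g, y⁆ x) : ⁅g, x * y⁆ = ⁅g, x⁆ * ⁅g, y⁆ := by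
  rw [show ⁅g, x * y⁆ = ⁅g, x⁆ * (x * ⁅g, y⁆ * x⁻¹) by simp only [commutatorElement_def]; group,
    ← h.eq, mul_inv_cancel_right]

omit [Finite G] [Fact p.Prime] in
/-- Commutators with powers of an element commuting with its conjugates. -/
theorem comm_zpow_of_comm {g x : G} (h : Commute ⁅g, x⁆ x) (k : ℤ) : ⁅g, x ^ k⁆ = ⁅g, x⁆ ^ k := by
  have e1 : g * x * g⁻¹ = ⁅g, x⁆ * x := by rw [commutatorElement_def]; group
  rw [commutatorElement_def g (x ^ k), ← conj_zpow, e1, h.mul_zpow, mul_inv_cancel_right]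

/-- A faithful action of order `p ^ 3` is full. -/
theorem exists_flag (hG : IsPGroup p G) {A : Subgroup G} [A.Normal] (hab : ∀ x ∈ A, ∀ y ∈ A, x * y = y * x)
    (hexp : ∀ x ∈ A, x ^ p = 1) (hle : Nat.card A ≤ p ^ 3) (hcent : ∀ g : G, (∀ x ∈ A, g * x = x * g) → g ∈ A)
    (hc : Nat.card G = p ^ 3 * Nat.card A) : ∃ R P q a, Flag p A R P q a := by
  have hp := (Fact.out : p.Prime)
  haveI := hG.isNilpotent
  have hA : A ≠ ⊤ := fun e => by
    rw [e, Subgroup.card_top] at hc
    have := Nat.one_lt_pow (n := 3) (by norm_num) hp.one_lt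
    have := Nat.card_pos (α := G)
    nlinarith
  have hAb : A ≠ ⊥ := fun e => hA (eq_top_iff.2 fun g _ => hcent g fun x hx => by
    rw [e, mem_bot] at hx; rw [hx, one_mul, mul_one])
  obtain ⟨c, hcR, hc1⟩ : ∃ c ∈ A ⊓ Subgroup.center G, c ≠ 1 := by
    by_contra hcon
    push Not at hcon
    exact CfsgLib.Coprime.nilpotent_inf_center_ne_bot A hAb (eq_bot_iff.2 fun x hx => mem_bot.2 (hcon x hx))
  set R := zpowers c with hR
  have hcR' : Nat.card R = p := by rw [hR, Nat.card_zpowers]; exact orderOf_eq_prime (hexp c hcR.1) hc1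
  have hRc : R ≤ Subgroup.center G := zpowers_le.2 hcR.2
  have hRA : R ≤ A := zpowers_le.2 hcR.1
  haveI : R.Normal := CfsgLib.Schur.normal_le_center hRc
  set π := QuotientGroup.mk' R with hπ
  haveI : (A.map π).Normal := Subgroup.Normal.map inferInstance π (QuotientGroup.mk'_surjective R)
  have hkey : ∀ {x : G} (g : G), π x ∈ Subgroup.center (G ⧸ R) → ⁅g, x⁆ ∈ R := fun {x} g hx => by
    refine (QuotientGroup.eq_one_iff _).1 ?_
    show π ⁅g, x⁆ = 1
    rw [map_commutatorElement, commutatorElement_eq_one_iff_mul_comm]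
    exact mem_center_iff.1 hx (π g)
  -- the middle term
  have hne : A.map π ≠ ⊥ := fun e => hA (eq_top_iff.2 fun g _ => hcent g fun x hx => by
    have h1 : π x = 1 := mem_bot.1 (e ▸ mem_map_of_mem π hx)
    exact mem_center_iff.1 (hRc ((QuotientGroup.eq_one_iff x).1 h1)) g)
  haveI := (hG.to_quotient R).isNilpotent
  obtain ⟨_, ⟨⟨q, hqA, rfl⟩, hqc⟩, hq1⟩ : ∃ y ∈ A.map π ⊓ Subgroup.center (G ⧸ R), y ≠ 1 := by
    by_contra hcon
    push Not at hcon
    exact CfsgLib.Coprime.nilpotent_inf_center_ne_bot (A.map π) hne (eq_bot_iff.2 fun x hx => mem_bot.2 (hcon x hx))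
  have hqR : q ∉ R := fun h => hq1 ((QuotientGroup.eq_one_iff q).2 h)
  set P := zpowers q ⊔ R with hP
  have hPA : P ≤ A := sup_le (zpowers_le.2 hqA) hRA
  have hPdec : ∀ x ∈ P, ∃ k : ℤ, ∃ r ∈ R, x = q ^ k * r := fun x hx => by
    obtain ⟨u, hu, r, hr, rfl⟩ := mem_sup_of_normal_right.1 hx
    obtain ⟨k, rfl⟩ := mem_zpowers_iff.1 hu
    exact ⟨k, r, hr, rfl⟩
  have hRPc : ∀ x ∈ P, ∀ g : G, ⁅g, x⁆ ∈ R := fun x hx g => by
    obtain ⟨k, r, hr, rfl⟩ := hPdec x hx
    refine hkey g ?_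
    rw [map_mul, map_zpow, show π r = 1 from (QuotientGroup.eq_one_iff r).2 hr, mul_one]
    exact (Subgroup.center (G ⧸ R)).zpow_mem hqc k
  haveI hPn : P.Normal := ⟨fun x hx g => by
    rw [show g * x * g⁻¹ = ⁅g, x⁆ * x by rw [commutatorElement_def]; group]
    exact mul_mem (mem_sup_right (hRPc x hx g)) hx⟩
  have hlt : R < P := lt_of_le_of_ne le_sup_right fun e => hqR (e.ge (mem_sup_left (mem_zpowers q)))
  have hP2 : p ^ 2 ≤ Nat.card P := by
    have := CfsgLib.MaxClassCube.mul_card_le hG hlt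
    rwa [hcR', ← pow_two] at this
  have hP2' : Nat.card P ≤ p ^ 2 := by
    by_contra hgt
    push Not at hgt
    obtain ⟨m, hm⟩ := (hG.to_subgroup P).exists_card_eq
    rw [hm] at hgt
    have h3 : 3 ≤ m := (Nat.pow_lt_pow_iff_right hp.one_lt).1 hgt
    have h4 : P = A := eq_of_le_of_card_ge hPA (hle.trans (hm ▸ Nat.pow_le_pow_right hp.pos h3))
    have hk : ∀ g : G, ⁅g, q⁆ = 1 → g ∈ A := fun g hg => hcent g fun x hx => by
      obtain ⟨k, r, hr, rfl⟩ := hPdec x (h4.ge hx)
      exact ((show Commute g q from commutatorElement_eq_one_iff_mul_comm.1 hg).zpow_right k).mul_right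
        (mem_center_iff.1 (hRc hr) g)
    let f : G →* R := MonoidHom.mk' (fun g => ⟨⁅g, q⁆, hRPc q (mem_sup_left (mem_zpowers q)) g⟩) fun a b =>
      Subtype.ext (by
        show ⁅a * b, q⁆ = ⁅a, q⁆ * ⁅b, q⁆
        have hb := hRc (hRPc q (mem_sup_left (mem_zpowers q)) b)
        rw [show ⁅a * b, q⁆ = a * ⁅b, q⁆ * a⁻¹ * ⁅a, q⁆ by simp only [commutatorElement_def]; group,
          mem_center_iff.1 hb a, mul_inv_cancel_right, mem_center_iff.1 hb ⁅a, q⁆])
    have hker : f.ker ≤ A := fun g hg => hk g (congrArg Subtype.val hg)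
    have h5 := Subgroup.card_mul_index f.ker
    rw [index_ker] at h5
    have h6 : Nat.card G ≤ Nat.card A * p := by
      rw [← h5]
      exact Nat.mul_le_mul (Subgroup.card_le_of_le hker) ((Subgroup.card_subgroup_dvd_card f.range).trans
        (dvd_of_eq hcR') |> Nat.le_of_dvd hp.pos)
    rw [hc, mul_comm (Nat.card A)] at h6
    have := Nat.le_of_mul_le_mul_right h6 Nat.card_pos
    have := Nat.pow_lt_pow_right hp.one_lt (show 1 < 3 by norm_num)
    rw [pow_one] at this
    omega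
  have hcP : Nat.card P = p ^ 2 := le_antisymm hP2' hP2
  have hPAne : P ≠ A := fun e => by
    have hk : ∀ g : G, ⁅g, q⁆ = 1 → g ∈ A := fun g hg => hcent g fun x hx => by
      obtain ⟨k, r, hr, rfl⟩ := hPdec x (e.ge hx)
      exact ((show Commute g q from commutatorElement_eq_one_iff_mul_comm.1 hg).zpow_right k).mul_right
        (mem_center_iff.1 (hRc hr) g)
    let f : G ⧸ A → R := Quotient.lift (fun g => (⟨⁅g, q⁆, hRPc q (mem_sup_left (mem_zpowers q)) g⟩ : R))
      fun a b hab' => Subtype.ext (by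
        show ⁅a, q⁆ = ⁅b, q⁆
        have h1 : a⁻¹ * b ∈ A := QuotientGroup.leftRel_apply.1 hab'
        set y := a⁻¹ * b with hy
        have hyq : ⁅y, q⁆ = 1 := commutatorElement_eq_one_iff_mul_comm.2 (hab y h1 q hqA)
        rw [show b = a * y by rw [hy]; group, show ⁅a * y, q⁆ = a * ⁅y, q⁆ * a⁻¹ * ⁅a, q⁆ by
          simp only [commutatorElement_def]; group, hyq, mul_one, mul_inv_cancel, one_mul])
    have hinj : Function.Injective f := fun x y => Quotient.inductionOn₂ x y fun a b hfe => by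
      refine Quotient.sound (QuotientGroup.leftRel_apply.2 (hk _ ?_))
      have h1 : ⁅a, q⁆ = ⁅b, q⁆ := congrArg Subtype.val hfe
      rw [commutatorElement_def, commutatorElement_def, mul_left_inj] at h1
      rw [commutatorElement_eq_one_iff_mul_comm]
      calc a⁻¹ * b * q = a⁻¹ * (b * q * b⁻¹) * b := by group
        _ = a⁻¹ * (a * q * a⁻¹) * b := by rw [h1]
        _ = q * (a⁻¹ * b) := by group
    have h1 := Nat.card_le_card_of_injective f hinj
    rw [hcR', ← index_eq_card] at h1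
    have h2 := A.card_mul_index
    rw [hc, mul_comm (p ^ 3)] at h2
    rw [Nat.eq_of_mul_eq_mul_left Nat.card_pos h2] at h1
    have := Nat.pow_lt_pow_right hp.one_lt (show 1 < 3 by norm_num)
    rw [pow_one] at this
    omega
  obtain ⟨a, haA, haP⟩ := SetLike.exists_of_lt (lt_of_le_of_ne hPA hPAne)
  have hA3 : Nat.card A = p ^ 3 := le_antisymm hle (by
    have := CfsgLib.MaxClassCube.mul_card_le hG (lt_of_le_of_ne hPA hPAne)
    rw [hcP] at this
    exact le_trans (le_of_eq (by ring)) this)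
  have hAP : ∀ x ∈ A, ∀ g : G, ⁅g, x⁆ ∈ P := fun x hx g => by
    set π' := QuotientGroup.mk' P
    haveI : (A.map π').Normal := Subgroup.Normal.map inferInstance π' (QuotientGroup.mk'_surjective P)
    have hle' : Nat.card (A.map π') ≤ p := by
      have h1 := CfsgLib.MaxClassCube.card_map_mul_card_inf_ker' π' A
      rw [QuotientGroup.ker_mk', inf_eq_right.2 hPA, hcP, hA3] at h1
      exact le_of_eq (Nat.eq_of_mul_eq_mul_right (pow_pos hp.pos 2) (h1.trans (by ring)))
    have h2 := CfsgLib.MetacyclicOmega.le_center_of_card_le (hG.to_quotient P) _ hle' (mem_map_of_mem π' hx)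
    refine (QuotientGroup.eq_one_iff _).1 ?_
    show π' ⁅g, x⁆ = 1
    rw [map_commutatorElement, commutatorElement_eq_one_iff_mul_comm]
    exact mem_center_iff.1 h2 (π' g)
  have hdecA : ∀ x ∈ A, ∃ s t : ℤ, ∃ r ∈ R, x = a ^ s * (q ^ t * r) := fun x hx => by
    obtain ⟨s, hs⟩ := CfsgLib.Fusion.RankThree.exists_zpow_inv_mul_mem hG hPA (by rw [hA3, hcP]; ring) haA haP hx
    obtain ⟨t, r, hr, htr⟩ := hPdec _ hs
    exact ⟨s, t, r, hr, by rw [← htr, mul_inv_cancel_left]⟩
  have hk : ∀ g : G, ⁅g, q⁆ = 1 → ⁅g, a⁆ = 1 → g ∈ A := fun g h1 h2 => hcent g fun x hx => by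
    obtain ⟨s, t, r, hr, rfl⟩ := hdecA x hx
    exact ((show Commute g a from commutatorElement_eq_one_iff_mul_comm.1 h2).zpow_right s).mul_right
      (((show Commute g q from commutatorElement_eq_one_iff_mul_comm.1 h1).zpow_right t).mul_right
        (mem_center_iff.1 (hRc hr) g))
  have hqP : q ∈ P := mem_sup_left (mem_zpowers q)
  let f : G ⧸ A → R × P := Quotient.lift
    (fun g => ((⟨⁅g, q⁆, hRPc q hqP g⟩ : R), (⟨⁅g, a⁆, hAP a haA g⟩ : P))) fun x y hxy => by
      have h1 : x⁻¹ * y ∈ A := QuotientGroup.leftRel_apply.1 hxy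
      have hgen : ∀ z ∈ A, ⁅x, z⁆ = ⁅y, z⁆ := fun z hz => by
        have hyz : ⁅x⁻¹ * y, z⁆ = 1 := commutatorElement_eq_one_iff_mul_comm.2 (hab _ h1 z hz)
        conv_rhs => rw [show y = x * (x⁻¹ * y) by group]
        rw [show ⁅x * (x⁻¹ * y), z⁆ = x * ⁅x⁻¹ * y, z⁆ * x⁻¹ * ⁅x, z⁆ by
          simp only [commutatorElement_def]; group, hyz, mul_one, mul_inv_cancel, one_mul]
      exact Prod.ext (Subtype.ext (hgen q hqA)) (Subtype.ext (hgen a haA))
  have hinj : Function.Injective f := fun x y => Quotient.inductionOn₂ x y fun g g' hfe => by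
    refine Quotient.sound (QuotientGroup.leftRel_apply.2 ?_)
    have hgen : ∀ z : G, ⁅g, z⁆ = ⁅g', z⁆ → ⁅g⁻¹ * g', z⁆ = 1 := fun z h1 => by
      rw [commutatorElement_def, commutatorElement_def, mul_left_inj] at h1
      rw [commutatorElement_eq_one_iff_mul_comm]
      calc g⁻¹ * g' * z = g⁻¹ * (g' * z * g'⁻¹) * g' := by group
        _ = g⁻¹ * (g * z * g⁻¹) * g' := by rw [h1]
        _ = z * (g⁻¹ * g') := by group
    exact hk _ (hgen q (congrArg Subtype.val (congrArg Prod.fst hfe)))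
      (hgen a (congrArg Subtype.val (congrArg Prod.snd hfe)))
  have hbij : Function.Bijective f := by
    refine (Nat.bijective_iff_injective_and_card f).2 ⟨hinj, ?_⟩
    rw [Nat.card_prod, hcR', hcP, ← index_eq_card]
    have h2 := A.card_mul_index
    rw [hc, mul_comm (p ^ 3)] at h2
    rw [Nat.eq_of_mul_eq_mul_left Nat.card_pos h2]
    ring
  have hsurj : ∀ r ∈ R, ∀ t ∈ P, ∃ g : G, ⁅g, q⁆ = r ∧ ⁅g, a⁆ = t := fun r hr t ht => by
    obtain ⟨x, hx⟩ := hbij.2 (⟨r, hr⟩, ⟨t, ht⟩)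
    induction x using Quotient.inductionOn with
    | h g => exact ⟨g, congrArg Subtype.val (congrArg Prod.fst hx), congrArg Subtype.val (congrArg Prod.snd hx)⟩
  have hsec : ∀ x ∈ A, (∀ g : G, ⁅g, x⁆ ∈ R) → x ∈ P := by
    intro x hx hg
    obtain ⟨s, t, r, hr, rfl⟩ := hdecA x hx
    obtain ⟨g, hgq, hga⟩ := hsurj 1 (one_mem R) q hqP
    have hgr : ⁅g, r⁆ = 1 := commutatorElement_eq_one_iff_mul_comm.2 (mem_center_iff.1 (hRc hr) g)
    have h1 := hg g
    rw [comm_mul_of_comm (hab _ (hPA (hAP _ (mul_mem (zpow_mem hqA t) (hRA hr)) g)) _ (zpow_mem haA s)),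
      comm_mul_of_comm (by rw [hgr]; exact Commute.one_left _), hgr, mul_one,
      comm_zpow_of_comm (x := q) (by rw [hgq]; exact Commute.one_left _), hgq, one_zpow, mul_one,
      comm_zpow_of_comm (x := a) (by rw [hga]; exact hab q hqA a haA), hga] at h1
    have hs : (s : ZMod p) = 0 := by
      by_contra hs
      exact hqR (CfsgLib.Fusion.RankThree.mem_of_zpow_mem (by rw [hexp q hqA]; exact one_mem _) h1 hs)
    rw [CfsgLib.Fusion.LineTorus.zpow_congr (hexp a haA) (r := s) (s := 0) (by simpa using hs), zpow_zero, one_mul]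
    exact mul_mem (zpow_mem hqP t) (mem_sup_right hr)
  refine ⟨R, P, q, a, hA3, hcR', hcP, le_sup_right, hPA, ?_, hRc, hPn, hqP, hqR, haA, haP, hRPc, hAP, hsec, hsurj⟩
  intro y hy hyc
  have hy1 := hsec y hy fun g => by
    rw [commutatorElement_eq_one_iff_mul_comm.2 (mem_center_iff.1 hyc g)]; exact one_mem _
  obtain ⟨t, r, hr, rfl⟩ := hPdec y hy1
  obtain ⟨g, hgq, -⟩ := hsurj c (mem_zpowers c) 1 (one_mem P)
  have hgr : ⁅g, r⁆ = 1 := commutatorElement_eq_one_iff_mul_comm.2 (mem_center_iff.1 (hRc hr) g)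
  have h1 : ⁅g, q ^ t * r⁆ = 1 := commutatorElement_eq_one_iff_mul_comm.2 (mem_center_iff.1 hyc g)
  rw [comm_mul_of_comm (by rw [hgr]; exact Commute.one_left _), hgr, mul_one,
    comm_zpow_of_comm (x := q) (by rw [hgq]; exact (mem_center_iff.1 hcR.2 q).symm), hgq] at h1
  have ht : (t : ZMod p) = 0 := by
    by_contra ht
    exact hc1 (mem_bot.1 (CfsgLib.Fusion.RankThree.mem_of_zpow_mem (H := (⊥ : Subgroup G))
      (by rw [hexp c hcR.1]; exact one_mem _) (by rw [h1]; exact one_mem _) ht))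
  rw [CfsgLib.Fusion.LineTorus.zpow_congr (hexp q hqA) (r := t) (s := 0) (by simpa using ht), zpow_zero, one_mul]
  exact hr

end CfsgLib.Fusion.IndexFamily
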