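import Cfsg.Agent.Lib.Fusion.System.RankThree.NormalFamily.Commuting
import Cfsg.Agent.Lib.Fusion.System.RankThree.NormalFamily.PlaneAction

/-!
# Two plane stabilizers on a cube are impossible

The centralizer `C` of the cube is invariant, its Frattini quotient carries a faithful action of a
group of order `p ^ 3`, and one of the two members would then have an elementary abelian section of
order `p ^ 4`.
-/

set_option autoImplicit false
set_option linter.style.haveILetI false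
set_option linter.unusedSectionVars false

open Subgroup
open scoped commutatorElement

namespace CfsgLib.Fusion.IndexFamily

open CfsgLib.Fusion.RankThree (frn frn_le mem_frn card_le_of_section InvE)
open CfsgLib.MaxClassEss (frAct frAct_eq_one_iff mem_frattini_iff_apply isPGroup_of_frAct)

universe u v

variable {G : Type u} [Group G] [Finite G] {p : ℕ} [Fact p.Prime]

/-- Restriction of an automorphism of `E` to an invariant subgroup `C`. -/
def resTo {E C : Subgroup G} (hCE : C ≤ E) (φ : MulAut E) (h1 : ∀ r : E, (r : G) ∈ C → (φ r : G) ∈ C)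
    (h2 : ∀ r : E, (r : G) ∈ C → (φ⁻¹ r : G) ∈ C) : MulAut C where
  toFun x := ⟨(φ ⟨x, hCE x.2⟩ : G), h1 _ x.2⟩
  invFun x := ⟨(φ⁻¹ ⟨x, hCE x.2⟩ : G), h2 _ x.2⟩
  left_inv x := Subtype.ext (congrArg (fun r : E => (r : G)) (MulAut.inv_apply_self E φ ⟨x, hCE x.2⟩))
  right_inv x := Subtype.ext (congrArg (fun r : E => (r : G)) (MulAut.apply_inv_self E φ ⟨x, hCE x.2⟩))
  map_mul' x y := Subtype.ext (congrArg (fun r : E => (r : G)) (map_mul φ ⟨x, hCE x.2⟩ ⟨y, hCE y.2⟩))

/-- An automorphism of a `p`-group trivial on the Frattini quotient fixes an irreducible elementary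
subgroup. -/
theorem fix_of_irreducible {C : Subgroup G} (hG : IsPGroup p G) {U : Subgroup G} (hUC : U ≤ C)
    (hUb : p ∣ Nat.card U)
    (hirr : ∀ Y : Subgroup G, Y ≤ U → Y ≠ ⊥ → (∀ b : MulAut C, (∀ x : C, (x : G) ∈ U → (b x : G) ∈ U) →
      ∀ x : C, (x : G) ∈ Y → (b x : G) ∈ Y) → Y = U)
    (a : MulAut C) (ha : ∀ x : C, (x : G) ∈ U → (a x : G) ∈ U) (ha1 : frAct a = 1) {x : C} (hx : (x : G) ∈ U) :
    a x = x := by
  haveI := finite_mulAut C
  have hp := (Fact.out : p.Prime)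
  set UC := U.subgroupOf C with hUC'
  have hinvU : ∀ {b : MulAut C}, (∀ x : C, (x : G) ∈ U → (b x : G) ∈ U) →
      ∀ x : C, (x : G) ∈ U → (b⁻¹ x : G) ∈ U := by
    intro b hb y hy
    have hle : UC.map b.toMonoidHom ≤ UC := by
      rintro _ ⟨z, hz, rfl⟩
      exact hb z hz
    have heq := eq_of_le_of_card_ge hle (card_map_of_injective b.injective).ge
    obtain ⟨z, hz, hzy⟩ := heq.ge (show y ∈ UC from hy)
    rw [← hzy, MulEquiv.coe_toMonoidHom, MulAut.inv_apply_self]
    exact hz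
  let N₀ : Subgroup (MulAut C) :=
    { carrier := {b | (∀ x : C, (x : G) ∈ U → (b x : G) ∈ U) ∧ frAct b = 1}
      one_mem' := ⟨fun x hx => hx, map_one _⟩
      mul_mem' := fun {b c} hb hc => ⟨fun x hx => hb.1 _ (hc.1 x hx), by rw [map_mul, hb.2, hc.2, one_mul]⟩
      inv_mem' := fun {b} hb => ⟨hinvU hb.1, by rw [map_inv, hb.2, inv_one]⟩ }
  have hNp : IsPGroup p N₀ := isPGroup_of_frAct (hG.to_subgroup C) _ fun σ hσ => hσ.2
  letI act : MulAction N₀ UC :=
    { smul := fun b y => ⟨(b : MulAut C) y, b.2.1 y y.2⟩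
      one_smul := fun y => rfl
      mul_smul := fun b c y => rfl }
  have hdvd : p ∣ Nat.card UC := by
    rwa [Nat.card_congr (subgroupOfEquivOfLe hUC).toEquiv]
  obtain ⟨y, hy, hy1⟩ := hNp.exists_fixed_point_of_prime_dvd_card_of_fixed_point UC hdvd (a := (1 : UC))
    fun b => Subtype.ext (map_one (b : MulAut C))
  let Y : Subgroup G :=
    { carrier := {z | z ∈ U ∧ ∀ b ∈ N₀, ∀ w : C, (w : G) = z → b w = w}
      one_mem' := ⟨one_mem U, fun b _ w hw => by rw [show w = 1 from Subtype.ext hw, map_one]⟩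
      mul_mem' := fun {s t} hs ht => ⟨mul_mem hs.1 ht.1, fun b hb w hw => by
        rw [show w = (⟨s, hUC hs.1⟩ : C) * ⟨t, hUC ht.1⟩ from Subtype.ext hw, map_mul,
          hs.2 b hb _ rfl, ht.2 b hb _ rfl]⟩
      inv_mem' := fun {s} hs => ⟨inv_mem hs.1, fun b hb w hw => by
        rw [show w = (⟨s, hUC hs.1⟩ : C)⁻¹ from Subtype.ext hw, map_inv, hs.2 b hb _ rfl]⟩ }
  have hYU : Y = U := by
    refine hirr Y (fun z hz => hz.1) (fun hb => hy1 ?_) fun b hb w hw => ⟨hb w hw.1, fun c hc w' hw' => ?_⟩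
    · have : ((y : C) : G) ∈ Y := ⟨y.2, fun c hc w hw => by
        rw [show w = (y : C) from Subtype.ext hw]
        exact congrArg Subtype.val (hy ⟨c, hc⟩)⟩
      rw [hb, mem_bot] at this
      exact (Subtype.ext (Subtype.ext this.symm) : (1 : UC) = y)
    · rw [show w' = b w from Subtype.ext hw']
      have hm : b⁻¹ * c * b ∈ N₀ := ⟨fun x hx => hinvU hb _ (hc.1 _ (hb x hx)), by
        rw [map_mul, map_mul, hc.2, mul_one, map_inv, inv_mul_cancel]⟩
      have h1 := congrArg b (hw.2 _ hm w rfl)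
      rwa [MulAut.mul_apply, MulAut.mul_apply, MulAut.apply_inv_self] at h1
  have hxY : (x : G) ∈ Y := hYU.ge hx
  exact hxY.2 a ⟨ha, ha1⟩ x rfl

variable {I : Type v} {E : I → Subgroup G} [hn : ∀ i, (E i).Normal] {X : ∀ i, Subgroup (MulAut (E i))}
  {Γ : Subgroup (MulAut G)}

/-- The configuration is impossible. -/
theorem Fam.planes_false (h : Fam p E X Γ) {i k : I} {U : Subgroup G} (hP : Planes p E X i k U) : False := by
  haveI := hP.normal
  have hp := (Fact.out : p.Prime)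
  have hG := (h.piv i).pgroup
  have hr := (h.piv i).rank
  obtain ⟨z, hz, hznc⟩ := h.exists_noncentral hP.mov
  set Z1 := omz p (E i) with hZ1
  set Z := omz p (⊤ : Subgroup G) with hZ
  obtain ⟨u, hu, hu1⟩ : ∃ u ∈ U, u ∉ Z1 := by
    by_contra hcon
    push Not at hcon
    have := Subgroup.card_le_of_le (fun x hx => hcon x hx : U ≤ Z1)
    rw [hP.card, hP.cardZ] at this
    have := Nat.pow_lt_pow_right hp.one_lt (show 2 < 3 by norm_num)
    omega
  have hUdec : ∀ x ∈ U, ∃ s : ℤ, ∃ o ∈ Z1, x = u ^ s * o := fun x hx => by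
    obtain ⟨s, hs⟩ := CfsgLib.Fusion.RankThree.exists_zpow_inv_mul_mem hG hP.omz_le
      (by rw [hP.card, hP.cardZ]; ring) hu hu1 hx
    exact ⟨s, _, hs, by group⟩
  obtain ⟨hfm, hfs⟩ := h.comm_surj hP.mov hP.cardZ hP.le_i hP.card hP.comm hP.exp hP.omz_le hu hu1
  set C : Subgroup G := centralizer (U : Set G) with hC
  haveI hCn : C.Normal := by rw [hC]; infer_instance
  have hCmem : ∀ {g : G}, g ∈ C ↔ ∀ x ∈ U, x * g = g * x := fun {g} => mem_centralizer_iff
  have hCi : C ≤ E i := fun g hg => (h.piv i).mem_of_commute hz hznc (hCmem.1 hg z (hP.omz_le hz))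
  have hUC : U ≤ C := fun x hx => hCmem.2 fun y hy => hP.comm y hy x hx
  let f : E i →* Z1 := MonoidHom.mk' (fun e => ⟨⁅(e : G), u⁆, hfm e e.2⟩) fun a b => Subtype.ext (by
    show ⁅(a : G) * b, u⁆ = ⁅(a : G), u⁆ * ⁅(b : G), u⁆
    rw [show ⁅(a : G) * b, u⁆ = (a : G) * ⁅(b : G), u⁆ * (a : G)⁻¹ * ⁅(a : G), u⁆ by
      simp only [commutatorElement_def]; group, ← (hfm b b.2).2.1 a a.2, mul_inv_cancel_right]
    exact (hfm b b.2).2.1 _ (omz_le _ (hfm a a.2)))
  have hker : f.ker = C.subgroupOf (E i) := by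
    ext e
    refine ⟨fun he => mem_subgroupOf.2 (hCmem.2 fun x hx => ?_), fun he => Subtype.ext ?_⟩
    · have h1 : Commute u (e : G) := (commutatorElement_eq_one_iff_mul_comm.1 (congrArg Subtype.val he)).symm
      obtain ⟨s, o, ho, rfl⟩ := hUdec x hx
      exact ((h1.zpow_left s).mul_left (show Commute o (e : G) from ho.2.1 e e.2)).eq
    · exact commutatorElement_eq_one_iff_mul_comm.2 (hCmem.1 (mem_subgroupOf.1 he) u hu).symm
  have hfsurj : Function.Surjective f := fun w => by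
    obtain ⟨e, he, hew⟩ := hfs w w.2
    exact ⟨⟨e, he⟩, Subtype.ext hew⟩
  have hcEi : Nat.card (E i) = p ^ 2 * Nat.card C := by
    have h1 := Subgroup.card_mul_index f.ker
    rw [index_ker, MonoidHom.range_eq_top.2 hfsurj, Subgroup.card_top, hker,
      Nat.card_congr (subgroupOfEquivOfLe hCi).toEquiv, hP.cardZ] at h1
    rw [← h1, mul_comm]
  -- `E k` moves `U` only into `Z`
  have hZc : Z ≤ center G := fun x hx => mem_center_iff.2 fun g => (hx.2.1 g (mem_top g)).symm
  have hUk : ∀ e ∈ E k, ∀ x ∈ U, ⁅e, x⁆ ∈ Z := by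
    obtain ⟨α, hα, r, hr', hαr⟩ := hP.moves
    have hbase : ∀ e : G, ∀ o ∈ Z1, ⁅e, o⁆ ∈ Z := fun e o ho => by
      have h1 := commutator_central_of_card_le hG Z1 hP.cardZ.le ho e
      exact ⟨mem_top _, fun g _ => (mem_center_iff.1 (mem_inf.1 h1).2 g).symm, (mem_inf.1 h1).1.2.2⟩
    intro e he x hx
    have hαU : (α r : G) ∈ U := hP.inv_k α hα r (hP.omz_le hr')
    obtain ⟨s, hs⟩ := CfsgLib.Fusion.RankThree.exists_zpow_inv_mul_mem hG hP.omz_le
      (by rw [hP.card, hP.cardZ]; ring) hαU hαr hx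
    have h1 : ⁅e, (α r : G)⁆ ∈ Z := by
      have h2 : ((α⁻¹ ⟨e, he⟩ : E k) : G) * r * ((α⁻¹ ⟨e, he⟩ : E k) : G)⁻¹ * (r : G)⁻¹ ∈ Z := by
        rw [← commutatorElement_def]; exact hbase _ _ hr'
      have h3 : (α ⁅α⁻¹ ⟨e, he⟩, r⁆ : G) ∈ Z := by
        by_contra hc
        exact hP.fix_k ⟨α, hα, _, h2, hc⟩
      rw [map_commutatorElement, MulAut.apply_inv_self] at h3
      exact h3
    set o := ((α r : G) ^ s)⁻¹ * x with ho
    rw [show x = (α r : G) ^ s * o by rw [ho]; group,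
      comm_mul_of_comm (show Commute ⁅e, o⁆ ((α r : G) ^ s) from (mem_center_iff.1 (hZc (hbase e o hs)) _).symm),
      comm_zpow_of_comm (show Commute ⁅e, (α r : G)⁆ (α r : G) from (mem_center_iff.1 (hZc h1) _).symm)]
    exact mul_mem (zpow_mem h1 s) (hbase e o hs)
  have hCk : C ≤ E k := by
    intro g hg
    by_contra hgk
    refine hznc ?_
    obtain ⟨e', he', hez⟩ := hfs z hz
    obtain ⟨a, e, he, rfl⟩ := (h.piv k).decomp hgk e'
    rw [← hez, commutatorElement_def]
    have h1 : e * u * e⁻¹ ∈ U := (inferInstance : U.Normal).conj_mem u hu e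
    have h2 : g ^ a * e * u * (g ^ a * e)⁻¹ = e * u * e⁻¹ := by
      rw [show g ^ a * e * u * (g ^ a * e)⁻¹ = g ^ a * (e * u * e⁻¹) * (g ^ a)⁻¹ by group,
        ← hCmem.1 (C.zpow_mem hg a) _ h1, mul_inv_cancel_right]
    rw [h2, ← commutatorElement_def]
    exact hUk e he u hu
  have hcEk : Nat.card (E k) = p ^ 2 * Nat.card C := by
    rw [← hcEi]
    exact Nat.eq_of_mul_eq_mul_left hp.pos ((h.piv k).index.symm.trans (h.piv i).index)
  have hki : E k ≠ E i := fun e => by
    obtain ⟨α, hα, r, hr', hαr⟩ := hP.moves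
    have he : omz p (E k) = omz p (E i) := by rw [e]
    exact hαr (he.le (omz_apply α (he.ge hr')))
  have hΩ : ∀ x ∈ C, x ^ p = 1 → x ∈ U := fun x hx hxp =>
    mem_of_commuting_cube hr hP.comm hP.exp hP.card.ge hxp fun a ha => (hCmem.1 hx a ha).symm
  -- restrictions
  have hCinv : ∀ l, l = i ∨ l = k → ∀ φ ∈ X l, ∀ r : E l, (r : G) ∈ C → (φ r : G) ∈ C := by
    intro l hl φ hφ r hr'
    refine hCmem.2 fun x hx => ?_
    have hUl : U ≤ E l := by rcases hl with rfl | rfl; exacts [hP.le_i, hP.le_k]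
    have hinvU : InvE (X l) U := by rcases hl with rfl | rfl; exacts [hP.inv_i, hP.inv_k]
    have h1 := hinvU φ⁻¹ ((X l).inv_mem hφ) ⟨x, hUl hx⟩ hx
    have h2 : φ⁻¹ ⟨x, hUl hx⟩ * r = r * φ⁻¹ ⟨x, hUl hx⟩ := Subtype.ext (hCmem.1 hr' _ h1)
    have h3 := congrArg (fun y : E l => (y : G)) (congrArg φ h2)
    simp only [map_mul, MulAut.apply_inv_self, Subgroup.coe_mul] at h3
    exact h3
  have hUdvd : p ∣ Nat.card U := hP.card ▸ dvd_pow_self p (by norm_num)
  have hirr : ∀ Y : Subgroup G, Y ≤ U → Y ≠ ⊥ → (∀ b : MulAut C, (∀ x : C, (x : G) ∈ U → (b x : G) ∈ U) →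
      ∀ x : C, (x : G) ∈ Y → (b x : G) ∈ Y) → Y = U := by
    intro Y hYU hYb hY
    haveI : Y.Normal := ⟨fun x hx g => hY (MulAut.conjNormal g)
      (fun w hw => (inferInstance : U.Normal).conj_mem _ hw g) ⟨x, hUC (hYU hx)⟩ hx⟩
    have hres : ∀ l, (hl : l = i ∨ l = k) → ∀ φ ∈ X l, ∀ r : E l, (r : G) ∈ Y → (φ r : G) ∈ Y := by
      intro l hl φ hφ r hr'
      have hCl : C ≤ E l := by rcases hl with rfl | rfl; exacts [hCi, hCk]
      have hinvU : InvE (X l) U := by rcases hl with rfl | rfl; exacts [hP.inv_i, hP.inv_k]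
      exact hY (resTo hCl φ (hCinv l hl φ hφ) (hCinv l hl φ⁻¹ ((X l).inv_mem hφ)))
        (fun w hw => hinvU φ hφ ⟨w, hCl w.2⟩ hw) ⟨r, hUC (hYU hr')⟩ hr'
    haveI := hG.isNilpotent
    obtain ⟨c, hc, hc1⟩ : ∃ c ∈ Y ⊓ center G, c ≠ 1 := by
      by_contra hcon
      push Not at hcon
      exact CfsgLib.Coprime.nilpotent_inf_center_ne_bot Y hYb (eq_bot_iff.2 fun x hx => mem_bot.2 (hcon x hx))
    have hcZ : c ∈ Z := ⟨mem_top c, fun g _ => (mem_center_iff.1 hc.2 g).symm, hP.exp c (hYU hc.1)⟩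
    have hZp : Nat.card Z = p := le_antisymm (by
      have h1 := (h.card_omz hP.mov).1
      rw [hP.cardZ, pow_two] at h1
      exact Nat.le_of_mul_le_mul_left h1 hp.pos) (by
      haveI := h.nontrivial i
      have h2 := CfsgLib.MaxClassCube.mul_card_le hG (bot_lt_iff_ne_bot.2 (omz_top_ne_bot (p := p) hG))
      rwa [card_bot, mul_one] at h2)
    have hZY : Z ≤ Y := by
      have h1 : zpowers c = Z := eq_of_le_of_card_ge (zpowers_le.2 hcZ) (by
        rw [hZp, Nat.card_zpowers, orderOf_eq_prime hcZ.2.2 hc1])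
      exact h1 ▸ zpowers_le.2 hc.1
    obtain ⟨φ, hφ, r, hr', hφr⟩ := hP.mov
    have hY1 : p ^ 2 ≤ Nat.card (Y ⊓ Z1 : Subgroup G) := by
      have hlt : Z < Y ⊓ Z1 := lt_of_le_of_ne (le_inf hZY (h.piv i).omz_top_le) fun e => hφr (e.ge
        ⟨hres i (Or.inl rfl) φ hφ r (hZY hr'), omz_apply φ ((h.piv i).omz_top_le hr')⟩)
      have h1 := CfsgLib.MaxClassCube.mul_card_le hG hlt
      rwa [hZp, ← pow_two] at h1
    have hZ1Y : Z1 ≤ Y := (eq_of_le_of_card_ge (inf_le_right : Y ⊓ Z1 ≤ Z1) (hP.cardZ.le.trans hY1)).ge.trans inf_le_left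
    obtain ⟨α, hα, r', hr'', hαr⟩ := hP.moves
    have h1 := CfsgLib.MaxClassCube.mul_card_le hG (lt_of_le_of_ne hZ1Y fun e =>
      hαr (e.ge (hres k (Or.inr rfl) α hα r' (hZ1Y hr''))))
    rw [hP.cardZ] at h1
    exact eq_of_le_of_card_ge hYU (hP.card.le.trans (le_trans (le_of_eq (by ring)) h1))
  have hfix := fix_of_irreducible (p := p) hG hUC hUdvd hirr
  -- the quotient
  set N := frn C with hN
  have hNC : N ≤ C := frn_le C
  have hNinv : ∀ (b : MulAut C) (w : C), (w : G) ∈ N → (b w : G) ∈ N := fun b w hw =>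
    mem_frn.2 (mem_frattini_iff_apply.2 (mem_frn.1 hw))
  set π := QuotientGroup.mk' N with hπ
  set A := C.map π with hA
  haveI : A.Normal := Subgroup.Normal.map hCn π (QuotientGroup.mk'_surjective N)
  have hAab : ∀ x ∈ A, ∀ y ∈ A, x * y = y * x := by
    rintro _ ⟨a, ha, rfl⟩ _ ⟨b, hb, rfl⟩
    rw [← commutatorElement_eq_one_iff_mul_comm, ← map_commutatorElement]
    exact (QuotientGroup.eq_one_iff _).2 ⟨⁅(⟨a, ha⟩ : C), ⟨b, hb⟩⁆, CfsgLib.Coprime.commutator_le_frattini
      (hG.to_subgroup C) (commutator_mem_commutator (mem_top _) (mem_top _)), rfl⟩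
  have hAexp : ∀ x ∈ A, x ^ p = 1 := by
    rintro _ ⟨a, ha, rfl⟩
    rw [← map_pow]
    exact (QuotientGroup.eq_one_iff _).2 ⟨(⟨a, ha⟩ : C) ^ p, CfsgLib.Coprime.pow_mem_frattini (hG.to_subgroup C) _, rfl⟩
  have hAcard : Nat.card C = Nat.card A * Nat.card N := by
    have h1 := CfsgLib.MaxClassCube.card_map_mul_card_inf_ker' π C
    rw [hπ, QuotientGroup.ker_mk', inf_eq_right.2 hNC] at h1
    exact h1.symm
  have hcent : ∀ g : G ⧸ N, (∀ x ∈ A, g * x = x * g) → g ∈ A := by
    intro g hg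
    obtain ⟨g, rfl⟩ := QuotientGroup.mk'_surjective N g
    refine mem_map_of_mem π (hCmem.2 fun x hx => ?_)
    have h1 : frAct (MulAut.conjNormal (H := C) g) = 1 := frAct_eq_one_iff.2 fun c => by
      refine mem_frn.1 ?_
      show g * (c : G) * g⁻¹ * (c : G)⁻¹ ∈ frn C
      rw [← commutatorElement_def]
      refine (QuotientGroup.eq_one_iff _).1 ?_
      show π ⁅g, (c : G)⁆ = 1
      rw [map_commutatorElement, commutatorElement_eq_one_iff_mul_comm]
      exact hg _ (mem_map_of_mem π c.2)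
    have h2 := hfix (MulAut.conjNormal g) (fun w hw => (inferInstance : U.Normal).conj_mem _ hw g) h1
      (x := ⟨x, hUC hx⟩) hx
    have h3 : g * x * g⁻¹ = x := congrArg (fun w : C => (w : G)) h2
    exact (mul_inv_eq_iff_eq_mul.1 h3).symm
  have hcG : Nat.card (G ⧸ N) = p ^ 3 * Nat.card A := by
    have h1 : Nat.card G = Nat.card (G ⧸ N) * Nat.card N := Subgroup.card_eq_card_quotient_mul_card_subgroup N
    refine Nat.eq_of_mul_eq_mul_right (Nat.card_pos (α := N)) ?_
    rw [← h1, (h.piv i).index, hcEi, hAcard]; ring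
  obtain ⟨R, P, q, a, hF⟩ := exists_flag (hG.to_quotient N) hAab hAexp (card_le_of_section hr N A hAab hAexp) hcent hcG
  haveI := hF.normal
  haveI : R.Normal := CfsgLib.Schur.normal_le_center hF.R_center
  set Rh := R.comap π with hRh
  set Ph := P.comap π with hPh
  have hNR : N ≤ Rh := fun x hx => by
    rw [hRh, mem_comap, show π x = 1 from (QuotientGroup.eq_one_iff x).2 hx]; exact one_mem R
  have hRPh : Rh ≤ Ph := comap_mono hF.RP
  have hPC : Ph ≤ C := fun x hx => by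
    obtain ⟨c, hc, hcx⟩ := hF.PA hx
    have h1 : c⁻¹ * x ∈ N := QuotientGroup.eq.1 hcx
    simpa using mul_mem hc (hNC h1)
  -- no automizer preserves the flag
  have hflag : ∀ l, l = i ∨ l = k → InvE (X l) Rh → InvE (X l) Ph → False := by
    intro l hl hIR hIP
    have hCl : C ≤ E l := by rcases hl with rfl | rfl; exacts [hCi, hCk]
    have hinvU : InvE (X l) U := by rcases hl with rfl | rfl; exacts [hP.inv_i, hP.inv_k]
    let triv : MulAut (E l) → Prop := fun σ => (∀ r : E l, (r : G) ∈ Rh → (r : G)⁻¹ * (σ r : G) ∈ N) ∧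
      (∀ r : E l, (r : G) ∈ Ph → (r : G)⁻¹ * (σ r : G) ∈ Rh) ∧
      ∀ r : E l, (r : G) ∈ C → (r : G)⁻¹ * (σ r : G) ∈ Ph
    have hNX : ∀ σ ∈ X l, ∀ r : E l, (r : G) ∈ N → (σ r : G) ∈ N := fun σ hσ r hr' =>
      hNinv (resTo hCl σ (hCinv l hl σ hσ) (hCinv l hl σ⁻¹ ((X l).inv_mem hσ))) ⟨r, hNC hr'⟩ hr'
    let N₁ : Subgroup (MulAut (E l)) :=
      { carrier := {σ | σ ∈ X l ∧ triv σ}
        one_mem' := ⟨(X l).one_mem, fun r _ => by simp, fun r _ => by simp, fun r _ => by simp⟩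
        mul_mem' := by
          rintro σ τ ⟨hσ, s1, s2, s3⟩ ⟨hτ, t1, t2, t3⟩
          refine ⟨(X l).mul_mem hσ hτ, fun r hr' => ?_, fun r hr' => ?_, fun r hr' => ?_⟩ <;>
            rw [MulAut.mul_apply, show (r : G)⁻¹ * (σ (τ r) : G) = ((r : G)⁻¹ * (τ r : G)) * ((τ r : G)⁻¹ * (σ (τ r) : G)) by group]
          · exact mul_mem (t1 r hr') (s1 _ (hIR τ hτ r hr'))
          · exact mul_mem (t2 r hr') (s2 _ (hIP τ hτ r hr'))
          · exact mul_mem (t3 r hr') (s3 _ (hCinv l hl τ hτ r hr'))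
        inv_mem' := by
          rintro σ ⟨hσ, s1, s2, s3⟩
          have key : ∀ r : E l, (r : G)⁻¹ * (σ⁻¹ r : G) = ((σ⁻¹ r : G)⁻¹ * (σ (σ⁻¹ r) : G))⁻¹ := fun r => by
            rw [MulAut.apply_inv_self]; group
          refine ⟨(X l).inv_mem hσ, fun r hr' => ?_, fun r hr' => ?_, fun r hr' => ?_⟩ <;> rw [key]
          · exact inv_mem (s1 _ (hIR σ⁻¹ ((X l).inv_mem hσ) r hr'))
          · exact inv_mem (s2 _ (hIP σ⁻¹ ((X l).inv_mem hσ) r hr'))
          · exact inv_mem (s3 _ (hCinv l hl σ⁻¹ ((X l).inv_mem hσ) r hr')) }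
    have hconj : ∀ φ ∈ X l, ∀ σ ∈ N₁, φ * σ * φ⁻¹ ∈ N₁ := by
      intro φ hφ σ hσ
      obtain ⟨hσX, s1, s2, s3⟩ := hσ
      have key : ∀ r : E l, (r : G)⁻¹ * ((φ * σ * φ⁻¹) r : G) = (φ ((φ⁻¹ r)⁻¹ * σ (φ⁻¹ r)) : G) := fun r => by
        rw [map_mul, map_inv, MulAut.apply_inv_self]; rfl
      refine ⟨(X l).mul_mem ((X l).mul_mem hφ hσX) ((X l).inv_mem hφ), fun r hr' => ?_, fun r hr' => ?_, fun r hr' => ?_⟩ <;>
        rw [key]
      · exact hNX φ hφ _ (s1 _ (hIR φ⁻¹ ((X l).inv_mem hφ) r hr'))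
      · exact hIR φ hφ _ (s2 _ (hIP φ⁻¹ ((X l).inv_mem hφ) r hr'))
      · exact hIP φ hφ _ (s3 _ (hCinv l hl φ⁻¹ ((X l).inv_mem hφ) r hr'))
    have hQ : (MulAut.conjNormal (H := E l)).range ≤ N₁ := by
      rintro _ ⟨g, rfl⟩
      refine ⟨(h.piv l).qle ⟨g, rfl⟩, fun r hr' => ?_, fun r hr' => ?_, fun r hr' => ?_⟩
      · refine (QuotientGroup.eq_one_iff _).1 ?_
        show π ((r : G)⁻¹ * (g * r * g⁻¹)) = 1
        rw [map_mul, map_mul, map_mul, map_inv, map_inv, mem_center_iff.1 (hF.R_center hr') (π g), mul_inv_cancel_right,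
          inv_mul_cancel]
      · show π ((r : G)⁻¹ * (g * r * g⁻¹)) ∈ R
        rw [show (r : G)⁻¹ * (g * r * g⁻¹) = (r : G)⁻¹ * ⁅g, (r : G)⁆ * r by rw [commutatorElement_def]; group,
          map_mul, map_mul, map_inv, map_commutatorElement,
          mem_center_iff.1 (hF.R_center (hF.commP _ hr' _)) (π (r : G))⁻¹, inv_mul_cancel_right]
        exact hF.commP _ hr' _
      · show π ((r : G)⁻¹ * (g * r * g⁻¹)) ∈ P
        rw [show (r : G)⁻¹ * (g * r * g⁻¹) = (r : G)⁻¹ * ⁅g, (r : G)⁆ * r by rw [commutatorElement_def]; group,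
          map_mul, map_mul, map_inv, map_commutatorElement,
          hAab _ (A.inv_mem (mem_map_of_mem π hr')) _ (hF.PA (hF.commA _ (mem_map_of_mem π hr') _)), inv_mul_cancel_right]
        exact hF.commA _ (mem_map_of_mem π hr') _
    have hpow : ∀ σ ∈ N₁, ∀ x : E l, (x : G) ∈ U → (σ ^ (p * p)) x = x := by
      intro σ hσ x hx
      obtain ⟨hσX, s1, s2, s3⟩ := hσ
      set b : MulAut C := resTo hCl σ (hCinv l hl σ hσX) (hCinv l hl σ⁻¹ ((X l).inv_mem hσX)) with hb
      have hbU : ∀ w : C, (w : G) ∈ U → (b w : G) ∈ U := fun w hw => hinvU σ hσX ⟨w, hCl w.2⟩ hw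
      have hbp : ∀ (m : ℕ) (w : C), ((b ^ m) w : G) = ((σ ^ m) ⟨w, hCl w.2⟩ : G) := by
        intro m
        induction m with
        | zero => intro w; rfl
        | succ m ih =>
          intro w
          rw [pow_succ', pow_succ', MulAut.mul_apply, MulAut.mul_apply]
          show (σ ⟨((b ^ m) w : G), _⟩ : G) = _
          rw [show (⟨((b ^ m) w : G), hCl ((b ^ m) w).2⟩ : E l) = (σ ^ m) ⟨w, hCl w.2⟩ from Subtype.ext (ih w)]
      set ρ := QuotientGroup.mk' (frattini C) with hρ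
      have hπρ : ∀ {w w' : C}, π (w : G) = π w' → ρ w = ρ w' := fun {w w'} hww =>
        QuotientGroup.eq.2 (mem_frn.1 (show ((w⁻¹ * w' : C) : G) ∈ frn C from QuotientGroup.eq.1 hww))
      have hAcomm : ∀ w : C, ∀ y ∈ A, Commute (π (w : G)) y := fun w y hy => hAab _ (mem_map_of_mem π w.2) y hy
      have hR' : ∀ w : C, (w : G) ∈ Rh → π (b w : G) = π w := fun w hw =>
        ((QuotientGroup.eq (s := N)).2 (s1 ⟨w, hCl w.2⟩ hw)).symm
      have hstep : ∀ w : C, (π (w : G))⁻¹ * π (b w : G) = π (((w⁻¹ * b w : C)) : G) := fun w => by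
        rw [Subgroup.coe_mul, Subgroup.coe_inv, map_mul, map_inv]
      -- one more power lands one step lower
      have hlow : ∀ (m : ℕ) (w : C), (w : G) ∈ Ph → π ((b ^ m) w : G) = π w * ((π (w : G))⁻¹ * π (b w : G)) ^ m := by
        intro m w hw
        induction m with
        | zero => simp
        | succ m ih =>
          obtain ⟨d, hd⟩ : ∃ d : C, d = w⁻¹ * b w := ⟨_, rfl⟩
          have hdR : (d : G) ∈ Rh := hd ▸ s2 ⟨w, hCl w.2⟩ hw
          have e1 : (π ((b ^ m) w : G)) = π ((w * d ^ m : C) : G) := by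
            rw [ih, hstep w, ← hd, Subgroup.coe_mul, Subgroup.coe_pow, map_mul π, map_pow π]
          have e2 : ((w * d ^ m)⁻¹ * (b ^ m) w : C).val ∈ N := by
            rw [Subgroup.coe_mul, Subgroup.coe_inv]; exact QuotientGroup.eq.1 e1.symm
          have e3 : (b ^ m) w = w * d ^ m * ((w * d ^ m)⁻¹ * (b ^ m) w) := by group
          rw [pow_succ', MulAut.mul_apply, e3, map_mul b, Subgroup.coe_mul, map_mul π,
            show π (b ((w * d ^ m)⁻¹ * (b ^ m) w) : G) = 1 from (QuotientGroup.eq_one_iff _).2 (hNinv b _ e2), mul_one,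
            map_mul b, Subgroup.coe_mul, map_mul π, map_pow b, Subgroup.coe_pow, map_pow π, hR' d hdR, hstep, ← hd,
            show b w = w * d by rw [hd]; group, Subgroup.coe_mul, map_mul π, mul_assoc, ← pow_succ']
      have hbP : ∀ w : C, (w : G) ∈ Ph → π ((b ^ p) w : G) = π w := fun w hw => by
        rw [hlow p w hw, hAexp _ (mul_mem (A.inv_mem (mem_map_of_mem π w.2)) (mem_map_of_mem π (b w).2)), mul_one]
      have htop : ∀ (m : ℕ) (w : C), (π (w : G) * π ((w⁻¹ * b w : C) : G) ^ m)⁻¹ * π ((b ^ m) w : G) ∈ R := by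
        intro m w
        induction m with
        | zero => simp
        | succ m ih =>
          obtain ⟨d, hd⟩ : ∃ d : C, d = w⁻¹ * b w := ⟨_, rfl⟩
          rw [← hd] at ih ⊢
          have hdP : (d : G) ∈ Ph := hd ▸ s3 ⟨w, hCl w.2⟩ w.2
          obtain ⟨y, hy⟩ : ∃ y : C, y = (w * d ^ m)⁻¹ * (b ^ m) w := ⟨_, rfl⟩
          have hyR : (y : G) ∈ Rh := by
            show π (y : G) ∈ R
            rw [hy, Subgroup.coe_mul, Subgroup.coe_inv, Subgroup.coe_mul, Subgroup.coe_pow, map_mul π, map_inv, map_mul π, map_pow π]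
            exact ih
          have e3 : (b ^ m) w = w * d ^ m * y := by rw [hy]; group
          have hdb : π ((d⁻¹ * b d : C) : G) ∈ R := s2 ⟨d, hCl d.2⟩ hdP
          obtain ⟨s, hs⟩ : ∃ s, s = π ((d⁻¹ * b d : C) : G) := ⟨_, rfl⟩
          rw [← hs] at hdb
          have e4 : π (b d : G) = π (d : G) * s := by
            rw [hs, Subgroup.coe_mul, Subgroup.coe_inv, map_mul π, map_inv, mul_inv_cancel_left]
          rw [pow_succ' b, MulAut.mul_apply, e3, map_mul b, Subgroup.coe_mul, map_mul π, hR' y hyR, map_mul b,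
            Subgroup.coe_mul, map_mul π, map_pow b, Subgroup.coe_pow, map_pow π, e4,
            show b w = w * d by rw [hd]; group, Subgroup.coe_mul, map_mul π,
            (show Commute (π (d : G)) s from hAcomm d s (hF.PA (hF.RP hdb))).mul_pow, pow_succ']
          rw [show (π (w : G) * (π (d : G) * π (d : G) ^ m))⁻¹ * (π (w : G) * π (d : G) * (π (d : G) ^ m * s ^ m) * π (y : G)) =
            s ^ m * π (y : G) by rw [inv_mul_eq_iff_eq_mul]; simp only [mul_assoc]]
          exact mul_mem (pow_mem hdb m) hyR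
      have hfrAct : frAct (b ^ (p * p)) = 1 := by
        rw [pow_mul]
        refine frAct_eq_one_iff.2 fun w => ?_
        refine (QuotientGroup.eq_one_iff _).1 ?_
        show ρ ((((b ^ p) ^ p) w) * w⁻¹) = 1
        rw [map_mul, map_inv, mul_inv_eq_one]
        refine hπρ ?_
        have hBP : ∀ v : C, π (((b ^ p) v : C) : G) * (π (v : G))⁻¹ ∈ R := fun v => by
          have h1 := htop p v
          rw [hAexp _ (mem_map_of_mem π (v⁻¹ * b v).2), mul_one] at h1
          rwa [(hAcomm ((b ^ p) v) _ (A.inv_mem (mem_map_of_mem π v.2))).eq]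
        obtain ⟨d, hd⟩ : ∃ d : C, d = w⁻¹ * (b ^ p) w := ⟨_, rfl⟩
        have hdR : (d : G) ∈ Rh := by
          show π (d : G) ∈ R
          rw [hd, Subgroup.coe_mul, Subgroup.coe_inv, map_mul π, map_inv, ← (hAcomm ((b ^ p) w) _ (A.inv_mem (mem_map_of_mem π w.2))).eq]
          exact hBP w
        have hdfix : π ((b ^ p) d : G) = π (d : G) := hbP d (hRPh hdR)
        have key : ∀ m : ℕ, π (((b ^ p) ^ m) w : G) = π (w : G) * π (d : G) ^ m := by
          intro m
          induction m with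
          | zero => simp
          | succ m ih =>
            obtain ⟨y, hy⟩ : ∃ y : C, y = (w * d ^ m)⁻¹ * ((b ^ p) ^ m) w := ⟨_, rfl⟩
            have hyN : (y : G) ∈ N := by
              rw [hy, Subgroup.coe_mul, Subgroup.coe_inv, Subgroup.coe_mul, Subgroup.coe_pow]
              exact QuotientGroup.eq.1 (by rw [← map_pow π, ← map_mul π] at ih; exact ih.symm)
            have e3 : ((b ^ p) ^ m) w = w * d ^ m * y := by rw [hy]; group
            rw [pow_succ' (b ^ p), MulAut.mul_apply, e3, map_mul (b ^ p), Subgroup.coe_mul, map_mul π,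
              show π ((b ^ p) y : G) = 1 from (QuotientGroup.eq_one_iff _).2 (hNinv _ _ hyN), mul_one, map_mul (b ^ p),
              Subgroup.coe_mul, map_mul π, map_pow (b ^ p), Subgroup.coe_pow, map_pow π, hdfix,
              show (b ^ p) w = w * d by rw [hd]; group, Subgroup.coe_mul, map_mul π, mul_assoc, ← pow_succ']
        rw [key p, hAexp _ (mem_map_of_mem π d.2), mul_one]
      have hbpU : ∀ (m : ℕ) (w : C), (w : G) ∈ U → ((b ^ m) w : G) ∈ U := by
        intro m
        induction m with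
        | zero => intro w hw; exact hw
        | succ m ih => intro w hw; rw [pow_succ', MulAut.mul_apply]; exact hbU _ (ih w hw)
      have h1 := congrArg (fun w : C => (w : G)) (hfix (b ^ (p * p)) (hbpU _) hfrAct (x := ⟨x, hUC hx⟩) hx)
      simp only [hbp] at h1
      exact Subtype.ext h1
    let K : Subgroup N₁ :=
      { carrier := {σ | ∀ x : E l, (x : G) ∈ U → (σ : MulAut (E l)) x = x}
        one_mem' := fun x _ => rfl
        mul_mem' := fun {s t} hs ht x hx => by
          show (s : MulAut (E l)) ((t : MulAut (E l)) x) = x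
          rw [ht x hx, hs x hx]
        inv_mem' := fun {s} hs x hx => by
          show (s : MulAut (E l))⁻¹ x = x
          conv_lhs => rw [← hs x hx]
          exact MulAut.inv_apply_self _ _ _ }
    haveI hKn : K.Normal := ⟨fun s hs t x hx => by
      show (t : MulAut (E l)) ((s : MulAut (E l)) ((t : MulAut (E l))⁻¹ x)) = x
      rw [hs _ (hinvU _ ((X l).inv_mem t.2.1) x hx), MulAut.apply_inv_self]⟩
    haveI := finite_mulAut (E l)
    have hKp : IsPGroup p (N₁ ⧸ K) := fun s => by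
      obtain ⟨s, rfl⟩ := QuotientGroup.mk'_surjective K s
      refine ⟨2, ?_⟩
      rw [← map_pow]
      exact (QuotientGroup.eq_one_iff _).2 fun x hx => by
        rw [Subgroup.coe_pow, pow_two p]
        exact hpow s s.2 x hx
    set Q' := ((MulAut.conjNormal (H := E l)).range).subgroupOf N₁ with hQ'
    have hi : ¬ p ∣ Q'.index := fun hd => (h.piv l).sylow (hd.trans (Dvd.intro _
      (relIndex_mul_relIndex _ N₁ (X l) hQ (fun σ hσ => hσ.1))))
    have hsup : K ⊔ Q' = ⊤ := by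
      rw [← Subgroup.index_eq_one]
      obtain ⟨m, hm⟩ := hKp.exists_card_eq
      refine Nat.eq_one_of_dvd_coprimes (Nat.Coprime.pow_left m (hp.coprime_iff_not_dvd.2 hi)) ?_
        (Subgroup.index_dvd_of_le le_sup_right)
      rw [← hm, ← Subgroup.index_eq_card]
      exact Subgroup.index_dvd_of_le le_sup_left
    have hcU : ∀ φ ∈ X l, ∀ g : G, ∃ g' : G, ∀ x : E l, (x : G) ∈ U →
        (φ (MulAut.conjNormal g x) : G) = g' * (φ x : G) * g'⁻¹ := by
      intro φ hφ g
      have hm : (⟨φ * MulAut.conjNormal g * φ⁻¹, hconj φ hφ _ (hQ ⟨g, rfl⟩)⟩ : N₁) ∈ K ⊔ Q' := hsup ▸ mem_top _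
      obtain ⟨κ, hκ, ⟨c, hcN⟩, hc, he⟩ := mem_sup_of_normal_left.1 hm
      obtain ⟨g', rfl⟩ := hc
      refine ⟨g', fun x hx => ?_⟩
      have h1 := DFunLike.congr_fun (congrArg Subtype.val he) (φ x)
      simp only [Subgroup.coe_mul, MulAut.mul_apply, MulAut.inv_apply_self] at h1
      rw [hκ _ (hinvU _ ((h.piv l).qle ⟨g', rfl⟩) _ (hinvU φ hφ x hx))] at h1
      rw [← h1]
      rfl
    rcases hl with rfl | rfl
    · obtain ⟨φ, hφ, r, hr', hφr⟩ := hP.mov
      have hrU : (r : G) ∈ U := hP.omz_le ((h.piv l).omz_top_le hr')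
      have hφU : (φ r : G) ∈ U := hP.inv_i φ hφ r hrU
      refine hφr ⟨mem_top _, fun g _ => ?_, hP.exp _ hφU⟩
      obtain ⟨g', hg'⟩ := hcU φ⁻¹ ((X l).inv_mem hφ) g
      have h1 := hg' (φ r) hφU
      rw [MulAut.inv_apply_self, ← hr'.2.1 g' (mem_top g'), mul_inv_cancel_right] at h1
      have h2 : φ⁻¹ (MulAut.conjNormal g (φ r)) = r := Subtype.ext h1
      have h3 := congrArg (fun y : E l => (φ y : G)) h2
      simp only [MulAut.apply_inv_self] at h3
      exact ((mul_inv_eq_iff_eq_mul.1 h3)).symm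
    · obtain ⟨φ, hφ, r, hr', hφr⟩ := hP.moves
      have hφU : (φ r : G) ∈ U := hP.inv_k φ hφ r (hP.omz_le hr')
      have hcm : ∀ g : G, ⁅g, (φ r : G)⁆ ∈ Z := by
        intro g
        obtain ⟨g', hg'⟩ := hcU φ⁻¹ ((X l).inv_mem hφ) g
        have h1 := hg' (φ r) hφU
        rw [MulAut.inv_apply_self] at h1
        have hzz : ⁅g', (r : G)⁆ ∈ Z := by
          have h2 := commutator_central_of_card_le hG Z1 hP.cardZ.le hr' g'
          exact ⟨mem_top _, fun t _ => (mem_center_iff.1 (mem_inf.1 h2).2 t).symm, (mem_inf.1 h2).1.2.2⟩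
        have hzl : ⁅g', (r : G)⁆ ∈ E l := hP.le_k (hP.omz_le ((h.piv i).omz_top_le hzz))
        have h2 : φ⁻¹ (MulAut.conjNormal g (φ r)) = (⟨_, hzl⟩ : E l) * r := Subtype.ext (by
          show (φ⁻¹ (MulAut.conjNormal g (φ r)) : G) = ⁅g', (r : G)⁆ * r
          rw [h1, commutatorElement_def]; group)
        have h3 := congrArg (fun y : E l => (φ y : G)) h2
        simp only [MulAut.apply_inv_self, map_mul, Subgroup.coe_mul, MulAut.conjNormal_apply] at h3
        have h4 : ⁅g, (φ r : G)⁆ = (φ ⟨_, hzl⟩ : G) := by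
          rw [commutatorElement_def, h3, mul_inv_cancel_right]
        rw [h4]
        by_contra hc
        exact hP.fix_k ⟨φ, hφ, _, hzz, hc⟩
      refine hφr ?_
      obtain ⟨s, o, ho, hso⟩ := hUdec _ hφU
      obtain ⟨e, he, hez⟩ := hfs z hz
      have h5 := hcm e
      have hcomm : ⁅e, o⁆ = 1 := commutatorElement_eq_one_iff_mul_comm.2 (ho.2.1 e he).symm
      rw [hso, comm_mul_of_comm (show Commute ⁅e, o⁆ (u ^ s) by rw [hcomm]; exact Commute.one_left _), hcomm, mul_one,
        comm_zpow_of_comm (show Commute ⁅e, u⁆ u from (hfm e he).2.1 u (hP.le_i hu)), hez] at h5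
      have hs : (s : ZMod p) = 0 := by
        by_contra hs
        exact hznc (CfsgLib.Fusion.RankThree.mem_of_zpow_mem (by rw [hz.2.2]; exact one_mem _) h5 hs)
      rw [hso, CfsgLib.Fusion.LineTorus.zpow_congr (hP.exp u hu) (r := s) (s := 0) (by simpa using hs), zpow_zero, one_mul]
      exact ho
  -- a member moving the middle term
  obtain ⟨l, hl, e₀, he₀, hmv⟩ : ∃ l, (l = i ∨ l = k) ∧ ∃ e ∈ E l, π e * q ≠ q * π e := by
    by_contra hcon
    push Not at hcon
    obtain ⟨n, hnk, hni⟩ := SetLike.not_le_iff_exists.1 (fun hle => hki (eq_of_le_of_card_ge hle (hcEi.le.trans hcEk.ge)))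
    refine hF.qR (hF.center q (hF.PA hF.qP) (mem_center_iff.2 fun g => ?_))
    obtain ⟨g, rfl⟩ := QuotientGroup.mk'_surjective N g
    obtain ⟨a', e, he, rfl⟩ := (h.piv i).decomp hni g
    rw [map_mul, map_zpow]
    exact (((show Commute (π n) q from hcon k (Or.inr rfl) n hnk).zpow_left a').mul_left (hcon i (Or.inl rfl) e he)).eq
  have hCl : C ≤ E l := by rcases hl with rfl | rfl; exacts [hCi, hCk]
  have hcEl : Nat.card (E l) = p ^ 2 * Nat.card C := by rcases hl with rfl | rfl; exacts [hcEi, hcEk]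
  have hNX : ∀ φ ∈ X l, ∀ r : E l, (r : G) ∈ N → (φ r : G) ∈ N := fun φ hφ r hr' =>
    hNinv (resTo hCl φ (hCinv l hl φ hφ) (hCinv l hl φ⁻¹ ((X l).inv_mem hφ))) ⟨r, hNC hr'⟩ hr'
  have hFR : ∀ x ∈ A, (∀ e ∈ E l, π e * x = x * π e) → x ∈ R := by
    intro x hx hcx
    have hmove : ∀ m : ℤ, (m : ZMod p) ≠ 0 → ¬ ∀ e ∈ E l, π e * q ^ m = q ^ m * π e := fun m hm hall =>
      hmv (mem_centralizer_singleton_iff.1 (CfsgLib.Fusion.RankThree.mem_of_zpow_mem (H := centralizer ({π e₀} : Set (G ⧸ N)))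
        (by rw [hAexp q (hF.PA hF.qP)]; exact one_mem _) (mem_centralizer_singleton_iff.2 (hall e₀ he₀).symm) hm)).symm
    have hxP : x ∈ P := by
      obtain ⟨s, hs⟩ := CfsgLib.Fusion.RankThree.exists_zpow_inv_mul_mem (hG.to_quotient N) hF.PA
        (by rw [hF.cardA, hF.cardP]; ring) hF.aA hF.aP hx
      by_contra hxP
      have hs0 : (s : ZMod p) ≠ 0 := fun hs0 => hxP (by
        rwa [CfsgLib.Fusion.LineTorus.zpow_congr (hAexp a hF.aA) (r := s) (s := 0) (by simpa using hs0), zpow_zero,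
          inv_one, one_mul] at hs)
      obtain ⟨g, hgq, hga⟩ := hF.surj 1 (one_mem R) q hF.qP
      set w := (a ^ s)⁻¹ * x with hw
      have hgx : ⁅g, x⁆ = q ^ s := by
        have hwd : ⁅g, w⁆ = 1 := by
          obtain ⟨t, ht⟩ := CfsgLib.Fusion.RankThree.exists_zpow_inv_mul_mem (B := P) (hG.to_quotient N)
            (A := R) hF.RP (by rw [hF.cardP, hF.cardR]; ring) hF.qP hF.qR hs
          refine commutatorElement_eq_one_iff_mul_comm.2 ?_
          rw [show w = q ^ t * ((q ^ t)⁻¹ * w) by group]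
          exact (((show Commute g q from commutatorElement_eq_one_iff_mul_comm.1 hgq).zpow_right t).mul_right
            (mem_center_iff.1 (hF.R_center ht) g)).eq
        rw [show x = a ^ s * w by rw [hw]; group, comm_mul_of_comm (by rw [hwd]; exact Commute.one_left _), hwd, mul_one,
          comm_zpow_of_comm (by rw [hga]; exact hAab q (hF.PA hF.qP) a hF.aA), hga]
      refine hmove s hs0 fun e he => ?_
      obtain ⟨g, rfl⟩ := QuotientGroup.mk'_surjective N g
      have h1 : π e * (π g * x * (π g)⁻¹) = (π g * x * (π g)⁻¹) * π e := by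
        have h2 := hcx (g⁻¹ * e * g) (by simpa using (hn l).conj_mem e he g⁻¹)
        rw [map_mul, map_mul, map_inv] at h2
        calc π e * (π g * x * (π g)⁻¹) = π g * ((π g)⁻¹ * π e * π g * x) * (π g)⁻¹ := by group
          _ = _ := by rw [h2]; group
      rw [← hgx, commutatorElement_def]
      exact ((show Commute (π e) (π g * x * (π g)⁻¹) from h1).mul_right (show Commute (π e) x from hcx e he).inv_right).eq
    obtain ⟨t, ht⟩ := CfsgLib.Fusion.RankThree.exists_zpow_inv_mul_mem (hG.to_quotient N) hF.RP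
      (by rw [hF.cardP, hF.cardR]; ring) hF.qP hF.qR hxP
    by_contra hxR
    refine hmove t (fun h0 => hxR ?_) fun e he => ?_
    · rwa [CfsgLib.Fusion.LineTorus.zpow_congr (hAexp q (hF.PA hF.qP)) (r := t) (s := 0) (by simpa using h0), zpow_zero,
        inv_one, one_mul] at ht
    · have h1 := (show Commute (π e) x from hcx e he).mul_right
        (show Commute (π e) ((q ^ t)⁻¹ * x)⁻¹ from (show Commute (π e) ((q ^ t)⁻¹ * x) from mem_center_iff.1 (hF.R_center ht) _).inv_right)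
      rw [show x * ((q ^ t)⁻¹ * x)⁻¹ = q ^ t by group] at h1
      exact h1.eq
  have hRhX : InvE (X l) Rh := by
    intro φ hφ r hr'
    have hrC : (r : G) ∈ C := hPC (hRPh hr')
    refine hFR _ (mem_map_of_mem π (hCinv l hl φ hφ r hrC)) fun e he => ?_
    have h1 : (⁅φ⁻¹ ⟨e, he⟩, r⁆ : E l).val ∈ N := by
      refine (QuotientGroup.eq_one_iff _).1 ?_
      show π ⁅((φ⁻¹ ⟨e, he⟩ : E l) : G), (r : G)⁆ = 1
      rw [map_commutatorElement, commutatorElement_eq_one_iff_mul_comm]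
      exact mem_center_iff.1 (hF.R_center hr') _
    have h2 := hNX φ hφ _ h1
    rw [map_commutatorElement, MulAut.apply_inv_self] at h2
    rw [← commutatorElement_eq_one_iff_mul_comm, ← map_commutatorElement]
    exact (QuotientGroup.eq_one_iff _).2 h2
  -- commutators of `C` with `E l`
  have hCE : ∀ e ∈ E l, ∀ c ∈ A, ⁅π e, c⁆ ∈ R := by
    by_contra hcon
    push Not at hcon
    obtain ⟨e, he, _, ⟨c, hc, rfl⟩, hce⟩ := hcon
    set J := ⁅E l, C⁆ ⊔ N with hJ
    haveI : (⁅E l, C⁆).Normal := inferInstance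
    set Jb := J.map π with hJb
    haveI : Jb.Normal := Subgroup.Normal.map inferInstance π (QuotientGroup.mk'_surjective N)
    have hJP : Jb ≤ P := by
      rw [hJb, hJ, Subgroup.map_sup, QuotientGroup.map_mk'_self, sup_bot_eq, Subgroup.map_commutator]
      refine commutator_le.2 fun x _ y hy => hF.commA y hy x
    have hy : ⁅π e, π c⁆ ∈ Jb := by
      rw [← map_commutatorElement]
      exact mem_map_of_mem π (mem_sup_left (commutator_mem_commutator he hc))
    obtain ⟨t, ht⟩ := CfsgLib.Fusion.RankThree.exists_zpow_inv_mul_mem (hG.to_quotient N) hF.RP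
      (by rw [hF.cardP, hF.cardR]; ring) hF.qP hF.qR (hJP hy)
    have ht0 : (t : ZMod p) ≠ 0 := fun h0 => hce (by
      rwa [CfsgLib.Fusion.LineTorus.zpow_congr (hAexp q (hF.PA hF.qP)) (r := t) (s := 0) (by simpa using h0), zpow_zero,
        inv_one, one_mul] at ht)
    have hRJ : R ≤ Jb := by
      intro r hr'
      obtain ⟨g, hgq, -⟩ := hF.surj r hr' 1 (one_mem P)
      set y := ⁅π e, π c⁆ with hy'
      set w := (q ^ t)⁻¹ * y with hw
      have h1 : ⁅g, y⁆ ∈ Jb := by
        rw [commutatorElement_def]; exact mul_mem ((inferInstance : Jb.Normal).conj_mem _ hy g) (inv_mem hy)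
      have hgw : ⁅g, w⁆ = 1 := commutatorElement_eq_one_iff_mul_comm.2 (mem_center_iff.1 (hF.R_center ht) g)
      rw [show y = q ^ t * w by rw [hw]; group, comm_mul_of_comm (by rw [hgw]; exact Commute.one_left _), hgw, mul_one,
        comm_zpow_of_comm (by rw [hgq]; exact (mem_center_iff.1 (hF.R_center hr') q).symm), hgq] at h1
      exact CfsgLib.Fusion.RankThree.mem_of_zpow_mem (by rw [hAexp r (hF.PA (hF.RP hr'))]; exact one_mem _) h1 ht0
    have hqJ : q ∈ Jb := by
      refine CfsgLib.Fusion.RankThree.mem_of_zpow_mem (by rw [hAexp q (hF.PA hF.qP)]; exact one_mem _) ?_ ht0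
      have h1 := mul_mem hy (inv_mem (hRJ ht))
      rwa [show ⁅π e, π c⁆ * ((q ^ t)⁻¹ * ⁅π e, π c⁆)⁻¹ = q ^ t by group] at h1
    have hJeq : Jb = P := le_antisymm hJP fun x hx => by
      obtain ⟨s, hs⟩ := CfsgLib.Fusion.RankThree.exists_zpow_inv_mul_mem (hG.to_quotient N) hF.RP
        (by rw [hF.cardP, hF.cardR]; ring) hF.qP hF.qR hx
      have h1 := mul_mem (zpow_mem hqJ s) (hRJ hs)
      rwa [show q ^ s * ((q ^ s)⁻¹ * x) = x by group] at h1
    have hJh : Ph = J := by
      rw [hPh, ← hJeq, hJb, comap_map_eq, hπ, QuotientGroup.ker_mk', sup_eq_left.2 le_sup_right]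
    refine hflag l hl hRhX ?_
    rw [hJh]
    intro φ hφ r hr'
    have hle : J ≤ ((J.subgroupOf (E l)).comap φ.toMonoidHom).map (E l).subtype := by
      refine sup_le (commutator_le.2 fun x hx y hy' => ⟨⁅(⟨x, hx⟩ : E l), ⟨y, hCl hy'⟩⁆, ?_, rfl⟩) fun x (hx : x ∈ N) =>
        Subgroup.mem_map.2 ⟨⟨x, hCl (hNC hx)⟩, Subgroup.mem_comap.2 (mem_subgroupOf.2 (mem_sup_right (hNX φ hφ ⟨x, hCl (hNC hx)⟩ hx))), rfl⟩
      show (φ ⁅(⟨x, hx⟩ : E l), ⟨y, hCl hy'⟩⁆ : G) ∈ J
      rw [map_commutatorElement]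
      exact mem_sup_left (commutator_mem_commutator (φ ⟨x, hx⟩).2 (hCinv l hl φ hφ ⟨y, hCl hy'⟩ hy'))
    obtain ⟨y, hy', hyr⟩ := hle hr'
    rw [show y = r from Subtype.ext hyr] at hy'
    exact hy'
  -- the image of `E l` is elementary modulo `R`
  set B := (E l).map π with hB
  have hAB : A ≤ B := map_mono hCl
  have hcomA : ∀ e ∈ E l, ∀ e' ∈ E l, ⁅π e, π e'⁆ ∈ A := by
    intro e he e' he'
    refine hcent _ fun x hx => ?_
    have hr1 : π e * x * (π e)⁻¹ = ⁅π e, x⁆ * x := by rw [commutatorElement_def]; group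
    have hr2 : π e' * x * (π e')⁻¹ = ⁅π e', x⁆ * x := by rw [commutatorElement_def]; group
    have hfixR : ∀ (e : G) (r : G ⧸ N), r ∈ R → π e * r * (π e)⁻¹ = r := fun e r hr' => by
      rw [mem_center_iff.1 (hF.R_center hr') (π e), mul_inv_cancel_right]
    set r1 := ⁅π e, x⁆
    set r2 := ⁅π e', x⁆
    have h1 := hCE e he x hx
    have h2 := hCE e' he' x hx
    have hc12 : r1 * r2 = r2 * r1 := mem_center_iff.1 (hF.R_center h2) r1
    have key : π e * (π e' * x * (π e')⁻¹) * (π e)⁻¹ = π e' * (π e * x * (π e)⁻¹) * (π e')⁻¹ := by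
      rw [hr2, hr1, show π e * (r2 * x) * (π e)⁻¹ = (π e * r2 * (π e)⁻¹) * (π e * x * (π e)⁻¹) by group,
        show π e' * (r1 * x) * (π e')⁻¹ = (π e' * r1 * (π e')⁻¹) * (π e' * x * (π e')⁻¹) by group,
        hfixR e r2 h2, hfixR e' r1 h1, hr1, hr2, ← mul_assoc, ← mul_assoc, hc12]
    calc ⁅π e, π e'⁆ * x = (π e * π e') * ((π e' * π e)⁻¹ * x * (π e' * π e)) * (π e * π e')⁻¹ * ⁅π e, π e'⁆ := by
          rw [commutatorElement_def]; group
      _ = (π e' * π e) * ((π e' * π e)⁻¹ * x * (π e' * π e)) * (π e' * π e)⁻¹ * ⁅π e, π e'⁆ := by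
          obtain ⟨w, hw⟩ : ∃ w, w = (π e' * π e)⁻¹ * x * (π e' * π e) := ⟨_, rfl⟩
          rw [← hw]
          have hwA : w ∈ A := by
            have h := (inferInstance : A.Normal).conj_mem x hx (π e' * π e)⁻¹
            rwa [inv_inv, ← hw] at h
          have key' : π e * π e' * w * (π e * π e')⁻¹ = π e' * π e * w * (π e' * π e)⁻¹ := by
            have hr1' : π e * w * (π e)⁻¹ = ⁅π e, w⁆ * w := by rw [commutatorElement_def]; group
            have hr2' : π e' * w * (π e')⁻¹ = ⁅π e', w⁆ * w := by rw [commutatorElement_def]; group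
            have g1 := hCE e he w hwA
            have g2 := hCE e' he' w hwA
            rw [show π e * π e' * w * (π e * π e')⁻¹ = π e * (π e' * w * (π e')⁻¹) * (π e)⁻¹ by group, hr2',
              show π e * (⁅π e', w⁆ * w) * (π e)⁻¹ = (π e * ⁅π e', w⁆ * (π e)⁻¹) * (π e * w * (π e)⁻¹) by group,
              hfixR e _ g2, hr1', show π e' * π e * w * (π e' * π e)⁻¹ = π e' * (π e * w * (π e)⁻¹) * (π e')⁻¹ by group,
              hr1', show π e' * (⁅π e, w⁆ * w) * (π e')⁻¹ = (π e' * ⁅π e, w⁆ * (π e')⁻¹) * (π e' * w * (π e')⁻¹) by group,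
              hfixR e' _ g1, hr2', ← mul_assoc, ← mul_assoc, mem_center_iff.1 (hF.R_center g1) ⁅π e', w⁆]
          rw [key']
      _ = x * ⁅π e, π e'⁆ := by group
  have hpowA : ∀ e ∈ E l, π e ^ p ∈ A := by
    intro e he
    refine hcent _ fun x hx => ?_
    have hr' := hCE e he x hx
    have hfixr : π e * ⁅π e, x⁆ * (π e)⁻¹ = ⁅π e, x⁆ := by
      rw [mem_center_iff.1 (hF.R_center hr') (π e), mul_inv_cancel_right]
    have hit : ∀ m : ℕ, π e ^ m * x * (π e ^ m)⁻¹ = ⁅π e, x⁆ ^ m * x := by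
      intro m
      induction m with
      | zero => simp
      | succ m ih =>
        rw [pow_succ', show π e * π e ^ m * x * (π e * π e ^ m)⁻¹ = π e * (π e ^ m * x * (π e ^ m)⁻¹) * (π e)⁻¹ by group,
          ih, show π e * (⁅π e, x⁆ ^ m * x) * (π e)⁻¹ = (π e * ⁅π e, x⁆ ^ m * (π e)⁻¹) * (π e * x * (π e)⁻¹) by group,
          ← conj_pow, hfixr, show π e * x * (π e)⁻¹ = ⁅π e, x⁆ * x by rw [commutatorElement_def]; group, pow_succ,
          mul_assoc]
    have h1 := hit p
    rw [hAexp _ (hF.PA (hF.RP hr')), one_mul] at h1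
    exact mul_inv_eq_iff_eq_mul.1 h1
  -- commutators of `E l`
  set D := ⁅E l, E l⁆ ⊔ Rh with hD
  haveI : Rh.Normal := inferInstance
  haveI : (⁅E l, E l⁆).Normal := inferInstance
  set Db := D.map π with hDb
  haveI : Db.Normal := Subgroup.Normal.map inferInstance π (QuotientGroup.mk'_surjective N)
  have hDA : ∀ x ∈ Db, x ∈ A := by
    rw [hDb, hD, Subgroup.map_sup, Subgroup.map_commutator]
    refine sup_le (commutator_le.2 ?_) ?_
    · rintro _ ⟨e, he, rfl⟩ _ ⟨e', he', rfl⟩; exact hcomA e he e' he'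
    · rw [hRh, map_comap_eq_self_of_surjective (QuotientGroup.mk'_surjective N)]; exact hF.RP.trans hF.PA
  have hcommR : ∀ e ∈ E l, ∀ e' ∈ E l, ⁅π e, π e'⁆ ∈ R := by
    -- two generators modulo `A`
    have hlt : C < E l := lt_of_le_of_ne hCl fun e => by
      rw [e] at hcEl
      have := Nat.one_lt_pow (n := 2) (by norm_num) hp.one_lt
      have := Nat.card_pos (α := E l)
      nlinarith
    obtain ⟨e1, he1, he1C⟩ := SetLike.exists_of_lt hlt
    set C1 := zpowers e1 ⊔ C with hC1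
    have hC1E : C1 ≤ E l := sup_le (zpowers_le.2 he1) hCl
    have hexpC : ∀ e ∈ E l, e ^ p ∈ C := fun e he => by
      obtain ⟨c, hc, hce⟩ := hpowA e he
      rw [← map_pow] at hce
      have h1 : c⁻¹ * e ^ p ∈ N := QuotientGroup.eq.1 hce
      simpa using mul_mem hc (hNC h1)
    have hC1c : Nat.card C1 ≤ p * Nat.card C := by
      have h1 := CfsgLib.MaxClassCube.card_map_mul_card_inf_ker' (QuotientGroup.mk' C) C1
      rw [QuotientGroup.ker_mk', inf_eq_right.2 (le_sup_right : C ≤ C1)] at h1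
      rw [← h1]
      refine Nat.mul_le_mul_right _ ?_
      rw [hC1, Subgroup.map_sup, QuotientGroup.map_mk'_self, sup_bot_eq, MonoidHom.map_zpowers, Nat.card_zpowers]
      refine Nat.le_of_dvd hp.pos (orderOf_dvd_of_pow_eq_one ?_)
      rw [← map_pow]
      exact (QuotientGroup.eq_one_iff _).2 (hexpC e1 he1)
    obtain ⟨e2, he2, he2C⟩ := SetLike.exists_of_lt (lt_of_le_of_ne hC1E fun e => by
      rw [e, hcEl, pow_two] at hC1c
      have := hp.two_le
      have := Nat.card_pos (α := C)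
      nlinarith)
    have hgen : ∀ e ∈ E l, ∃ s t : ℤ, ∃ c ∈ C, e = e2 ^ t * (e1 ^ s * c) := by
      intro e he
      have hmapn : ∀ g : G, ∀ x ∈ C1, g ∈ E l → g * x * g⁻¹ ∈ C1 := by
        intro g x hx hg
        have h1 : ⁅g, x⁆ ∈ C := by
          obtain ⟨c, hc, hce⟩ := hcomA g hg x (hC1E hx)
          have h2 : c⁻¹ * ⁅g, x⁆ ∈ N := QuotientGroup.eq.1 (by
            show π c = π ⁅g, x⁆
            rw [map_commutatorElement]; exact hce)
          simpa using mul_mem hc (hNC h2)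
        rw [show g * x * g⁻¹ = ⁅g, x⁆ * x by rw [commutatorElement_def]; group]
        exact mul_mem (mem_sup_right h1) hx
      set W := zpowers e2 ⊔ C1
      have hWE : W ≤ E l := sup_le (zpowers_le.2 he2) hC1E
      have hW : W = E l := by
        refine eq_of_le_of_card_ge hWE ?_
        have g1 := CfsgLib.MaxClassCube.mul_card_le hG (lt_of_le_of_ne (le_sup_right : C ≤ C1) fun e => he1C (e.ge (mem_sup_left (mem_zpowers _))))
        have g2 := CfsgLib.MaxClassCube.mul_card_le hG (lt_of_le_of_ne (le_sup_right : C1 ≤ W) fun e => he2C (e.ge (mem_sup_left (mem_zpowers _))))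
        rw [hcEl, pow_two, mul_assoc]
        exact (Nat.mul_le_mul_left p g1).trans g2
      haveI : (C1.subgroupOf (E l)).Normal := ⟨fun x hx g => mem_subgroupOf.2 (hmapn g x (mem_subgroupOf.1 hx) g.2)⟩
      have hsupE : (zpowers (⟨e2, he2⟩ : E l)) ⊔ C1.subgroupOf (E l) = ⊤ := by
        apply Subgroup.map_injective (E l).subtype_injective
        rw [Subgroup.map_sup, MonoidHom.map_zpowers, Subgroup.map_subgroupOf_eq_of_le hC1E, ← MonoidHom.range_eq_map,
          Subgroup.range_subtype]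
        exact hW
      obtain ⟨x, hx, y, hy, hxy⟩ := mem_sup_of_normal_right.1 (hsupE.ge (mem_top ⟨e, he⟩))
      obtain ⟨t, rfl⟩ := mem_zpowers_iff.1 hx
      obtain ⟨x1, hx1, c, hc, hy1⟩ := mem_sup_of_normal_right.1 (mem_subgroupOf.1 hy)
      obtain ⟨s, rfl⟩ := mem_zpowers_iff.1 hx1
      refine ⟨s, t, c, hc, ?_⟩
      rw [hy1]
      exact (congrArg Subtype.val hxy).symm
    by_contra hcon
    push Not at hcon
    set ρ := QuotientGroup.mk' R with hρ
    obtain ⟨d, hd⟩ : ∃ d, d = ⁅π e2, π e1⁆ := ⟨_, rfl⟩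
    have hcentA : ∀ e ∈ E l, ∀ c ∈ A, Commute (ρ (π e)) (ρ c) := fun e he c hc => by
      rw [← commutatorElement_eq_one_iff_commute, ← map_commutatorElement]
      exact (QuotientGroup.eq_one_iff _).2 (hCE e he c hc)
    have hdA : d ∈ A := hd ▸ hcomA e2 he2 e1 he1
    have hbil : ∀ s t : ℤ, ρ ⁅π e2 ^ t, π e1 ^ s⁆ ∈ zpowers (ρ d) := by
      intro s t
      have hA1 : ⁅π e2, π e1 ^ s⁆ ∈ A := by
        rw [← map_zpow]; exact hcomA e2 he2 _ (zpow_mem he1 s)
      have hc1 : Commute ⁅ρ (π e2), ρ (π e1)⁆ (ρ (π e1)) := by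
        rw [← map_commutatorElement, ← hd]; exact (hcentA e1 he1 _ hdA).symm
      have hc2 : Commute ⁅ρ (π e1) ^ s, ρ (π e2)⁆ (ρ (π e2)) := by
        rw [← commutatorElement_inv, ← map_zpow, ← map_commutatorElement, ← map_inv]
        exact (hcentA e2 he2 _ (inv_mem hA1)).symm
      rw [map_commutatorElement, map_zpow, map_zpow, ← commutatorElement_inv, comm_zpow_of_comm hc2,
        ← commutatorElement_inv (ρ (π e2)), comm_zpow_of_comm hc1, ← map_commutatorElement, ← hd]
      exact inv_mem (zpow_mem (inv_mem (zpow_mem (mem_zpowers (ρ d)) s)) t)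
    have hDd : ∀ e ∈ E l, ∀ e' ∈ E l, ρ ⁅π e, π e'⁆ ∈ zpowers (ρ d) := by
      intro e he e' he'
      obtain ⟨s, t, c, hc, rfl⟩ := hgen e he
      obtain ⟨s', t', c', hc', rfl⟩ := hgen e' he'
      set x := ρ (π e1) with hx
      set y := ρ (π e2) with hy
      rw [map_commutatorElement]
      simp only [map_mul, map_zpow]
      set P0 := zpowers (ρ d)
      have hb : ∀ s t : ℤ, ⁅y ^ t, x ^ s⁆ ∈ P0 := fun s t => by
        have := hbil s t
        rwa [map_commutatorElement, map_zpow, map_zpow] at this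
      have hcz : ∀ c ∈ C, ∀ e ∈ E l, Commute (ρ (π c)) (ρ (π e)) := fun c hc e he => (hcentA e he _ (mem_map_of_mem π hc)).symm
      have hd' : ∀ e ∈ E l, Commute (ρ d) (ρ (π e)) := fun e he => (hcentA e he _ hdA).symm
      have hP0c : ∀ z ∈ P0, Commute z x ∧ Commute z y := fun z hz => by
        obtain ⟨m, rfl⟩ := mem_zpowers_iff.1 hz
        exact ⟨(hd' e1 he1).zpow_left m, (hd' e2 he2).zpow_left m⟩
      have k1 : Commute (ρ (π c)) x := hcz c hc e1 he1
      have k2 : Commute (ρ (π c)) y := hcz c hc e2 he2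
      have k3 : Commute (ρ (π c')) x := hcz c' hc' e1 he1
      have k4 : Commute (ρ (π c')) y := hcz c' hc' e2 he2
      have k5 : Commute (ρ (π c)) (ρ (π c')) := hcz c hc c' (hCl hc')
      have hdrop : ⁅y ^ t * (x ^ s * ρ (π c)), y ^ t' * (x ^ s' * ρ (π c'))⁆ = ⁅y ^ t * x ^ s, y ^ t' * x ^ s'⁆ := by
        have g1 : Commute (ρ (π c)) (y ^ t' * (x ^ s' * ρ (π c'))) :=
          (k2.zpow_right t').mul_right ((k1.zpow_right s').mul_right k5)
        have g2 : Commute (ρ (π c')) (y ^ t * x ^ s) := (k4.zpow_right t).mul_right (k3.zpow_right s)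
        rw [← mul_assoc, ← mul_assoc,
          show ⁅y ^ t * x ^ s * ρ (π c), y ^ t' * x ^ s' * ρ (π c')⁆ = (y ^ t * x ^ s) *
            (ρ (π c) * (y ^ t' * x ^ s' * ρ (π c')) * (ρ (π c))⁻¹) * (y ^ t * x ^ s)⁻¹ * (y ^ t' * x ^ s' * ρ (π c'))⁻¹ by
            simp only [commutatorElement_def]; group]
        rw [show ρ (π c) * (y ^ t' * x ^ s' * ρ (π c')) * (ρ (π c))⁻¹ = y ^ t' * x ^ s' * ρ (π c') by
          rw [mul_assoc (y ^ t'), g1.eq, mul_inv_cancel_right],
          show (y ^ t * x ^ s) * (y ^ t' * x ^ s' * ρ (π c')) * (y ^ t * x ^ s)⁻¹ =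
            (y ^ t * x ^ s) * (y ^ t' * x ^ s') * (ρ (π c') * (y ^ t * x ^ s)⁻¹) by group,
          g2.inv_right.eq, commutatorElement_def]
        group
      rw [hdrop]
      have hswap : ∀ a b : ℤ, ⁅x ^ a, y ^ b⁆ ∈ P0 := fun a b => by
        rw [← commutatorElement_inv]; exact inv_mem (hb a b)
      rw [show ⁅y ^ t * x ^ s, y ^ t' * x ^ s'⁆ = y ^ t * (⁅x ^ s, y ^ t'⁆ * (y ^ t' * ⁅x ^ s, x ^ s'⁆ * (y ^ t')⁻¹)) *
        (y ^ t)⁻¹ * (⁅y ^ t, y ^ t'⁆ * (y ^ t' * ⁅y ^ t, x ^ s'⁆ * (y ^ t')⁻¹)) by simp only [commutatorElement_def]; group,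
        commutatorElement_eq_one_iff_commute.2 ((Commute.refl x).zpow_zpow s s'),
        commutatorElement_eq_one_iff_commute.2 ((Commute.refl y).zpow_zpow t t')]
      simp only [mul_one, one_mul, mul_inv_cancel]
      have g3 := (hP0c _ (hswap s t')).2
      have g4 := (hP0c _ (hb s' t)).2
      rw [← (g3.zpow_right t).eq, mul_inv_cancel_right, ← (g4.zpow_right t').eq, mul_inv_cancel_right]
      exact mul_mem (hswap s t') (hb s' t)
    obtain ⟨e, he, e', he', hee⟩ := hcon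
    have hdR : d ∉ R := fun hh => hee ((QuotientGroup.eq_one_iff _).1 (by
      have h1 := hDd e he e' he'
      rw [show ρ d = 1 from (QuotientGroup.eq_one_iff d).2 hh, zpowers_one_eq_bot, mem_bot] at h1
      exact h1))
    have hDle : Db ≤ zpowers d ⊔ R := by
      rw [hDb, hD, Subgroup.map_sup, Subgroup.map_commutator, hRh,
        map_comap_eq_self_of_surjective (QuotientGroup.mk'_surjective N)]
      refine sup_le (commutator_le.2 ?_) le_sup_right
      rintro _ ⟨f1, hf1, rfl⟩ _ ⟨f2, hf2, rfl⟩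
      obtain ⟨m, hm⟩ := mem_zpowers_iff.1 (hDd f1 hf1 f2 hf2)
      have h1 : (d ^ m)⁻¹ * ⁅π f1, π f2⁆ ∈ R := QuotientGroup.eq.1 (by
        show ρ (d ^ m) = ρ ⁅π f1, π f2⁆
        rw [map_zpow]; exact hm)
      simpa using mul_mem (mem_sup_left (zpow_mem (mem_zpowers d) m)) (mem_sup_right h1)
    have hdD : d ∈ Db := by
      rw [hd, ← map_commutatorElement]
      exact mem_map_of_mem π (mem_sup_left (commutator_mem_commutator he2 he1))
    have hRD : R ≤ Db := by
      intro r hr'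
      obtain ⟨x, rfl⟩ := QuotientGroup.mk'_surjective N r
      exact mem_map_of_mem π (mem_sup_right hr')
    have hcD : Nat.card Db ≤ p * Nat.card R := by
      refine (Subgroup.card_le_of_le hDle).trans ?_
      have h1 := CfsgLib.MaxClassCube.card_map_mul_card_inf_ker' ρ (zpowers d ⊔ R)
      rw [hρ, QuotientGroup.ker_mk', inf_eq_right.2 (le_sup_right : R ≤ zpowers d ⊔ R)] at h1
      rw [← h1, Subgroup.map_sup, QuotientGroup.map_mk'_self, sup_bot_eq, MonoidHom.map_zpowers, Nat.card_zpowers]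
      refine Nat.mul_le_mul_right _ (Nat.le_of_dvd hp.pos (orderOf_dvd_of_pow_eq_one ?_))
      rw [← map_pow, hAexp d hdA, map_one]
    have hDP : Db = P := by
      have hle : Db ≤ P := fun x hx => hF.second x (hDA x hx) fun g => by
        set ρ' := QuotientGroup.mk' R
        haveI : (Db.map ρ').Normal := Subgroup.Normal.map inferInstance ρ' (QuotientGroup.mk'_surjective R)
        have h1 := CfsgLib.MaxClassCube.card_map_mul_card_inf_ker' ρ' Db
        rw [QuotientGroup.ker_mk', inf_eq_right.2 hRD] at h1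
        have hle' : Nat.card (Db.map ρ') ≤ p := Nat.le_of_mul_le_mul_right (h1.trans_le hcD) Nat.card_pos
        have h2 := CfsgLib.MetacyclicOmega.le_center_of_card_le ((hG.to_quotient N).to_quotient R) _ hle'
          (mem_map_of_mem ρ' hx)
        refine (QuotientGroup.eq_one_iff _).1 ?_
        show ρ' ⁅g, x⁆ = 1
        rw [map_commutatorElement, commutatorElement_eq_one_iff_mul_comm]
        exact mem_center_iff.1 h2 (ρ' g)
      refine eq_of_le_of_card_ge hle ?_
      have h1 := CfsgLib.MaxClassCube.mul_card_le (hG.to_quotient N) (lt_of_le_of_ne hRD fun e => hdR (e ▸ hdD))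
      rw [hF.cardR] at h1
      rw [hF.cardP, pow_two]
      exact h1
    have hDh : Ph = D := by
      rw [hPh, ← hDP, hDb, comap_map_eq, hπ, QuotientGroup.ker_mk', sup_eq_left.2 (hNR.trans le_sup_right)]
    refine hflag l hl hRhX ?_
    rw [hDh]
    intro φ hφ r hr'
    have hle : D ≤ ((D.subgroupOf (E l)).comap φ.toMonoidHom).map (E l).subtype := by
      refine sup_le (commutator_le.2 fun x hx y hy' => ⟨⁅(⟨x, hx⟩ : E l), ⟨y, hy'⟩⁆, ?_, rfl⟩) fun x (hx : x ∈ Rh) =>
        Subgroup.mem_map.2 ⟨⟨x, hCl (hPC (hRPh hx))⟩, Subgroup.mem_comap.2 (mem_subgroupOf.2 (mem_sup_right (hRhX φ hφ ⟨x, hCl (hPC (hRPh hx))⟩ hx))), rfl⟩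
      show (φ ⁅(⟨x, hx⟩ : E l), ⟨y, hy'⟩⁆ : G) ∈ D
      rw [map_commutatorElement]
      exact mem_sup_left (commutator_mem_commutator (φ ⟨x, hx⟩).2 (φ ⟨y, hy'⟩).2)
    obtain ⟨y, hy', hyr⟩ := hle hr'
    rw [show y = r from Subtype.ext hyr] at hy'
    exact hy'
  have hpowR : ∀ e ∈ E l, π e ^ p ∈ R := by
    intro e he
    refine hFR _ (hpowA e he) fun e' he' => ?_
    have hrR := hcommR e' he' e he
    set r := ⁅π e', π e⁆ with hr'
    have h1 : π e' * π e ^ p * (π e')⁻¹ = π e ^ p := by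
      rw [← conj_pow, show π e' * π e * (π e')⁻¹ = r * π e by rw [hr', commutatorElement_def]; group,
        (show Commute r (π e) from (mem_center_iff.1 (hF.R_center hrR) _).symm).mul_pow,
        hAexp r (hF.PA (hF.RP hrR)), one_mul]
    exact mul_inv_eq_iff_eq_mul.1 h1
  -- the section of order `p ^ 4`
  set σ := QuotientGroup.mk' Rh with hσ
  have hle := card_le_of_section hr Rh ((E l).map σ) ?_ ?_
  · have h1 := CfsgLib.MaxClassCube.card_map_mul_card_inf_ker' σ (E l)
    rw [hσ, QuotientGroup.ker_mk', inf_eq_right.2 ((hRPh.trans hPC).trans hCl), hcEl, hAcard, hF.cardA] at h1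
    have h2 := CfsgLib.MaxClassCube.card_map_mul_card_inf_ker' π Rh
    rw [show π.ker = N from QuotientGroup.ker_mk' N, inf_eq_right.2 hNR,
      show Rh.map π = R from map_comap_eq_self_of_surjective (QuotientGroup.mk'_surjective N) R, hF.cardR] at h2
    rw [hσ] at hle
    rw [← h2] at h1
    have h3 : p ^ 2 * (p ^ 3 * Nat.card N) ≤ p ^ 3 * (p * Nat.card N) := h1 ▸ Nat.mul_le_mul_right _ hle
    rw [show p ^ 2 * (p ^ 3 * Nat.card N) = p ^ 5 * Nat.card N by ring,
      show p ^ 3 * (p * Nat.card N) = p ^ 4 * Nat.card N by ring] at h3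
    have := Nat.le_of_mul_le_mul_right h3 Nat.card_pos
    exact absurd ((Nat.pow_le_pow_iff_right hp.one_lt).1 this) (by norm_num)
  · rintro _ ⟨x, hx, rfl⟩ _ ⟨y, hy, rfl⟩
    rw [← commutatorElement_eq_one_iff_mul_comm, ← map_commutatorElement]
    refine (QuotientGroup.eq_one_iff _).2 ?_
    show π ⁅x, y⁆ ∈ R
    rw [map_commutatorElement]
    exact hcommR x hx y hy
  · rintro _ ⟨x, hx, rfl⟩
    rw [← map_pow]
    refine (QuotientGroup.eq_one_iff _).2 ?_
    show π (x ^ p) ∈ R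
    rw [map_pow]
    exact hpowR x hx

end CfsgLib.Fusion.IndexFamily
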