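import Cfsg.Agent.Lib.Fusion.System.RankThree.NormalFamily.ConjFalse
import Cfsg.Agent.Lib.Fusion.System.RankThree.NormalFamily.Flat
import Cfsg.Agent.Lib.Fusion.System.RankThree.NormalFamily.Planes

/-!
# A family of index-`p` pivots has a common invariant subgroup or small shape
-/

set_option autoImplicit false
set_option linter.style.haveILetI false
set_option linter.unusedSectionVars false

open Subgroup

namespace CfsgLib.Fusion.IndexFamily

universe u v

variable {G : Type u} [Group G] [Finite G] {p : ℕ} [Fact p.Prime] {I : Type v} {E : I → Subgroup G}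
  [hn : ∀ i, (E i).Normal] {X : ∀ i, Subgroup (MulAut (E i))} {Γ : Subgroup (MulAut G)}

/-- The main alternative for a family. -/
theorem Fam.common_or_shape (h : Fam p E X Γ) (hnot : ¬ Cfsg.SectionalPRankLE p 2 G) (i₀ : I) : Common E X Γ ∨ Shape p G := by
  by_cases hall : ∀ i j, omz p (E i) ≤ E j
  · rcases h.commuting hall i₀ with hc | ⟨i, k, U, hP⟩
    · exact Or.inl hc
    · exact (h.planes_false hP).elim
  · push Not at hall
    obtain ⟨i, k, hik⟩ := hall
    obtain ⟨z, hz, hzk⟩ := SetLike.not_le_iff_exists.1 hik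
    rcases h.small hnot hz hzk with hc | hsm
    · exact Or.inl hc.common
    by_cases hab : ∀ l, ∀ a ∈ E l, ∀ b ∈ E l, a * b = b * a
    · exact Or.inl (h.flat hz hzk hsm hab)
    obtain ⟨l, hl⟩ := not_forall.1 hab
    have hne : E l ≠ E i := fun e => hl (e ▸ hsm.2.2.2.1)
    obtain ⟨z', hz', hzl⟩ := SetLike.not_le_iff_exists.1 (h.not_le_of_ne hz hzk hne)
    exact Or.inr (h.shape hz' hzl hsm hl)

end CfsgLib.Fusion.IndexFamily
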