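import Cfsg.Agent.Lib.Fusion.System.RankThree.NormalFamily.Planes
import Cfsg.Agent.Lib.Fusion.System.Transvection

/-!
# An extendable automorphism inverting an abelian section

If an element outside a pivot acts as a transvection on an invariant abelian section, some
element of the automizer inverts the axes, extends to the ambient group, and keeps the coset of that
element.
-/

set_option autoImplicit false
set_option linter.style.haveILetI false
set_option linter.unusedSectionVars false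

open Subgroup
open scoped commutatorElement

namespace CfsgLib.Fusion.IndexFamily

open CfsgLib.Fusion.RankThree (InvE)
open CfsgLib.Fusion.Transvection (dlt IsTrv exists_neg not_range_le_ker)

universe u

/-- Powers of a product whose commutator commutes with both factors. -/
theorem mul_pow_commutator {H : Type u} [Group H] {a b : H} (ha : Commute a ⁅b, a⁆) (hb : Commute b ⁅b, a⁆)
    (n : ℕ) : (a * b) ^ n = a ^ n * b ^ n * ⁅b, a⁆ ^ (n.choose 2) := by
  set c := ⁅b, a⁆ with hc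
  have h1 : SemiconjBy a⁻¹ b (b * c) := by
    have h2 : b * a = a * (b * c) := by
      rw [hb.eq, ← mul_assoc, ha.eq, hc, commutatorElement_def]; group
    show a⁻¹ * b = b * c * a⁻¹
    rw [eq_mul_inv_iff_mul_eq, mul_assoc, h2, inv_mul_cancel_left]
  have h3 : ∀ k : ℕ, b ^ k * a = a * (b ^ k * c ^ k) := fun k => by
    have h4 := (h1.pow_right k).eq
    rw [eq_mul_inv_iff_mul_eq, hb.mul_pow, mul_assoc, inv_mul_eq_iff_eq_mul] at h4
    exact h4
  induction n with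
  | zero => simp
  | succ n ih =>
    rw [pow_succ (a * b), ih, show (n + 1).choose 2 = n + n.choose 2 by rw [Nat.choose_succ_succ, Nat.choose_one_right],
      pow_succ a n, pow_succ b n, pow_add c]
    calc a ^ n * b ^ n * c ^ n.choose 2 * (a * b)
        = a ^ n * (b ^ n * (c ^ n.choose 2 * a)) * b := by simp only [mul_assoc]
      _ = a ^ n * (b ^ n * a) * c ^ n.choose 2 * b := by
        rw [(ha.symm.pow_left (n.choose 2)).eq]; simp only [mul_assoc]
      _ = a ^ n * a * b ^ n * (c ^ n * c ^ n.choose 2) * b := by rw [h3]; simp only [mul_assoc]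
      _ = a ^ n * a * b ^ n * (b * (c ^ n * c ^ n.choose 2)) := by
        rw [((hb.pow_right n).mul_right (hb.pow_right (n.choose 2))).eq]; simp only [mul_assoc]
      _ = _ := by simp only [mul_assoc]

/-- For odd `p` a commutator of order `p` disappears from a `p`-th power. -/
theorem mul_pow_odd {H : Type u} [Group H] {p : ℕ} [Fact p.Prime] (hp : p ≠ 2) {a b : H}
    (ha : Commute a ⁅b, a⁆) (hb : Commute b ⁅b, a⁆) (hc : ⁅b, a⁆ ^ p = 1) :
    (a * b) ^ p = a ^ p * b ^ p := by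
  obtain ⟨m, hm⟩ := (Fact.out : p.Prime).dvd_choose_self two_ne_zero
    (lt_of_le_of_ne (Fact.out : p.Prime).two_le (Ne.symm hp))
  rw [mul_pow_commutator ha hb, hm, pow_mul, hc, one_pow, mul_one]

variable {G : Type u} [Group G] [Finite G] {p : ℕ} [Fact p.Prime] {E : Subgroup G} [E.Normal]
  {X : Subgroup (MulAut E)} {Γ : Subgroup (MulAut G)}

/-- The element inverting a section. -/
theorem Piv.exists_neg_elem (h : Piv p E X Γ) {n : G} (hn : n ∉ E) {A N L : Subgroup G} [hAn : A.Normal]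
    [hNn : N.Normal] [hLn : L.Normal] (hAE : A ≤ E) (hNA : N ≤ A) (hNL : N ≤ L) (hLA : L ≤ A)
    (hiA : InvE X A) (hiN : InvE X N) (hab : ∀ a ∈ A, ∀ e ∈ E, ⁅e, a⁆ ∈ N)
    (hL : ∀ a ∈ A, ⁅n, a⁆ ∈ L) (hLc : Nat.card L ≤ p * Nat.card N)
    {P : Subgroup (MulAut E)} (hPX : P ≤ X) (hPn : ∀ α ∈ X, ∀ y ∈ P, α * y * α⁻¹ ∈ P)
    (hQP : (MulAut.conjNormal (H := E)).range ≤ P)
    (hker : ∀ Y : Subgroup (MulAut E), Y ≤ P → (∀ σ ∈ Y, ∀ r : E, (r : G) ∈ A → ((r⁻¹ * σ r : E) : G) ∈ N) →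
      IsPGroup p Y) :
    ∃ t ∈ P, ∃ β ∈ Γ, (∀ r : E, β (r : G) = (t r : G)) ∧ (∀ a ∈ A, β ⁅n, a⁆ * ⁅n, a⁆ ∈ N) ∧
      n⁻¹ * β n ∈ E ∧ (Nat.card A ≤ p ^ 2 * Nat.card N → ∀ a ∈ A, β a * a ∈ N) := by
  have hp := (Fact.out : p.Prime)
  have hG := h.pgroup
  haveI := finite_mulAut E
  set N' := N.subgroupOf A with hN'
  have hN'v : ∀ {a : A}, (a : G) ∈ N ↔ QuotientGroup.mk' N' a = 1 := fun {a} =>
    ((QuotientGroup.eq_one_iff a).trans mem_subgroupOf).symm
  letI hCG : CommGroup (A ⧸ N') :=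
    { (inferInstance : Group (A ⧸ N')) with
      mul_comm := fun a b => by
        obtain ⟨a, rfl⟩ := QuotientGroup.mk'_surjective N' a
        obtain ⟨b, rfl⟩ := QuotientGroup.mk'_surjective N' b
        rw [← commutatorElement_eq_one_iff_mul_comm, ← map_commutatorElement, ← hN'v]
        exact hab b b.2 a (hAE a.2) }
  haveI : Finite (MulAut (A ⧸ N')) :=
    Finite.of_injective (fun a : MulAut (A ⧸ N') => (a : A ⧸ N' → A ⧸ N')) DFunLike.coe_injective
  -- the action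
  let res : X → MulAut A := fun α => resTo hAE (α : MulAut E) (hiA _ α.2) (hiA _ (X.inv_mem α.2))
  have hresN : ∀ α : X, N'.map (res α).toMonoidHom = N' := fun α => by
    refine eq_of_le_of_card_ge ?_ (card_map_of_injective (res α).injective).ge
    rintro _ ⟨a, ha, rfl⟩
    exact mem_subgroupOf.2 (hiN _ α.2 ⟨a, hAE a.2⟩ (mem_subgroupOf.1 ha))
  let ρ : X →* MulAut (A ⧸ N') := MonoidHom.mk' (fun α => QuotientGroup.congr N' N' (res α) (hresN α))
    fun α β => MulEquiv.ext fun v => by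
      obtain ⟨a, rfl⟩ := QuotientGroup.mk'_surjective N' v
      rfl
  have hρ : ∀ (α : X) (a : A), ρ α (QuotientGroup.mk' N' a) = QuotientGroup.mk' N' (res α a) := fun _ _ => rfl
  have hρ1 : ∀ {α : X}, ρ α = 1 ↔ ∀ r : E, (r : G) ∈ A → ((r⁻¹ * (α : MulAut E) r : E) : G) ∈ N := by
    intro α
    constructor
    · intro h1 r hr
      have h2 := DFunLike.congr_fun h1 (QuotientGroup.mk' N' ⟨r, hr⟩)
      rw [hρ, MulAut.one_apply] at h2
      exact mem_subgroupOf.1 ((QuotientGroup.eq (s := N')).1 h2.symm)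
    · intro h1
      refine MulEquiv.ext fun v => ?_
      obtain ⟨a, rfl⟩ := QuotientGroup.mk'_surjective N' v
      rw [hρ, MulAut.one_apply]
      exact ((QuotientGroup.eq (s := N')).2 (mem_subgroupOf.2 (h1 ⟨a, hAE a.2⟩ a.2))).symm
  let cn : G → X := fun g => ⟨MulAut.conjNormal g, h.qle ⟨g, rfl⟩⟩
  have hcmul : ∀ g g', cn (g * g') = cn g * cn g' := fun g g' => Subtype.ext (map_mul _ g g')
  let C : G →* X := MonoidHom.mk' cn hcmul
  have hEtriv : ∀ e ∈ E, ρ (C e) = 1 := fun e he => hρ1.2 fun r hr => by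
    rw [Subgroup.coe_mul, Subgroup.coe_inv]
    show (r : G)⁻¹ * (MulAut.conjNormal e r : G) ∈ N
    rw [MulAut.conjNormal_apply, show (r : G)⁻¹ * (e * r * e⁻¹) = (r : G)⁻¹ * ⁅e, (r : G)⁆ * (r : G)⁻¹⁻¹ by
      rw [commutatorElement_def]; group]
    exact hNn.conj_mem _ (hab _ hr e he) _
  set u := ρ (C n) with hu
  have hCu : ∀ g, ρ (C g) ∈ zpowers u := fun g => by
    obtain ⟨a, e, he, rfl⟩ := h.decomp hn g
    rw [map_mul, map_mul, hEtriv e he, mul_one, map_zpow, map_zpow]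
    exact zpow_mem (mem_zpowers u) a
  -- the kernel inside `P`
  set P' := P.subgroupOf X with hP'
  have hkerP : IsPGroup p (P' ⊓ ρ.ker : Subgroup X) := by
    have h1 := hker ((P' ⊓ ρ.ker).map X.subtype) (by rintro _ ⟨y, hy, rfl⟩; exact hy.1) (by
      rintro _ ⟨y, hy, rfl⟩ r hr
      exact hρ1.1 hy.2 r hr)
    exact h1.of_equiv (equivMapOfInjective _ X.subtype X.subtype_injective).symm
  have hPn' : ∀ α : X, ∀ y ∈ P', α * y * α⁻¹ ∈ P' := fun α y hy => hPn α α.2 y hy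
  have hcore : ∀ Y : Subgroup X, Y ≤ P' → (∀ α : X, ∀ y ∈ Y, α * y * α⁻¹ ∈ Y) → IsPGroup p Y →
      Y.map X.subtype ≤ Cfsg.Inn E := fun Y _ hYn hYp =>
    h.core _ (map_subtype_le _) (by
      rintro α hα _ ⟨y, hy, rfl⟩
      exact ⟨⟨α, hα⟩ * y * ⟨α, hα⟩⁻¹, hYn ⟨α, hα⟩ y hy, rfl⟩) (hYp.map _)
  have hKinn : ∀ y ∈ P', ρ y = 1 → (y : MulAut E) ∈ Cfsg.Inn E := fun y hy hy1 =>
    hcore (P' ⊓ ρ.ker) inf_le_left (fun α z hz => ⟨hPn' α z hz.1, MonoidHom.mem_ker.2 (by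
      rw [map_mul, map_mul, MonoidHom.mem_ker.1 hz.2, mul_one, map_inv, mul_inv_cancel])⟩) hkerP
      ⟨y, ⟨hy, hy1⟩, rfl⟩
  have hCP : ∀ g, C g ∈ P' := fun g => hQP ⟨g, rfl⟩
  have huP : u ∈ P'.map ρ := ⟨C n, hCP n, rfl⟩
  have hup : IsPGroup p (zpowers u) := by
    have h1 : IsPGroup p ((⊤ : Subgroup G).map (ρ.comp C)) := (hG.to_subgroup ⊤).map _
    exact h1.to_le (zpowers_le.2 ⟨n, mem_top n, rfl⟩)
  obtain ⟨α, hαu⟩ : ∃ α : X, ρ α * u * (ρ α)⁻¹ ∉ zpowers u := by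
    by_contra hall
    push Not at hall
    have hnorm : ∀ α : X, ∀ y ∈ zpowers u, ρ α * y * (ρ α)⁻¹ ∈ zpowers u := fun α y hy => by
      obtain ⟨m, rfl⟩ := mem_zpowers_iff.1 hy
      rw [← conj_zpow]
      exact zpow_mem (hall α) m
    have h1 := hcore (P' ⊓ (zpowers u).comap ρ) inf_le_left (fun α z hz => ⟨hPn' α z hz.1, by
      show ρ (α * z * α⁻¹) ∈ zpowers u
      rw [map_mul, map_mul, map_inv]
      exact hnorm α _ hz.2⟩) ?_ ⟨C n, ⟨hCP n, mem_zpowers u⟩, rfl⟩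
    · exact hn (h.mem_of_inn h1)
    · intro y
      obtain ⟨k, hk⟩ := hup ⟨ρ (y : X), y.2.2⟩
      have hk' : ρ ((y : X) ^ p ^ k) = 1 := by
        rw [map_pow]; exact congrArg Subtype.val hk
      obtain ⟨l, hl⟩ := hkerP ⟨(y : X) ^ p ^ k, P'.pow_mem y.2.1 _, hk'⟩
      refine ⟨k + l, Subtype.ext ?_⟩
      rw [SubmonoidClass.coe_pow, pow_add, pow_mul]
      exact congrArg Subtype.val hl
  -- the transvection
  have hLM : (dlt u).range ≤ (L.subgroupOf A).map (QuotientGroup.mk' N') := by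
    rintro _ ⟨v, rfl⟩
    obtain ⟨a, rfl⟩ := QuotientGroup.mk'_surjective N' v
    refine ⟨a⁻¹ * res (C n) a, ?_, ?_⟩
    · show (a : G)⁻¹ * (n * a * n⁻¹) ∈ L
      rw [show (a : G)⁻¹ * (n * a * n⁻¹) = (a : G)⁻¹ * ⁅n, (a : G)⁆ * (a : G)⁻¹⁻¹ by
        rw [commutatorElement_def]; group]
      exact hLn.conj_mem _ (hL _ a.2) _
    · rw [map_mul, map_inv, ← hρ]
      rfl
  have hLcard : Nat.card ((L.subgroupOf A).map (QuotientGroup.mk' N')) ≤ p := by
    have h1 := CfsgLib.MaxClassCube.card_map_mul_card_inf_ker' (QuotientGroup.mk' N') (L.subgroupOf A)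
    rw [QuotientGroup.ker_mk', inf_eq_right.2 (fun x hx => hNL hx),
      Nat.card_congr (subgroupOfEquivOfLe hLA).toEquiv, Nat.card_congr (subgroupOfEquivOfLe hNA).toEquiv] at h1
    exact Nat.le_of_mul_le_mul_right (h1.trans_le hLc) Nat.card_pos
  have hM : IsPGroup p (A ⧸ N') := (hG.to_subgroup A).to_quotient N'
  have hune : (dlt u).range ≠ ⊥ := fun hb => hαu (by
    have hu1 : u = 1 := MulEquiv.ext fun v => CfsgLib.Fusion.Transvection.dlt_eq_one.1 (mem_bot.1 (hb ▸ ⟨v, rfl⟩))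
    rw [hu1, mul_one, mul_inv_cancel]
    exact one_mem _)
  have hTc : Nat.card (dlt u).range = p := by
    refine le_antisymm ((Subgroup.card_le_of_le hLM).trans hLcard) ?_
    have h1 := CfsgLib.MaxClassCube.mul_card_le hM (bot_lt_iff_ne_bot.2 hune)
    rwa [card_bot, mul_one] at h1
  have hT : IsTrv p u := by
    refine ⟨hTc, fun v => ?_⟩
    obtain ⟨⟨d, hd⟩, hdv⟩ : ∃ d : (dlt u).range, (d : A ⧸ N') = dlt u v := ⟨⟨_, ⟨v, rfl⟩⟩, rfl⟩
    obtain ⟨a, ha, hav⟩ := hLM ⟨v, rfl⟩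
    rw [← hav]
    refine CfsgLib.Fusion.Transvection.dlt_eq_one.2 ?_
    rw [hρ]
    refine ((QuotientGroup.eq (s := N')).2 (mem_subgroupOf.2 ?_)).symm
    show (a : G)⁻¹ * (n * a * n⁻¹) ∈ N
    haveI : (L.map (QuotientGroup.mk' N)).Normal := hLn.map _ (QuotientGroup.mk'_surjective N)
    have hle : Nat.card (L.map (QuotientGroup.mk' N)) ≤ p := by
      have h1 := CfsgLib.MaxClassCube.card_map_mul_card_inf_ker' (QuotientGroup.mk' N) L
      rw [QuotientGroup.ker_mk', inf_eq_right.2 hNL] at h1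
      exact Nat.le_of_mul_le_mul_right (h1.trans_le hLc) Nat.card_pos
    have hcen := CfsgLib.MetacyclicOmega.le_center_of_card_le (hG.to_quotient N) _ hle
      (mem_map_of_mem (QuotientGroup.mk' N) (show (a : G) ∈ L from ha))
    rw [← QuotientGroup.eq_one_iff]
    show QuotientGroup.mk' N ((a : G)⁻¹ * (n * a * n⁻¹)) = 1
    rw [map_mul, map_mul, map_mul, map_inv, map_inv, mem_center_iff.1 hcen (QuotientGroup.mk' N n),
      mul_inv_cancel_right, inv_mul_cancel]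
  have hsyl : ∀ H : Subgroup (MulAut (A ⧸ N')), H ≤ P'.map ρ → IsPGroup p H → Nat.card H ≤ p := by
    intro H hH hHp
    have hP1 : IsPGroup p (P' ⊓ H.comap ρ : Subgroup X) := by
      intro y
      obtain ⟨k, hk⟩ := hHp ⟨ρ (y : X), y.2.2⟩
      have hk' : ρ ((y : X) ^ p ^ k) = 1 := by rw [map_pow]; exact congrArg Subtype.val hk
      obtain ⟨l, hl⟩ := hkerP ⟨(y : X) ^ p ^ k, P'.pow_mem y.2.1 _, hk'⟩
      refine ⟨k + l, Subtype.ext ?_⟩
      rw [SubmonoidClass.coe_pow, pow_add, pow_mul]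
      exact congrArg Subtype.val hl
    obtain ⟨φ, hφ, hle⟩ := h.exists_conj (hP1.map X.subtype) (map_subtype_le _)
    have h1 : H.map (MulAut.conj (ρ ⟨φ, hφ⟩)).toMonoidHom ≤ zpowers u := by
      rintro _ ⟨y, hy, rfl⟩
      obtain ⟨x, hx, rfl⟩ := hH hy
      obtain ⟨g, hg⟩ := hle x ⟨x, ⟨hx, hy⟩, rfl⟩
      have h2 : C g = ⟨φ, hφ⟩ * x * ⟨φ, hφ⟩⁻¹ := Subtype.ext hg
      show ρ ⟨φ, hφ⟩ * ρ x * (ρ ⟨φ, hφ⟩)⁻¹ ∈ zpowers u
      rw [← map_inv, ← map_mul, ← map_mul, ← h2]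
      exact hCu g
    rw [← card_map_of_injective (K := H) (f := (MulAut.conj (ρ ⟨φ, hφ⟩)).toMonoidHom) (MulAut.conj (ρ ⟨φ, hφ⟩)).injective]
    exact (Subgroup.card_le_of_le h1).trans (by rw [Nat.card_zpowers, hT.orderOf])
  have hu'P : ρ α * u * (ρ α)⁻¹ ∈ P'.map ρ :=
    ⟨α * C n * α⁻¹, hPn' α _ (hCP n), by rw [map_mul, map_mul, map_inv]⟩
  obtain ⟨tM, htM, htinv, -, htc, htinv'⟩ := exists_neg hM hsyl hT (hT.conj (ρ α)) huP hu'P hαu
  obtain ⟨t, htP, rfl⟩ := htM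
  have hk : ((t * C n * t⁻¹ * (C n)⁻¹ : X) : MulAut E) ∈ Cfsg.Inn E :=
    hKinn _ (P'.mul_mem (hPn' t _ (hCP n)) (inv_mem (hCP n))) (by
      rw [map_mul, map_mul, map_mul, map_inv, map_inv, ← hu, htc.eq, mul_inv_cancel_right, mul_inv_cancel])
  have hinnR : Cfsg.Inn E ≤ (MulAut.conjNormal (H := E)).range := h.inn_le_range
  have hinnC : ∀ (σ : MulAut E), ∀ y ∈ Cfsg.Inn E, σ * y * σ⁻¹ ∈ Cfsg.Inn E := by
    rintro σ _ ⟨c, rfl⟩
    refine ⟨σ c, MulEquiv.ext fun r => ?_⟩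
    simp only [MulAut.mul_apply, MulAut.conj_apply, map_mul, map_inv, MulAut.apply_inv_self]
  have hsub : (MulAut.conjNormal (H := E)).range.map (MulAut.conj (t : MulAut E)).toMonoidHom ≤
      (MulAut.conjNormal (H := E)).range := by
    rintro _ ⟨_, ⟨g, rfl⟩, rfl⟩
    show (t : MulAut E) * MulAut.conjNormal g * (t : MulAut E)⁻¹ ∈ _
    obtain ⟨a, e, he, rfl⟩ := h.decomp hn g
    rw [map_mul, map_zpow, show (t : MulAut E) * (MulAut.conjNormal n ^ a * MulAut.conjNormal e) * (t : MulAut E)⁻¹ =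
      ((t : MulAut E) * MulAut.conjNormal n * (t : MulAut E)⁻¹) ^ a *
        ((t : MulAut E) * MulAut.conjNormal e * (t : MulAut E)⁻¹) by rw [conj_zpow]; group]
    refine mul_mem (zpow_mem ?_ a) (hinnR (hinnC _ _ ⟨⟨e, he⟩, (MulAut.conjNormal_val (h := ⟨e, he⟩)).symm⟩))
    have h1 := mul_mem (hinnR hk) (⟨n, rfl⟩ : MulAut.conjNormal (H := E) n ∈ (MulAut.conjNormal (H := E)).range)
    simpa [C, cn] using h1
  have htN : (t : MulAut E) ∈ normalizer ((MulAut.conjNormal (H := E)).range : Set (MulAut E)) := by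
    have heq := eq_of_le_of_card_ge hsub (card_map_of_injective (MulAut.conj (t : MulAut E)).injective).ge
    refine mem_normalizer_iff.2 fun y => ⟨fun hy => heq.le ⟨y, hy, rfl⟩, fun hy => ?_⟩
    obtain ⟨z, hz, hzy⟩ := heq.ge hy
    exact (MulAut.conj (t : MulAut E)).injective hzy ▸ hz
  obtain ⟨β, hβ, hβt⟩ := h.ext t (hPX htP) htN
  have hout : ∀ {a : A} {v : A ⧸ N'}, QuotientGroup.mk' N' a = v → ρ t v = v⁻¹ → β (a : G) * a ∈ N := by
    rintro a _ rfl hinv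
    have h1 : (QuotientGroup.mk' N') (res t a * a) = 1 := by rw [map_mul, ← hρ, hinv, inv_mul_cancel]
    have h2 := hN'v.2 h1
    rw [Subgroup.coe_mul] at h2
    rw [show β (a : G) = ((t : MulAut E) ⟨a, hAE a.2⟩ : G) from hβt ⟨a, hAE a.2⟩]
    exact h2
  refine ⟨t, htP, β, hβ, hβt, fun a ha => ?_, ?_, fun hcA a ha => ?_⟩
  · have haL := hL a ha
    refine hout (a := ⟨⁅n, a⁆, hLA haL⟩) (v := QuotientGroup.mk' N' ⟨⁅n, a⁆, hLA haL⟩) rfl (htinv _ ?_)
    have h1 : QuotientGroup.mk' N' ⟨⁅n, a⁆, hLA haL⟩ = u (QuotientGroup.mk' N' ⟨a, ha⟩) * (QuotientGroup.mk' N' ⟨a, ha⟩)⁻¹ := by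
      rw [hρ, ← map_inv, ← map_mul]
      refine congrArg _ (Subtype.ext ?_)
      show ⁅n, a⁆ = n * a * n⁻¹ * a⁻¹
      rw [commutatorElement_def]
    rw [h1]
    exact ⟨QuotientGroup.mk' N' ⟨a, ha⟩, mul_comm _ _⟩
  · have h1 : MulAut.conjNormal (H := E) (β n) = (t : MulAut E) * MulAut.conjNormal n * (t : MulAut E)⁻¹ := by
      refine MulEquiv.ext fun r => Subtype.ext ?_
      rw [MulAut.mul_apply, MulAut.mul_apply, MulAut.conjNormal_apply, ← hβt, MulAut.conjNormal_apply, map_mul, map_mul,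
        map_inv, hβt, MulAut.apply_inv_self]
    have h2 : β n * n⁻¹ ∈ E := h.mem_of_inn (by
      rw [map_mul, map_inv, h1]
      simpa [C, cn] using hk)
    have h3 := (inferInstance : E.Normal).conj_mem _ h2 n⁻¹
    rw [inv_inv, mul_assoc n⁻¹ _ n, inv_mul_cancel_right] at h3
    exact h3
  · let I : Subgroup (A ⧸ N') :=
      { carrier := {v | ρ t v = v⁻¹}
        one_mem' := by simp
        mul_mem' := fun {v w} hv hw => by
          show ρ t (v * w) = (v * w)⁻¹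
          rw [map_mul, hv, hw, mul_inv]
        inv_mem' := fun {v} hv => by
          show ρ t v⁻¹ = v⁻¹⁻¹
          rw [map_inv, hv] }
    have hIr : (dlt u).range ≤ I := fun v hv => htinv v hv
    have hIlt : (dlt u).range < I := lt_of_le_of_ne hIr fun e => by
      refine not_range_le_ker hM hsyl hT (hT.conj (ρ α)) huP hu'P hαu fun v hv => ?_
      obtain ⟨r, hr⟩ := e.ge (show v ∈ I from htinv' v hv)
      rw [MonoidHom.mem_ker, ← hr]
      exact hT.fix r
    have hItop : I = ⊤ := by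
      refine eq_top_of_le_card _ ?_
      have h1 := CfsgLib.MaxClassCube.mul_card_le hM hIlt
      rw [hTc] at h1
      refine le_trans ?_ h1
      have h2 := Subgroup.card_eq_card_quotient_mul_card_subgroup N'
      rw [Nat.card_congr (subgroupOfEquivOfLe hNA).toEquiv] at h2
      rw [h2, pow_two] at hcA
      exact Nat.le_of_mul_le_mul_right hcA Nat.card_pos
    exact hout (a := ⟨a, ha⟩) rfl (hItop.ge (mem_top (QuotientGroup.mk' N' ⟨a, ha⟩)))

end CfsgLib.Fusion.IndexFamily
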