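import Cfsg.Agent.Lib.Fusion.System.RankThree.NormalFamily.PairLift
import Cfsg.Agent.Lib.Fusion.System.RankThree.NormalFamily.Main
import Mathlib.GroupTheory.PGroup

/-!
# Invariant pairs of pivots

Both members are abelian, or the group has the shape of a Sylow subgroup of `Sp₄(p)`, one member
being elementary abelian and the other nonabelian of exponent `p`, both of order `p ^ 3`.
-/

set_option autoImplicit false
set_option linter.style.haveILetI false
set_option linter.unusedSectionVars false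

open Subgroup
open scoped commutatorElement

namespace CfsgLib.Fusion.IndexFamily

open CfsgLib.Fusion.RankThree (InvE)

universe u

/-- The outcome for an invariant pair. -/
def PairType (p : ℕ) {G : Type u} [Group G] (E : Bool → Subgroup G) : Prop :=
  (∀ b, ∀ u ∈ E b, ∀ v ∈ E b, u * v = v * u) ∨
    ∃ b, Nat.card G = p ^ 4 ∧ Nat.card (E b) = p ^ 3 ∧ (∀ u ∈ E b, ∀ v ∈ E b, u * v = v * u) ∧
      (∀ u ∈ E b, u ^ p = 1) ∧ Nat.card (E (!b)) = p ^ 3 ∧ (∀ u ∈ E (!b), u ^ p = 1) ∧
      (¬ ∀ u ∈ E (!b), ∀ v ∈ E (!b), u * v = v * u) ∧ Shape p G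

variable {G : Type u} [Group G] [Finite G] {p : ℕ} [Fact p.Prime] {E : Bool → Subgroup G}
  [hn : ∀ b, (E b).Normal] {X : ∀ b, Subgroup (MulAut (E b))} {Γ : Subgroup (MulAut G)}

/-- A nonabelian member of order `p ^ 3` next to an elementary one has exponent `p`. -/
theorem Fam.exp_of_shape {I : Type*} {E : I → Subgroup G} [∀ i, (E i).Normal] {X : ∀ i, Subgroup (MulAut (E i))}
    (h : Fam p E X Γ) {i k : I} {z : G} (hz : z ∈ omz p (E i)) (hzk : z ∉ E k) (h3 : Nat.card (E k) = p ^ 3)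
    (hel : ∀ c ∈ center G, c ^ p = 1) : ∀ u ∈ E k, u ^ p = 1 := by
  have hp := (Fact.out : p.Prime)
  obtain ⟨α, hα, e, w, hw, hax, -, hwp, hwp'⟩ := h.exists_axis hz hzk
  set D : Subgroup G := E k ⊓ E i ⊓ img α (E k ⊓ E i) with hD
  haveI : D.Normal := CfsgLib.Schur.normal_le_center hax.central
  have hDk : D ≤ E k := inf_le_left.trans inf_le_left
  have hcD : Nat.card D = p := by
    have h1 := hax.card
    rw [h3, show p ^ 3 = p * p * p by ring] at h1
    exact (Nat.eq_of_mul_eq_mul_left (mul_pos hp.pos hp.pos) h1).symm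
  set w' : G := (α ⟨w, hw⟩ : G) with hw'
  have hcomm : ∀ {a b : G}, a ∈ E k → b ∈ E k → ⁅a, b⁆ ∈ D := fun {a b} ha hb => by
    have hc : Nat.card ((E k).map (QuotientGroup.mk' D)) = p ^ 2 := by
      have h1 := CfsgLib.MaxClassCube.card_map_mul_card_inf_ker' (QuotientGroup.mk' D) (E k)
      rw [QuotientGroup.ker_mk', inf_eq_right.2 hDk, h3, hcD, show p ^ 3 = p ^ 2 * p by ring] at h1
      exact Nat.eq_of_mul_eq_mul_right hp.pos h1
    refine (QuotientGroup.eq_one_iff _).1 ?_
    show QuotientGroup.mk' D ⁅a, b⁆ = 1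
    rw [map_commutatorElement, commutatorElement_eq_one_iff_mul_comm]
    exact congrArg Subtype.val ((IsPGroup.isMulCommutative_of_card_eq_prime_sq hc).is_comm.comm
      (⟨_, mem_map_of_mem _ ha⟩ : (E k).map (QuotientGroup.mk' D)) ⟨_, mem_map_of_mem _ hb⟩)
  intro u hu
  obtain ⟨s, j, d, hd, rfl⟩ := hax.dec u hu
  have hc := hcomm ((E k).zpow_mem (α ⟨w, hw⟩).2 j) ((E k).zpow_mem hw s)
  have hcen : ∀ y, Commute y ⁅w' ^ j, w ^ s⁆ := fun y => mem_center_iff.1 (hax.central hc) y
  rw [(show Commute (w ^ s * w' ^ j) d from mem_center_iff.1 (hax.central hd) _).mul_pow, hel d (hax.central hd), mul_one,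
    mul_pow_odd (h.piv i).odd (hcen _) (hcen _) (hel _ (hax.central hc)), ← zpow_natCast (w ^ s), ← zpow_mul, mul_comm s,
    zpow_mul, zpow_natCast, hwp, one_zpow, one_mul, ← zpow_natCast (w' ^ j), ← zpow_mul, mul_comm, zpow_mul,
    zpow_natCast, hwp', one_zpow]

/-- Reduction to a common central subgroup. -/
theorem InvPair.central_or_type (h : InvPair p E X Γ) :
    PairType p E ∨ CentralCommon E X Γ := by
  have hp := (Fact.out : p.Prime)
  have hF := h.fam
  by_cases hall : ∀ i j, omz p (E i) ≤ E j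
  · rcases hF.commuting_cases hall true with hc | ⟨j, hmov, -, -, hinv⟩ | ⟨i, k, U, hP⟩
    · exact Or.inr hc
    · exfalso
      refine (h.piv j).hyperplane_moved (h.piv (!j)) (h.ne j) (fun γ hγ r hr => h.fix γ hγ j r hr)
        (fun γ hγ r hr => h.fix γ hγ (!j) r hr) fun α hα r hr => ⟨?_, (α r).2⟩
      obtain ⟨z, hz, hznc⟩ := hF.exists_noncentral hmov
      obtain ⟨s, hs⟩ : ∃ s, α s = ⟨z, hall j (!j) hz⟩ := α.surjective _
      have hsQ : (s : G) ∈ omz p (E j) := by
        have h1 := hinv (!j) α⁻¹ ((X (!j)).inv_mem hα) ⟨z, hall j (!j) hz⟩ hz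
        rwa [← hs, MulAut.inv_apply_self] at h1
      refine (h.piv j).mem_of_commute hz hznc ?_
      have h2 : s * r = r * s := Subtype.ext (hsQ.2.1 r hr.1)
      have h3 := congrArg (fun y : E (!j) => (y : G)) (congrArg α h2)
      simp only [map_mul, hs, Subgroup.coe_mul] at h3
      exact h3
    · exact (hF.planes_false hP).elim
  · push Not at hall
    obtain ⟨i, j, hij⟩ := hall
    obtain ⟨z, hz, hzk⟩ := SetLike.not_le_iff_exists.1 hij
    have hji : j = !i := by
      cases i <;> cases j <;> first | rfl | exact (hzk hz.1).elim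
    subst hji
    rcases hF.small_or_cube hz hzk with hc | h3 | ⟨h4, hel, hc3, habi, hexpi⟩
    · exact Or.inr hc
    · refine Or.inl (Or.inl fun b u hu v hv => ?_)
      have hc : Nat.card (E b) = p ^ 2 :=
        Nat.eq_of_mul_eq_mul_left hp.pos (by rw [← (h.piv b).index, h3]; ring)
      exact congrArg Subtype.val
        ((IsPGroup.isMulCommutative_of_card_eq_prime_sq hc).is_comm.comm (⟨u, hu⟩ : E b) ⟨v, hv⟩)
    by_cases habk : ∀ u ∈ E (!i), ∀ v ∈ E (!i), u * v = v * u
    · refine Or.inl (Or.inl fun b => ?_)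
      rcases (show b = i ∨ b = !i by cases b <;> cases i <;> simp) with rfl | rfl
      exacts [habi, habk]
    exact Or.inl (Or.inr ⟨i, h4, hc3 i, habi, hexpi, hc3 (!i), hF.exp_of_shape hz hzk (hc3 (!i)) hel, habk,
      hF.shape hz hzk ⟨h4, hel, hc3, habi, hexpi⟩ habk⟩)

/-- The structure of an invariant pair. -/
theorem InvPair.pairType {G : Type u} [Group G] [Finite G] {E : Bool → Subgroup G} [∀ b, (E b).Normal]
    {X : ∀ b, Subgroup (MulAut (E b))} {Γ : Subgroup (MulAut G)} (h : InvPair p E X Γ) : PairType p E := by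
  suffices H : ∀ (n : ℕ) (G : Type u) [Group G] [Finite G], Nat.card G = n → ∀ (E : Bool → Subgroup G)
      [∀ b, (E b).Normal] (X : ∀ b, Subgroup (MulAut (E b))) (Γ : Subgroup (MulAut G)),
      InvPair p E X Γ → PairType p E from H _ G rfl E X Γ h
  clear h
  intro n
  induction n using Nat.strong_induction_on with
  | _ n ih =>
  intro G _ _ hnc E _ X Γ h
  have hp := (Fact.out : p.Prime)
  rcases h.central_or_type with ht | ⟨Q, hQc, hQ1, hQΓ, hQE⟩
  · exact ht
  have hG := (h.piv true).pgroup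
  set W : Subgroup G := Q ⊓ omz p (⊤ : Subgroup G) with hW
  have hWc : W ≤ center G := inf_le_left.trans hQc
  haveI : W.Normal := CfsgLib.Schur.normal_le_center hWc
  have hWp : ∀ w ∈ W, w ^ p = 1 := fun w hw => hw.2.2.2
  have hWΓ : ∀ γ ∈ Γ, ∀ w ∈ W, γ w ∈ W := fun γ hγ w hw => ⟨hQΓ γ hγ w hw.1, omz_top_apply γ hw.2⟩
  have hWX : ∀ b, InvE (X b) W := fun b α hα r hr => by
    have h1 := (hQE b).2 α hα r hr.1
    refine ⟨h1, mem_top _, fun e _ => (mem_center_iff.1 (hQc h1) e).symm, ?_⟩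
    have h2 : r ^ p = 1 := Subtype.ext (hWp _ hr)
    rw [← Subgroup.coe_pow, ← map_pow, h2, map_one, Subgroup.coe_one]
  have hW1 : W ≠ ⊥ := by
    intro hb
    obtain ⟨q, hq, hq1⟩ : ∃ q ∈ Q, q ≠ 1 := by
      by_contra hcon
      push Not at hcon
      exact hQ1 ((eq_bot_iff_forall Q).2 hcon)
    haveI : Nontrivial Q := ⟨⟨⟨q, hq⟩, 1, fun e => hq1 (congrArg Subtype.val e)⟩⟩
    obtain ⟨k, hk, hk'⟩ := (hG.to_subgroup Q).nontrivial_iff_card.1 inferInstance
    obtain ⟨c, hc⟩ := exists_prime_orderOf_dvd_card' (G := Q) p (hk' ▸ dvd_pow_self p hk.ne')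
    have hcW : (c : G) ∈ W := ⟨c.2, mem_top _, fun e _ => (mem_center_iff.1 (hQc c.2) e).symm, by
      rw [← Subgroup.coe_pow, ← hc, pow_orderOf_eq_one, Subgroup.coe_one]⟩
    rw [hb, mem_bot] at hcW
    rw [show c = 1 from Subtype.ext hcW, orderOf_one] at hc
    exact hp.ne_one hc.symm
  have hcard := Subgroup.card_eq_card_quotient_mul_card_subgroup W
  have hlt : Nat.card (G ⧸ W) < n := by
    have h1 := CfsgLib.MaxClassCube.mul_card_le hG (bot_lt_iff_ne_bot.2 hW1)
    rw [card_bot, mul_one] at h1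
    rw [← hnc, hcard]
    exact lt_mul_of_one_lt_right Nat.card_pos (lt_of_lt_of_le hp.one_lt h1)
  set π := QuotientGroup.mk' W with hπ
  rcases ih _ hlt (G ⧸ W) rfl _ _ _ (h.quotient hWc hWX hWΓ) with hab | ⟨b, hb4, -, habb, hexpb, -, -, hnab, -⟩
  · refine Or.inl (h.abelian_of_quot hWc hWp hWX fun b u hu v hv => ?_)
    refine (QuotientGroup.eq_one_iff _).1 ?_
    show π ⁅u, v⁆ = 1
    rw [map_commutatorElement, commutatorElement_eq_one_iff_mul_comm]
    exact hab b _ (mem_map_of_mem π hu) _ (mem_map_of_mem π hv)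
  · exfalso
    refine h.false_of_quot_shape hWc hWp hWX hW1 (b := b) (by rw [hcard, hb4]) (fun u hu v hv => ?_)
      (fun u hu => ?_) fun hcon => hnab ?_
    · refine (QuotientGroup.eq_one_iff _).1 ?_
      show π ⁅u, v⁆ = 1
      rw [map_commutatorElement, commutatorElement_eq_one_iff_mul_comm]
      exact habb _ (mem_map_of_mem π hu) _ (mem_map_of_mem π hv)
    · refine (QuotientGroup.eq_one_iff _).1 ?_
      show π (u ^ p) = 1
      rw [map_pow]
      exact hexpb _ (mem_map_of_mem π hu)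
    · rintro _ ⟨u, hu, rfl⟩ _ ⟨v, hv, rfl⟩
      rw [← commutatorElement_eq_one_iff_mul_comm, ← map_commutatorElement]
      exact (QuotientGroup.eq_one_iff _).2 (hcon u hu v hv)

end CfsgLib.Fusion.IndexFamily
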