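import Cfsg.Agent.Lib.Fusion.System.RankThree.NormalFamily.CentralQuotient
import Cfsg.Agent.Lib.Fusion.System.RankThree.NormalFamily.Flat

/-!
# Lifting the structure of an invariant pair over a common central subgroup

If both members are abelian modulo a common central subgroup they are abelian; and the shape of a
Sylow subgroup of `Sp₄(p)` does not lift.
-/

set_option autoImplicit false
set_option linter.style.haveILetI false
set_option linter.unusedSectionVars false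

open Subgroup
open scoped commutatorElement

namespace CfsgLib.Fusion.IndexFamily

open CfsgLib.Fusion.RankThree (InvE)

universe u

variable {G : Type u} [Group G] [Finite G] {p : ℕ} [Fact p.Prime]

/-- A commutator in the centre is unchanged by central factors. -/
theorem comm_mul_central {H : Type u} [Group H] {a b c d : H} (hc : ∀ y, Commute c y) (hd : ∀ y, Commute d y) :
    ⁅a * c, b * d⁆ = ⁅a, b⁆ := by
  simp only [commutatorElement_def, mul_inv_rev]
  rw [show a * c * (b * d) * (c⁻¹ * a⁻¹) * (d⁻¹ * b⁻¹) = a * (c * (b * d) * c⁻¹) * a⁻¹ * (d⁻¹ * b⁻¹) by group,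
    (hc (b * d)).eq, mul_inv_cancel_right,
    show a * (b * d) * a⁻¹ * (d⁻¹ * b⁻¹) = a * b * (d * a⁻¹ * d⁻¹) * b⁻¹ by group, (hd a⁻¹).eq, mul_inv_cancel_right]

/-- A central commutator with one inverse. -/
theorem comm_inv_right {H : Type u} [Group H] {a b : H} (h : Commute b ⁅a, b⁆) : ⁅a, b⁻¹⁆ = ⁅a, b⁆⁻¹ := by
  rw [show ⁅a, b⁻¹⁆ = b⁻¹ * ⁅a, b⁆⁻¹ * b by simp only [commutatorElement_def]; group,
    h.inv_right.inv_left.eq, inv_mul_cancel_right]

variable {E : Bool → Subgroup G} [hn : ∀ b, (E b).Normal] {X : ∀ b, Subgroup (MulAut (E b))}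
  {Γ : Subgroup (MulAut G)} {W : Subgroup G} [W.Normal]
  (h : InvPair p E X Γ) (hWc : W ≤ center G) (hWp : ∀ w ∈ W, w ^ p = 1) (hWX : ∀ b, InvE (X b) W)
include h hWc hWp hWX

omit hWc hWp hWX in
theorem InvPair.not_le (b : Bool) : ¬ E b ≤ E (!b) := fun hle =>
  h.ne b (eq_of_le_of_card_ge hle (le_of_eq (Nat.eq_of_mul_eq_mul_left (Fact.out : p.Prime).pos
    ((h.piv (!b)).index.symm.trans (h.piv b).index))))

/-- Modulo a central subgroup abelian members: a commutator commutes with one of its factors. -/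
theorem InvPair.comm_commute (hab : ∀ b, ∀ u ∈ E b, ∀ v ∈ E b, ⁅u, v⁆ ∈ W)
    (hDab : ∀ u ∈ E true ⊓ E false, ∀ v ∈ E true ⊓ E false, u * v = v * u) {b : Bool} {g x : G}
    (hg : g ∈ E b) (hg' : g ∉ E (!b)) (hx : x ∈ E (!b)) (hx' : x ∉ E b) : Commute x ⁅x, g⁆ := by
  have hG := (h.piv b).pgroup
  have hp := (Fact.out : p.Prime)
  have hWE : W ≤ E b := hWc.trans (h.piv b).center_le
  set π := QuotientGroup.mk' W with hπ
  have hmemD : ∀ {d}, d ∈ E b → d ∈ E (!b) → d ∈ E true ⊓ E false := fun {d} h1 h2 => by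
    cases b
    · exact ⟨h2, h1⟩
    · exact ⟨h1, h2⟩
  have hcen : ∀ d ∈ E b, d ∈ E (!b) → ∀ y, Commute (π y) (π d) := fun d hd hd' y => by
    rw [← commutatorElement_eq_one_iff_commute]
    obtain ⟨i, e, he, rfl⟩ := (h.piv b).decomp hx' y
    rw [commutatorElement_eq_one_iff_commute, map_mul, map_zpow]
    refine (Commute.zpow_left ?_ i).mul_left ?_ <;>
      rw [← commutatorElement_eq_one_iff_commute, ← map_commutatorElement] <;>
      refine (QuotientGroup.eq_one_iff _).2 ?_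
    · exact hab (!b) x hx d hd'
    · exact hab b e he d hd
  set w := ⁅x, g⁆ with hw
  have hwb : w ∈ E b := (h.piv b).comm_mem x g
  have hwb' : w ∈ E (!b) := (h.piv (!b)).comm_mem x g
  set L : Subgroup G := zpowers w ⊔ W with hL
  have hLm : ∀ l ∈ L, ∀ y, y * l * y⁻¹ ∈ L := fun l hl y => by
    have hl' : l ∈ E b ∧ l ∈ E (!b) := (sup_le (zpowers_le.2 (show w ∈ E b ⊓ E (!b) from ⟨hwb, hwb'⟩))
      (le_inf hWE (hWc.trans (h.piv (!b)).center_le)) hl : l ∈ E b ⊓ E (!b))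
    have h1 : (y * l * y⁻¹) * l⁻¹ ∈ W := by
      refine (QuotientGroup.eq_one_iff _).1 ?_
      show π (y * l * y⁻¹ * l⁻¹) = 1
      rw [map_mul, map_mul, map_mul, map_inv, map_inv, (hcen l hl'.1 hl'.2 y).eq, mul_inv_cancel_right,
        mul_inv_cancel]
    simpa using mul_mem ((le_sup_right : W ≤ L) h1) hl
  haveI hLn : L.Normal := ⟨hLm⟩
  have hwW : w ^ p ∈ W := by
    refine (QuotientGroup.eq_one_iff _).1 ?_
    show π (w ^ p) = 1
    have e1 : π g * (π x) ^ p = (π x) ^ p * π g := by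
      rw [← map_pow]
      exact hcen (x ^ p) ((h.piv b).pow_mem x) (pow_mem hx p) g
    have hc : ∀ y, Commute y (π w) := fun y => by
      obtain ⟨y, rfl⟩ := QuotientGroup.mk'_surjective W y
      exact hcen w hwb hwb' y
    have e2 : π g * π x * (π g)⁻¹ = (π w)⁻¹ * π x := by
      rw [hw, map_commutatorElement, commutatorElement_def]; group
    have e3 : ((π w)⁻¹ * π x) ^ p = (π x) ^ p := by rw [← e2, conj_pow, e1, mul_inv_cancel_right]
    rw [(hc (π x)).symm.inv_left.mul_pow, mul_eq_right, inv_pow, inv_eq_one] at e3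
    rw [map_pow]
    exact e3
  have hLc : Nat.card L ≤ p * Nat.card W := by
    have h1 := CfsgLib.MaxClassCube.card_map_mul_card_inf_ker' π L
    rw [hπ, QuotientGroup.ker_mk', inf_eq_right.2 le_sup_right] at h1
    rw [← h1]
    refine Nat.mul_le_mul_right _ ?_
    rw [Subgroup.map_sup, MonoidHom.map_zpowers, QuotientGroup.map_mk'_self, sup_bot_eq, Nat.card_zpowers]
    exact orderOf_le_of_pow_eq_one hp.pos (by rw [← map_pow]; exact (QuotientGroup.eq_one_iff _).2 hwW)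
  have hLx : ∀ a ∈ E b, ⁅x, a⁆ ∈ L := fun a ha => by
    obtain ⟨m, d, hd, rfl⟩ := (h.piv (!b)).decomp hg' a
    have hdb : d ∈ E b := by simpa using mul_mem (inv_mem (zpow_mem hg m)) ha
    have h1 : (w ^ m)⁻¹ * ⁅x, g ^ m * d⁆ ∈ W := by
      refine (QuotientGroup.eq_one_iff _).1 ?_
      show π ((w ^ m)⁻¹ * ⁅x, g ^ m * d⁆) = 1
      have e0 : Commute (π g) ⁅π x, π g⁆ := by rw [← map_commutatorElement]; exact hcen w hwb hwb' g
      rw [map_mul, map_inv, map_zpow, map_commutatorElement π x (g ^ m * d), map_mul, map_zpow,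
        show ⁅π x, π g ^ m * π d⁆ = ⁅π x, π g ^ m⁆ by
          have := comm_mul_central (a := π x) (b := π g ^ m) (c := 1) (d := π d) (fun y => Commute.one_left y)
            (fun y => by obtain ⟨y, rfl⟩ := QuotientGroup.mk'_surjective W y; exact (hcen d hdb hd y).symm)
          rwa [mul_one] at this,
        comm_zpow_of_comm e0.symm, hw, map_commutatorElement, inv_mul_cancel]
    simpa using mul_mem (zpow_mem ((le_sup_left : zpowers w ≤ L) (mem_zpowers w)) m) ((le_sup_right : W ≤ L) h1)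
  obtain ⟨t, ht, β, hβ, hβt, hinv, hβx, -⟩ := (h.piv b).exists_neg_elem hx' (A := E b) (N := W) (L := L)
    le_rfl hWE le_sup_right (sup_le (zpowers_le.2 hwb) hWE) (fun α _ r _ => (α r).2) (hWX b)
    (fun u hu e he => hab b e he u hu) hLx hLc (P := X b ⊓ fixOn W (E b)) inf_le_left
    (fun α hα y hy => ⟨(X b).mul_mem ((X b).mul_mem hα hy.1) ((X b).inv_mem hα), fixOn_conj (hWX b) hα hy.2⟩)
    (le_inf (h.piv b).qle (range_le_fixOn hWc))
    (fun Y hY htriv => isPGroup_fix_trivMod hG (fun σ hσ => (hY hσ).2) fun σ hσ r => htriv σ hσ r r.2)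
  set c := ⁅x, w⁆ with hc
  have hcW : c ∈ W := hab (!b) x hx w hwb'
  have hcfix : β c = c := by
    rw [show β c = ((t ⟨c, hWE hcW⟩ : E b) : G) from hβt ⟨c, hWE hcW⟩, ht.2 ⟨c, hWE hcW⟩ hcW]
  obtain ⟨d, hd⟩ : ∃ d, d = x⁻¹ * β x := ⟨_, rfl⟩
  have hdD : d ∈ E true ⊓ E false := hmemD (hd ▸ hβx)
    (hd ▸ mul_mem (inv_mem hx) (h.fix β hβ (!b) x hx))
  obtain ⟨f, hf⟩ : ∃ f, f = β w * w := ⟨_, rfl⟩
  have hfW : f ∈ W := hf ▸ hinv g hg
  have hcc : c = c⁻¹ := by
    nth_rw 1 [← hcfix]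
    rw [hc, map_commutatorElement, show β x = x * d by rw [hd]; group, show β w = f * w⁻¹ by rw [hf]; group,
      ← (show Commute w⁻¹ f from mem_center_iff.1 (hWc hfW) _).eq]
    have e1 := comm_mul_central (a := x * d) (b := w⁻¹) (c := 1) (d := f) (fun y => Commute.one_left y)
      (fun y => (show Commute y f from mem_center_iff.1 (hWc hfW) y).symm)
    rw [mul_one] at e1
    rw [e1, show ⁅x * d, w⁻¹⁆ = x * ⁅d, w⁻¹⁆ * x⁻¹ * ⁅x, w⁻¹⁆ by simp only [commutatorElement_def]; group,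
      commutatorElement_eq_one_iff_commute.2 (show Commute d w from hDab d hdD w (hmemD hwb hwb')).inv_right, mul_one,
      mul_inv_cancel, one_mul, comm_inv_right (show Commute w ⁅x, w⁆ from mem_center_iff.1 (hWc hcW) w)]
  have h1 : c = 1 := eq_one_of_inv_eq hG (h.piv b).odd hcc.symm
  exact commutatorElement_eq_one_iff_commute.1 h1

/-- Members abelian modulo a common central subgroup are abelian. -/
theorem InvPair.abelian_of_quot (hab : ∀ b, ∀ u ∈ E b, ∀ v ∈ E b, ⁅u, v⁆ ∈ W) :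
    ∀ b, ∀ u ∈ E b, ∀ v ∈ E b, u * v = v * u := by
  have hp := (Fact.out : p.Prime)
  have hG := (h.piv true).pgroup
  haveI := h.fam
  set D : Subgroup G := E true ⊓ E false with hD
  have hWD : W ≤ D := le_inf (hWc.trans (h.piv true).center_le) (hWc.trans (h.piv false).center_le)
  have hmemD : ∀ b {d}, d ∈ E b → d ∈ E (!b) → d ∈ D := fun b {d} h1 h2 => by
    cases b
    · exact ⟨h2, h1⟩
    · exact ⟨h1, h2⟩
  have hofD : ∀ b {d}, d ∈ D → d ∈ E b := fun b {d} h1 => by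
    cases b
    · exact h1.2
    · exact h1.1
  obtain ⟨g, hg, hg'⟩ := SetLike.not_le_iff_exists.1 (h.not_le true)
  obtain ⟨x, hx, hx'⟩ := SetLike.not_le_iff_exists.1 (h.not_le false)
  have hmove : ∀ y, ∀ d ∈ D, ⁅y, d⁆ ∈ W := fun y d hd => by
    obtain ⟨i, e, he, rfl⟩ := (h.piv false).decomp hg' y
    rw [← QuotientGroup.eq_one_iff]
    show QuotientGroup.mk' W ⁅g ^ i * e, d⁆ = 1
    rw [map_commutatorElement, commutatorElement_eq_one_iff_commute, map_mul, map_zpow]
    refine (Commute.zpow_left ?_ i).mul_left ?_ <;>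
      rw [← commutatorElement_eq_one_iff_commute, ← map_commutatorElement] <;>
      refine (QuotientGroup.eq_one_iff _).2 ?_
    · exact hab true g hg d hd.1
    · exact hab false e he d hd.2
  have hconj : ∀ y, ∀ d ∈ D, ∃ c ∈ W, d * y * d⁻¹ = y * c := fun y d hd =>
    ⟨⁅y⁻¹, d⁆, hmove _ d hd, by rw [commutatorElement_def]; group⟩
  -- commutators and powers centralize `D`
  have hcomD : ∀ y z : G, ∀ d ∈ D, Commute d ⁅y, z⁆ := fun y z d hd => by
    obtain ⟨c, hc, e1⟩ := hconj y d hd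
    obtain ⟨c', hc', e2⟩ := hconj z d hd
    have e3 : d * ⁅y, z⁆ * d⁻¹ = ⁅d * y * d⁻¹, d * z * d⁻¹⁆ := by simp only [commutatorElement_def]; group
    rw [e1, e2, comm_mul_central (fun v => (show Commute v c from mem_center_iff.1 (hWc hc) v).symm)
      (fun v => (show Commute v c' from mem_center_iff.1 (hWc hc') v).symm), mul_inv_eq_iff_eq_mul] at e3
    exact e3
  have hpowD : ∀ y : G, ∀ d ∈ D, Commute d (y ^ p) := fun y d hd => by
    obtain ⟨c, hc, e1⟩ := hconj y d hd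
    have e2 : (d * y * d⁻¹) ^ p = y ^ p := by
      rw [e1, (show Commute y c from mem_center_iff.1 (hWc hc) y).mul_pow, hWp c hc, mul_one]
    rw [conj_pow, mul_inv_eq_iff_eq_mul] at e2
    exact e2
  -- `D` is abelian
  have hDab : ∀ u ∈ D, ∀ v ∈ D, u * v = v * u := by
    let Z : Subgroup G :=
      { carrier := {z | z ∈ D ∧ ∀ d ∈ D, Commute d z}
        one_mem' := ⟨D.one_mem, fun d _ => Commute.one_right d⟩
        mul_mem' := fun {a b} ha hb => ⟨D.mul_mem ha.1 hb.1, fun d hd => (ha.2 d hd).mul_right (hb.2 d hd)⟩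
        inv_mem' := fun {a} ha => ⟨D.inv_mem ha.1, fun d hd => (ha.2 d hd).inv_right⟩ }
    have hZD : Z ≤ D := fun z hz => hz.1
    haveI hZn : Z.Normal := ⟨fun z hz y => by
      refine ⟨(inferInstance : D.Normal).conj_mem z hz.1 y, fun d hd => ?_⟩
      have hd' : y⁻¹ * d * y ∈ D := by simpa using (inferInstance : D.Normal).conj_mem d hd y⁻¹
      have h1 := hz.2 _ hd'
      show d * (y * z * y⁻¹) = y * z * y⁻¹ * d
      calc d * (y * z * y⁻¹) = y * ((y⁻¹ * d * y) * z) * y⁻¹ := by group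
        _ = y * (z * (y⁻¹ * d * y)) * y⁻¹ := by rw [h1.eq]
        _ = _ := by group⟩
    intro u hu v hv
    by_cases huZ : u ∈ Z
    · exact (huZ.2 v hv).symm.eq
    have hq : Nat.card (G ⧸ Z) ≤ p ^ 3 := by
      have h1 := CfsgLib.Fusion.RankThree.card_le_of_section (h.piv true).rank Z ⊤ (fun a _ b _ => by
        obtain ⟨a, rfl⟩ := QuotientGroup.mk'_surjective Z a
        obtain ⟨b, rfl⟩ := QuotientGroup.mk'_surjective Z b
        rw [← commutatorElement_eq_one_iff_mul_comm, ← map_commutatorElement]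
        exact (QuotientGroup.eq_one_iff _).2 ⟨hmemD true ((h.piv true).comm_mem a b) ((h.piv false).comm_mem a b),
          fun d hd => hcomD a b d hd⟩) fun a _ => by
        obtain ⟨a, rfl⟩ := QuotientGroup.mk'_surjective Z a
        rw [← map_pow]
        exact (QuotientGroup.eq_one_iff _).2 ⟨hmemD true ((h.piv true).pow_mem a) ((h.piv false).pow_mem a),
          fun d hd => hpowD a d hd⟩
      rwa [Subgroup.card_top] at h1
    have hle : Nat.card D ≤ p * Nat.card Z := by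
      have h1 := Subgroup.card_eq_card_quotient_mul_card_subgroup Z
      have h2 : Nat.card (E true) = p * Nat.card D := h.fam.card_inf (h.ne true).symm.symm
      rw [(h.piv true).index, h2] at h1
      have h3 : p ^ 2 * Nat.card D ≤ p ^ 2 * (p * Nat.card Z) := by
        calc p ^ 2 * Nat.card D = Nat.card (G ⧸ Z) * Nat.card Z := by rw [← h1]; ring
          _ ≤ p ^ 3 * Nat.card Z := Nat.mul_le_mul_right _ hq
          _ = _ := by ring
      exact Nat.le_of_mul_le_mul_left h3 (pow_pos hp.pos 2)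
    obtain ⟨k, hk⟩ := CfsgLib.Fusion.RankThree.exists_zpow_inv_mul_mem hG hZD
      (le_antisymm hle (CfsgLib.MaxClassCube.mul_card_le hG (lt_of_le_of_ne hZD fun e => huZ (e.ge hu)))) hu huZ hv
    rw [show v = u ^ k * ((u ^ k)⁻¹ * v) by group]
    exact (((Commute.refl u).zpow_right k).mul_right (hk.2 u hu)).eq
  -- the commutator of `g` and `x` is central
  have hwc : ∀ y, Commute y ⁅x, g⁆ := fun y => by
    have hxw : Commute x ⁅x, g⁆ := h.comm_commute hWc hWp hWX hab hDab (b := true) hg hg' hx hx'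
    have hgw : Commute g ⁅g, x⁆ := h.comm_commute hWc hWp hWX hab hDab (b := false) hx hx' hg hg'
    rw [← commutatorElement_inv x g, Commute.inv_right_iff] at hgw
    obtain ⟨i, e, he, rfl⟩ := (h.piv false).decomp hg' y
    refine (hgw.zpow_left i).mul_left ?_
    obtain ⟨j, d, hd, rfl⟩ := (h.piv true).decomp hx' e
    refine (hxw.zpow_left j).mul_left (hcomD x g d ⟨hd, ?_⟩)
    simpa using mul_mem (inv_mem (zpow_mem hx j)) he
  intro b
  by_cases hZ : ∃ z ∈ E b, z ∉ E (!b) ∧ ∀ e ∈ E b, Commute z e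
  · obtain ⟨z, hz, hz', hzc⟩ := hZ
    intro u hu v hv
    obtain ⟨i, d, hd, rfl⟩ := (h.piv (!b)).decomp hz' u
    obtain ⟨j, d', hd', rfl⟩ := (h.piv (!b)).decomp hz' v
    have hdb : d ∈ E b := by simpa using mul_mem (inv_mem (zpow_mem hz i)) hu
    have hdb' : d' ∈ E b := by simpa using mul_mem (inv_mem (zpow_mem hz j)) hv
    exact ((((Commute.refl z).zpow_zpow i j).mul_right ((hzc d' hdb').zpow_left i)).mul_left
      (((hzc d hdb).zpow_left j).symm.mul_right (hDab d (hmemD b hdb hd) d' (hmemD b hdb' hd')))).eq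
  exfalso
  push Not at hZ
  -- the stabilizer of `W`, the centre and the member contains the conjugations
  obtain ⟨n, hn', hn⟩ := SetLike.not_le_iff_exists.1 (show ¬ E (!b) ≤ E b by simpa using h.not_le (!b))
  set A : Subgroup (E b) := W.subgroupOf (E b) with hA
  set C : Subgroup (E b) := center (E b) with hC
  have hAC : A ≤ C := fun a ha => mem_center_iff.2 fun e => Subtype.ext (mem_center_iff.1 (hWc (mem_subgroupOf.1 ha)) e)
  have hCD : ∀ {c : E b}, c ∈ C → (c : G) ∈ D := fun {c} hc => by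
    refine hmemD b c.2 ?_
    by_contra hcon
    obtain ⟨e, he, hne⟩ := hZ c c.2 hcon
    exact hne (show Commute (c : G) e from congrArg Subtype.val (mem_center_iff.1 hc ⟨e, he⟩).symm)
  have hYn : ∀ α ∈ X b, ∀ y ∈ X b ⊓ chainStab A C hAC, α * y * α⁻¹ ∈ X b ⊓ chainStab A C hAC := by
    rintro α hα y ⟨hy, y1, y2, y3⟩
    have hAi : ∀ {γ : MulAut (E b)}, γ ∈ X b → ∀ a ∈ A, γ a ∈ A := fun hγ a ha =>
      mem_subgroupOf.2 (hWX b _ hγ a (mem_subgroupOf.1 ha))
    have hCi : ∀ γ : MulAut (E b), ∀ c ∈ C, γ c ∈ C := fun γ c hc => mem_center_iff.2 fun e => by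
      obtain ⟨e', rfl⟩ := γ.surjective e
      rw [← map_mul, ← map_mul, mem_center_iff.1 hc e']
    refine ⟨(X b).mul_mem ((X b).mul_mem hα hy) ((X b).inv_mem hα), fun a ha => ?_, fun c hc => ?_, fun v => ?_⟩
    · rw [MulAut.mul_apply, MulAut.mul_apply, y1 _ (hAi ((X b).inv_mem hα) a ha), MulAut.apply_inv_self]
    · have h1 := hAi hα _ (y2 _ (hCi α⁻¹ c hc))
      rwa [map_mul, map_inv, MulAut.apply_inv_self] at h1
    · have h1 := hCi α _ (y3 (α⁻¹ v))
      rwa [map_mul, map_inv, MulAut.apply_inv_self] at h1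
  refine hn ((h.piv b).mem_of_inn ((h.piv b).core (X b ⊓ chainStab A C hAC) inf_le_left hYn
    ((isPGroup_chainStab (hG.to_subgroup (E b)) A C hAC).to_le inf_le_right)
    ⟨(h.piv b).qle ⟨n, rfl⟩, fun a ha => range_le_fixOn hWc ⟨n, rfl⟩ a (mem_subgroupOf.1 ha), fun c hc => ?_, fun r => ?_⟩))
  · refine mem_subgroupOf.2 ?_
    show (c : G)⁻¹ * (n * c * n⁻¹) ∈ W
    rw [show (c : G)⁻¹ * (n * c * n⁻¹) = (c : G)⁻¹ * ⁅n, (c : G)⁆ * (c : G)⁻¹⁻¹ by rw [commutatorElement_def]; group]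
    exact (inferInstance : W.Normal).conj_mem _ (hmove n c (hCD hc)) _
  · refine mem_center_iff.2 fun e => Subtype.ext ?_
    show (e : G) * ((r : G)⁻¹ * (n * r * n⁻¹)) = (r : G)⁻¹ * (n * r * n⁻¹) * e
    -- every commutator is central
    have hcentral : ∀ y z v : G, Commute v ⁅y, z⁆ := by
      intro y z v
      set π := QuotientGroup.mk' (center G) with hπ
      have hgx : Commute (π g) (π x) := by
        rw [← commutatorElement_eq_one_iff_commute, ← map_commutatorElement]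
        refine (QuotientGroup.eq_one_iff _).2 (mem_center_iff.2 fun u => ?_)
        rw [← commutatorElement_inv x g]
        exact (hwc u).inv_right.eq
      have hpi : ∀ {u : G}, u ∈ D → ∀ s, Commute (π s) (π u) := fun {u} hu s => by
        rw [← commutatorElement_eq_one_iff_commute, ← map_commutatorElement]
        exact (QuotientGroup.eq_one_iff _).2 (hWc (hmove s u hu))
      have hsp : ∀ s : G, ∃ i j : ℤ, ∃ d ∈ D, s = g ^ i * (x ^ j * d) := fun s => by
        obtain ⟨i, e, he, rfl⟩ := (h.piv false).decomp hg' s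
        obtain ⟨j, d, hd, rfl⟩ := (h.piv true).decomp hx' e
        exact ⟨i, j, d, ⟨hd, by simpa using mul_mem (inv_mem (zpow_mem hx j)) he⟩, rfl⟩
      have h1 : ⁅y, z⁆ ∈ center G := by
        obtain ⟨i, j, d, hd, rfl⟩ := hsp y
        obtain ⟨i', j', d', hd', rfl⟩ := hsp z
        refine (QuotientGroup.eq_one_iff _).1 ?_
        show π ⁅g ^ i * (x ^ j * d), g ^ i' * (x ^ j' * d')⁆ = 1
        rw [map_commutatorElement, commutatorElement_eq_one_iff_commute, map_mul, map_mul, map_mul, map_mul,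
          map_zpow, map_zpow, map_zpow, map_zpow]
        have k1 : Commute (π g ^ i) (π g ^ i' * (π x ^ j' * π d')) :=
          ((Commute.refl _).zpow_zpow i i').mul_right ((hgx.zpow_zpow i j').mul_right ((hpi hd' g).zpow_left i))
        have k2 : Commute (π x ^ j) (π g ^ i' * (π x ^ j' * π d')) :=
          (hgx.symm.zpow_zpow j i').mul_right (((Commute.refl _).zpow_zpow j j').mul_right ((hpi hd' x).zpow_left j))
        have k3 : Commute (π d) (π g ^ i' * (π x ^ j' * π d')) :=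
          ((hpi hd g).symm.zpow_right i').mul_right (((hpi hd x).symm.zpow_right j').mul_right (hpi hd d').symm)
        exact k1.mul_left (k2.mul_left k3)
      exact mem_center_iff.1 h1 v
    have hn2 : Commute (e : G) ⁅(r : G)⁻¹, n⁆ := hcentral _ _ _
    rw [show (r : G)⁻¹ * (n * r * n⁻¹) = ⁅(r : G)⁻¹, n⁆ by rw [commutatorElement_def]; group]
    exact hn2.eq

/-- The shape of a Sylow subgroup of `Sp₄(p)` does not lift over a common central subgroup. -/
theorem InvPair.false_of_quot_shape (hW1 : W ≠ ⊥) {b : Bool} (hcG : Nat.card G = p ^ 4 * Nat.card W)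
    (hab : ∀ u ∈ E b, ∀ v ∈ E b, ⁅u, v⁆ ∈ W) (hexp : ∀ u ∈ E b, u ^ p ∈ W)
    (hna : ¬ ∀ u ∈ E (!b), ∀ v ∈ E (!b), ⁅u, v⁆ ∈ W) : False := by
  have hp := (Fact.out : p.Prime)
  have hG := (h.piv b).pgroup
  have hodd := (h.piv b).odd
  set k := !b with hk
  set D : Subgroup G := E b ⊓ E k with hD
  have hWb : W ≤ E b := hWc.trans (h.piv b).center_le
  have hWk : W ≤ E k := hWc.trans (h.piv k).center_le
  have hnle : ¬ E b ≤ E k := h.not_le b
  have hnle' : ¬ E k ≤ E b := by simpa [k] using h.not_le k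
  obtain ⟨x, hx, hx'⟩ := SetLike.not_le_iff_exists.1 hnle
  obtain ⟨g, hg, hg'⟩ := SetLike.not_le_iff_exists.1 hnle'
  have hcD : Nat.card (E k) = p * Nat.card D := by
    rw [hD, inf_comm]; exact h.fam.card_inf (by simpa [k] using (h.ne b).symm)
  have hcD2 : Nat.card D = p ^ 2 * Nat.card W := by
    refine Nat.eq_of_mul_eq_mul_left hp.pos (Nat.eq_of_mul_eq_mul_left hp.pos ?_)
    rw [← hcD, ← (h.piv k).index, hcG]; ring
  set π := QuotientGroup.mk' W with hπ
  have hDc : ∀ u ∈ D, ∀ v ∈ D, Commute (π u) (π v) := fun u hu v hv => by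
    rw [← commutatorElement_eq_one_iff_commute, ← map_commutatorElement]
    exact (QuotientGroup.eq_one_iff _).2 (hab u hu.1 v hv.1)
  -- the derived subgroup of `E k`
  set L : Subgroup G := W ⊔ ⁅D, (⊤ : Subgroup G)⁆ with hL
  haveI : L.Normal := inferInstance
  have hLD : L ≤ D := sup_le (le_inf hWb hWk) (commutator_le_left D _)
  have hgdec : ∀ e ∈ E k, ∃ i : ℤ, ∃ d ∈ D, e = g ^ i * d := fun e he => by
    obtain ⟨i, d, hd, rfl⟩ := (h.piv b).decomp hg' e
    exact ⟨i, d, ⟨hd, by simpa using mul_mem (inv_mem (zpow_mem hg i)) he⟩, rfl⟩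
  obtain ⟨y, hy, hyW⟩ : ∃ y ∈ D, ⁅g, y⁆ ∉ W := by
    by_contra hcon
    push Not at hcon
    have hgc : ∀ d ∈ D, Commute (π g) (π d) := fun d hd => by
      rw [← commutatorElement_eq_one_iff_commute, ← map_commutatorElement]
      exact (QuotientGroup.eq_one_iff _).2 (hcon d hd)
    refine hna fun u hu v hv => (QuotientGroup.eq_one_iff _).1 ?_
    show π ⁅u, v⁆ = 1
    obtain ⟨i, d, hd, rfl⟩ := hgdec u hu
    obtain ⟨j, d', hd', rfl⟩ := hgdec v hv
    rw [map_commutatorElement, commutatorElement_eq_one_iff_commute, map_mul, map_mul, map_zpow, map_zpow]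
    exact (((Commute.refl (π g)).zpow_zpow i j).mul_right ((hgc d' hd').zpow_left i)).mul_left
      (((hgc d hd).zpow_left j).symm.mul_right (hDc d hd d' hd'))
  set z := ⁅g, y⁆ with hz
  set N : Subgroup G := W ⊔ ⁅E k, E k⁆ with hN
  haveI : N.Normal := inferInstance
  have hzN : z ∈ N := mem_sup_right (commutator_mem_commutator hg hy.2)
  have hyg : ∀ d ∈ D, ⁅g, d⁆ ∈ L := fun d hd => mem_sup_right (by
    rw [commutator_comm]; exact commutator_mem_commutator (mem_top g) hd)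
  have hNL : N ≤ L := by
    refine sup_le le_sup_left (commutator_le.2 fun u hu v hv => (QuotientGroup.eq_one_iff _).1 ?_)
    show QuotientGroup.mk' L ⁅u, v⁆ = 1
    set ρ := QuotientGroup.mk' L with hρ
    have hgc : ∀ d ∈ D, Commute (ρ g) (ρ d) := fun d hd => by
      rw [← commutatorElement_eq_one_iff_commute, ← map_commutatorElement]
      exact (QuotientGroup.eq_one_iff _).2 (hyg d hd)
    obtain ⟨i, d, hd, rfl⟩ := hgdec u hu
    obtain ⟨j, d', hd', rfl⟩ := hgdec v hv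
    rw [map_commutatorElement, commutatorElement_eq_one_iff_commute, map_mul, map_mul, map_zpow, map_zpow]
    refine (((Commute.refl (ρ g)).zpow_zpow i j).mul_right ((hgc d' hd').zpow_left i)).mul_left
      (((hgc d hd).zpow_left j).symm.mul_right ?_)
    rw [← commutatorElement_eq_one_iff_commute, ← map_commutatorElement]
    exact (QuotientGroup.eq_one_iff _).2 (mem_sup_left (hab d hd.1 d' hd'.1))
  have hLlt : L < D := lt_of_le_of_ne hLD fun e => by
    have h1 : D ≤ W := CfsgLib.Fusion.RankThree.le_of_le_sup_commutator hG e.ge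
    exact hyW (h1 ⟨(h.piv b).comm_mem g y, (h.piv k).comm_mem g y⟩)
  have hNc : Nat.card N ≤ p * Nat.card W := by
    have h1 := (Nat.mul_le_mul_left p (Subgroup.card_le_of_le hNL)).trans (CfsgLib.MaxClassCube.mul_card_le hG hLlt)
    rw [hcD2, pow_two, mul_assoc] at h1
    exact Nat.le_of_mul_le_mul_left h1 hp.pos
  have hNc' : Nat.card N = p * Nat.card W := le_antisymm hNc
    (CfsgLib.MaxClassCube.mul_card_le hG (lt_of_le_of_ne le_sup_left fun e => hyW (e.ge hzN)))
  have hgenN : ∀ v ∈ N, ∃ m : ℤ, (z ^ m)⁻¹ * v ∈ W := fun v hv =>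
    CfsgLib.Fusion.RankThree.exists_zpow_inv_mul_mem hG le_sup_left hNc' hzN hyW hv
  have hNcen : ∀ v ∈ N, ∀ s : G, Commute (π s) (π v) := fun v hv s => by
    haveI : (N.map π).Normal := (inferInstance : N.Normal).map _ (QuotientGroup.mk'_surjective W)
    have hle : Nat.card (N.map π) ≤ p := by
      have h1 := CfsgLib.MaxClassCube.card_map_mul_card_inf_ker' π N
      rw [hπ, QuotientGroup.ker_mk', inf_eq_right.2 le_sup_left] at h1
      exact Nat.le_of_mul_le_mul_right (h1.trans_le hNc) Nat.card_pos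
    exact mem_center_iff.1 (CfsgLib.MetacyclicOmega.le_center_of_card_le (hG.to_quotient W) _ hle
      (mem_map_of_mem π hv)) (π s)
  have hND : N ≤ D := hNL.trans hLD
  have hyN : y ∉ N := fun hyn => hyW ((QuotientGroup.eq_one_iff _).1 (by
    show π ⁅g, y⁆ = 1
    rw [map_commutatorElement, commutatorElement_eq_one_iff_commute]
    exact hNcen y hyn g))
  have hgenD : ∀ d ∈ D, ∃ m : ℤ, (y ^ m)⁻¹ * d ∈ N := fun d hd =>
    CfsgLib.Fusion.RankThree.exists_zpow_inv_mul_mem hG hND (by rw [hcD2, hNc']; ring) hy hyN hd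
  have hiN : InvE (X k) N := by
    intro α hα r hr
    have hle : N ≤ ((N.subgroupOf (E k)).comap α.toMonoidHom).map (E k).subtype := by
      refine sup_le (fun w hw => ⟨⟨w, hWk hw⟩, mem_subgroupOf.2 ((le_sup_left : W ≤ N) (hWX k α hα ⟨w, hWk hw⟩ hw)), rfl⟩)
        (commutator_le.2 fun u hu v hv => ⟨⁅(⟨u, hu⟩ : E k), ⟨v, hv⟩⁆, ?_, rfl⟩)
      show (α ⁅(⟨u, hu⟩ : E k), ⟨v, hv⟩⁆ : G) ∈ N
      rw [map_commutatorElement]
      exact (le_sup_right : ⁅E k, E k⁆ ≤ N) (commutator_mem_commutator (α ⟨u, hu⟩).2 (α ⟨v, hv⟩).2)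
    obtain ⟨r', hr', hrr⟩ := hle hr
    rw [show r' = r from Subtype.ext hrr] at hr'
    exact hr'
  have hker : ∀ Y : Subgroup (MulAut (E k)), Y ≤ X k ⊓ fixOn W (E k) →
      (∀ σ ∈ Y, ∀ r : E k, (r : G) ∈ E k → ((r⁻¹ * σ r : E k) : G) ∈ N) → IsPGroup p Y := by
    intro Y hY htriv
    refine (isPGroup_chainStab (hG.to_subgroup (E k)) (W.subgroupOf (E k)) (N.subgroupOf (E k))
      (fun r hr => (le_sup_left : W ≤ N) hr)).to_le fun σ hσ => ?_
    refine ⟨fun a ha => (hY hσ).2 a (mem_subgroupOf.1 ha), fun v hv => mem_subgroupOf.2 ?_,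
      fun r => mem_subgroupOf.2 (htriv σ hσ r r.2)⟩
    have hzfix : π ((σ (⟨z, (hND hzN).2⟩ : E k) : E k) : G) = π z := by
      have e : (⟨z, (hND hzN).2⟩ : E k) = ⁅(⟨g, hg⟩ : E k), ⟨y, hy.2⟩⁆ := Subtype.ext rfl
      obtain ⟨c, hc⟩ : ∃ c, c = g⁻¹ * (σ ⟨g, hg⟩ : G) := ⟨_, rfl⟩
      obtain ⟨c', hc'⟩ : ∃ c', c' = y⁻¹ * (σ ⟨y, hy.2⟩ : G) := ⟨_, rfl⟩
      have hcN : c ∈ N := hc ▸ htriv σ hσ ⟨g, hg⟩ hg
      have hcN' : c' ∈ N := hc' ▸ htriv σ hσ ⟨y, hy.2⟩ hy.2
      rw [e, map_commutatorElement]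
      show π ⁅(σ ⟨g, hg⟩ : G), (σ ⟨y, hy.2⟩ : G)⁆ = π ⁅g, y⁆
      rw [show (σ ⟨g, hg⟩ : G) = g * c by rw [hc]; group, show (σ ⟨y, hy.2⟩ : G) = y * c' by rw [hc']; group,
        map_commutatorElement, map_commutatorElement, map_mul, map_mul,
        comm_mul_central (fun s => by obtain ⟨s, rfl⟩ := QuotientGroup.mk'_surjective W s; exact (hNcen c hcN s).symm)
          (fun s => by obtain ⟨s, rfl⟩ := QuotientGroup.mk'_surjective W s; exact (hNcen c' hcN' s).symm)]
    obtain ⟨m, hm⟩ := hgenN v (mem_subgroupOf.1 hv)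
    have hvz : v = (⟨z, (hND hzN).2⟩ : E k) ^ m * ⟨(z ^ m)⁻¹ * v, hWk hm⟩ := Subtype.ext (by simp)
    have h2 : π (σ v : G) = π (v : G) := by
      rw [hvz, map_mul σ, map_zpow σ, (hY hσ).2 ⟨(z ^ m)⁻¹ * v, hWk hm⟩ hm]
      simp only [Subgroup.coe_mul, Subgroup.coe_zpow, map_mul, map_zpow, hzfix]
    exact (QuotientGroup.eq (s := W)).1 h2.symm
  obtain ⟨t, ht, β, hβ, hβt, -, hβx, hinv'⟩ := (h.piv k).exists_neg_elem hx' (A := E k) (N := N) (L := D)
    le_rfl (hND.trans inf_le_right) hND inf_le_right (fun α _ r _ => (α r).2) hiN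
    (fun u hu e he => mem_sup_right (commutator_mem_commutator he hu))
    (fun a _ => ⟨(h.piv b).comm_mem x a, (h.piv k).comm_mem x a⟩) (by rw [hcD2, hNc']; exact le_of_eq (by ring))
    (P := X k ⊓ fixOn W (E k)) inf_le_left
    (fun α hα y hy => ⟨(X k).mul_mem ((X k).mul_mem hα hy.1) ((X k).inv_mem hα), fixOn_conj (hWX k) hα hy.2⟩)
    (le_inf (h.piv k).qle (range_le_fixOn hWc)) hker
  have hinv := hinv' (le_of_eq (by rw [hcD, hcD2, hNc']; ring))
  have hfixW : ∀ c ∈ W, β c = c := fun c hc => by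
    rw [show β c = ((t ⟨c, hWk hc⟩ : E k) : G) from hβt ⟨c, hWk hc⟩, ht.2 ⟨c, hWk hc⟩ hc]
  have hcW : ∀ {c}, c ∈ W → ∀ s, Commute c s := fun {c} hc s => (show Commute s c from mem_center_iff.1 (hWc hc) s).symm
  -- images
  obtain ⟨n₁, hn₁⟩ : ∃ n, n = g * β g := ⟨_, rfl⟩
  obtain ⟨n₂, hn₂⟩ : ∃ n, n = y * β y := ⟨_, rfl⟩
  have hn₁N : n₁ ∈ N := by
    have h1 := (inferInstance : N.Normal).conj_mem _ (hinv g hg) g
    rw [hn₁]; simpa [mul_assoc] using h1
  have hn₂N : n₂ ∈ N := by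
    have h1 := (inferInstance : N.Normal).conj_mem _ (hinv y hy.2) y
    rw [hn₂]; simpa [mul_assoc] using h1
  have hβg : β g = g⁻¹ * n₁ := by rw [hn₁]; group
  have hβy : β y = y⁻¹ * n₂ := by rw [hn₂]; group
  have hzW : π (β z) = π z := by
    have c1 : Commute (π g) ⁅π g, π y⁆ := by rw [← map_commutatorElement]; exact hNcen z hzN g
    have c2 : Commute (π y) ⁅π g, π y⁆ := by rw [← map_commutatorElement]; exact hNcen z hzN y
    rw [hz, map_commutatorElement β, hβg, hβy, map_commutatorElement, map_mul, map_mul, map_inv, map_inv,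
      comm_mul_central (fun s => by obtain ⟨s, rfl⟩ := QuotientGroup.mk'_surjective W s; exact (hNcen n₁ hn₁N s).symm)
        (fun s => by obtain ⟨s, rfl⟩ := QuotientGroup.mk'_surjective W s; exact (hNcen n₂ hn₂N s).symm),
      map_commutatorElement]
    calc ⁅(π g)⁻¹, (π y)⁻¹⁆ = (π g)⁻¹ * ((π y)⁻¹ * ⁅π g, π y⁆ * π y) * π g := by
          simp only [commutatorElement_def]; group
      _ = _ := by rw [c2.inv_left.eq, inv_mul_cancel_right, c1.inv_left.eq, inv_mul_cancel_right]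
  obtain ⟨w₀, hw₀⟩ : ∃ w, w = z⁻¹ * β z := ⟨_, rfl⟩
  have hw₀W : w₀ ∈ W := hw₀ ▸ (QuotientGroup.eq (s := W)).1 hzW.symm
  have hNz : ∀ v ∈ N, Commute z v := fun v hv => by
    obtain ⟨m, hm⟩ := hgenN v hv
    rw [show v = z ^ m * ((z ^ m)⁻¹ * v) by group]
    exact ((Commute.refl z).zpow_right m).mul_right (hcW hm z).symm
  -- `D` is abelian
  have hzy : Commute z y := by
    have hc : ⁅z, y⁆ ∈ W := hab z (hND hzN).1 y hy.1
    refine commutatorElement_eq_one_iff_commute.1 (eq_one_of_inv_eq hG hodd ?_)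
    symm
    nth_rw 1 [← hfixW _ hc]
    rw [map_commutatorElement, show β z = z * w₀ by rw [hw₀]; group, hβy]
    have e1 := comm_mul_central (a := z) (b := y⁻¹ * n₂) (c := w₀) (d := 1) (fun s => hcW hw₀W s) (fun s => Commute.one_left s)
    rw [mul_one] at e1
    rw [e1, show ⁅z, y⁻¹ * n₂⁆ = ⁅z, y⁻¹⁆ * (y⁻¹ * ⁅z, n₂⁆ * y) by simp only [commutatorElement_def]; group,
      commutatorElement_eq_one_iff_commute.2 (hNz n₂ hn₂N), mul_one, inv_mul_cancel, mul_one,
      comm_inv_right (hcW hc y).symm]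
  have hDy : ∀ d ∈ D, Commute y d ∧ Commute z d := fun d hd => by
    obtain ⟨m, hm⟩ := hgenD d hd
    obtain ⟨l, hl⟩ := hgenN _ hm
    rw [show d = y ^ m * (z ^ l * ((z ^ l)⁻¹ * ((y ^ m)⁻¹ * d))) by group]
    exact ⟨((Commute.refl y).zpow_right m).mul_right ((hzy.symm.zpow_right l).mul_right (hcW hl y).symm),
      (hzy.zpow_right m).mul_right (((Commute.refl z).zpow_right l).mul_right (hcW hl z).symm)⟩
  have hzp : z ^ p = 1 := by
    have e1 : g * y * g⁻¹ = z * y := by rw [hz, commutatorElement_def]; group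
    have e2 : g * y ^ p * g⁻¹ = z ^ p * y ^ p := by rw [← conj_pow, e1, hzy.mul_pow]
    rw [(hcW (hexp y hy.1) g).symm.eq, mul_inv_cancel_right] at e2
    exact mul_eq_right.1 e2.symm
  have hNp : ∀ v ∈ N, v ^ p = 1 := fun v hv => by
    obtain ⟨m, hm⟩ := hgenN v hv
    rw [show v = z ^ m * ((z ^ m)⁻¹ * v) by group, ((hcW hm (z ^ m)).symm).mul_pow, hWp _ hm, mul_one,
      ← zpow_natCast, ← zpow_mul, mul_comm, zpow_mul, zpow_natCast, hzp, one_zpow]
  have hyn₂ : Commute y n₂ := (hDy n₂ (hND hn₂N)).1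
  have hyp : y ^ p = 1 := by
    refine eq_one_of_inv_eq hG hodd ?_
    symm
    nth_rw 1 [← hfixW _ (hexp y hy.1)]
    rw [map_pow, hβy, hyn₂.inv_left.mul_pow, hNp n₂ hn₂N, mul_one, inv_pow]
  have hDp : ∀ d ∈ D, d ^ p = 1 := fun d hd => by
    obtain ⟨m, hm⟩ := hgenD d hd
    rw [show d = y ^ m * ((y ^ m)⁻¹ * d) by group, (((hDy _ (hND hm)).1).zpow_left m).mul_pow, hNp _ hm, mul_one,
      ← zpow_natCast, ← zpow_mul, mul_comm, zpow_mul, zpow_natCast, hyp, one_zpow]
  have hzx : Commute x z := by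
    obtain ⟨d, hd⟩ : ∃ d, d = g⁻¹ * (x * g * x⁻¹) := ⟨_, rfl⟩
    have hdD : d ∈ D := by
      rw [hd, show g⁻¹ * (x * g * x⁻¹) = ⁅g⁻¹, x⁆ by rw [commutatorElement_def]; group]
      exact ⟨(h.piv b).comm_mem _ _, (h.piv k).comm_mem _ _⟩
    obtain ⟨c, hc⟩ : ∃ c, c = y⁻¹ * (x * y * x⁻¹) := ⟨_, rfl⟩
    have hcW' : c ∈ W := by
      rw [hc, show y⁻¹ * (x * y * x⁻¹) = ⁅y⁻¹, x⁆ by rw [commutatorElement_def]; group]
      exact hab _ (inv_mem hy.1) _ hx
    have e1 : x * z * x⁻¹ = ⁅g * d, y * c⁆ := by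
      rw [hd, hc, mul_inv_cancel_left, mul_inv_cancel_left, hz]; simp only [commutatorElement_def]; group
    have e2 := comm_mul_central (a := g * d) (b := y) (c := 1) (d := c) (fun s => Commute.one_left s) (fun s => hcW hcW' s)
    rw [mul_one] at e2
    rw [e2, show ⁅g * d, y⁆ = g * ⁅d, y⁆ * g⁻¹ * ⁅g, y⁆ by simp only [commutatorElement_def]; group,
      commutatorElement_eq_one_iff_commute.2 (hDy d hdD).1.symm, mul_one, mul_inv_cancel, one_mul, ← hz,
      mul_inv_eq_iff_eq_mul] at e1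
    exact e1
  have hNx : ∀ v ∈ N, Commute x v := fun v hv => by
    obtain ⟨m, hm⟩ := hgenN v hv
    rw [show v = z ^ m * ((z ^ m)⁻¹ * v) by group]
    exact (hzx.zpow_right m).mul_right (hcW hm x).symm
  have hxy : Commute y x := by
    have hc : ⁅y, x⁆ ∈ W := hab y hy.1 x hx
    refine commutatorElement_eq_one_iff_commute.1 (eq_one_of_inv_eq hG hodd ?_)
    symm
    nth_rw 1 [← hfixW _ hc]
    obtain ⟨e, he⟩ : ∃ e, e = x⁻¹ * β x := ⟨_, rfl⟩
    have heD : e ∈ D := he ▸ ⟨(E b).mul_mem ((E b).inv_mem hx) (h.fix β hβ b x hx), hβx⟩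
    rw [map_commutatorElement, show β x = x * e by rw [he]; group, hβy]
    have f1 : Commute (y⁻¹ * n₂) e := ((hDy e heD).1.inv_left).mul_left (by
      obtain ⟨l, hl⟩ := hgenN n₂ hn₂N
      rw [show n₂ = z ^ l * ((z ^ l)⁻¹ * n₂) by group]
      exact ((hDy e heD).2.zpow_left l).mul_left (hcW hl e))
    rw [show ⁅y⁻¹ * n₂, x * e⁆ = ⁅y⁻¹ * n₂, x⁆ * (x * ⁅y⁻¹ * n₂, e⁆ * x⁻¹) by simp only [commutatorElement_def]; group,
      commutatorElement_eq_one_iff_commute.2 f1, mul_one, mul_inv_cancel, mul_one,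
      show ⁅y⁻¹ * n₂, x⁆ = y⁻¹ * ⁅n₂, x⁆ * y * ⁅y⁻¹, x⁆ by simp only [commutatorElement_def]; group,
      commutatorElement_eq_one_iff_commute.2 (hNx n₂ hn₂N).symm, mul_one, inv_mul_cancel, one_mul,
      show ⁅y⁻¹, x⁆ = y⁻¹ * ⁅y, x⁆⁻¹ * y by simp only [commutatorElement_def]; group,
      ((hcW hc y⁻¹).inv_left).symm.eq, inv_mul_cancel_right]
  have hxD : ∀ d ∈ D, Commute x d := fun d hd => by
    obtain ⟨m, hm⟩ := hgenD d hd
    rw [show d = y ^ m * ((y ^ m)⁻¹ * d) by group]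
    exact (hxy.symm.zpow_right m).mul_right (hNx _ hm)
  have hbdec : ∀ e ∈ E b, ∃ i : ℤ, ∃ d ∈ D, e = x ^ i * d := fun e he => by
    obtain ⟨i, d, hd, rfl⟩ := (h.piv k).decomp hx' e
    exact ⟨i, d, ⟨by simpa using mul_mem (inv_mem (zpow_mem hx i)) he, hd⟩, rfl⟩
  have hDab : ∀ d ∈ D, ∀ d' ∈ D, Commute d d' := fun d hd d' hd' => by
    obtain ⟨m, hm⟩ := hgenD d hd
    obtain ⟨l, hl⟩ := hgenN _ hm
    rw [show d = y ^ m * (z ^ l * ((z ^ l)⁻¹ * ((y ^ m)⁻¹ * d))) by group]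
    exact ((hDy d' hd').1.zpow_left m).mul_left (((hDy d' hd').2.zpow_left l).mul_left (hcW hl d'))
  have habb : ∀ u ∈ E b, ∀ v ∈ E b, u * v = v * u := fun u hu v hv => by
    obtain ⟨i, d, hd, rfl⟩ := hbdec u hu
    obtain ⟨j, d', hd', rfl⟩ := hbdec v hv
    exact ((((Commute.refl x).zpow_zpow i j).mul_right ((hxD d' hd').zpow_left i)).mul_left
      (((hxD d hd).zpow_left j).symm.mul_right (hDab d hd d' hd'))).eq
  have hout : ∀ e ∈ E b, e ^ p = 1 → e ∈ D := by
    intro e he hep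
    by_contra heD
    have hek : e ∉ E k := fun hk' => heD ⟨he, hk'⟩
    have hall : ∀ u ∈ E b, u ^ p = 1 := fun u hu => by
      obtain ⟨i, d, hd, rfl⟩ := (h.piv k).decomp hek u
      have hdb : d ∈ E b := by simpa using mul_mem (inv_mem (zpow_mem he i)) hu
      rw [(show Commute (e ^ i) d from habb _ (zpow_mem he i) d hdb).mul_pow, hDp d ⟨hdb, hd⟩, mul_one,
        ← zpow_natCast, ← zpow_mul, mul_comm, zpow_mul, zpow_natCast, hep, one_zpow]
    have h1 := card_elementary_le (h.piv b).rank (E b) habb hall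
    have h2 : p * Nat.card D ≤ Nat.card (E b) := CfsgLib.MaxClassCube.mul_card_le hG
      (lt_of_le_of_ne inf_le_left fun e' => hnle (e'.ge.trans inf_le_right))
    have h3 : p ≤ Nat.card W := by
      have h4 := CfsgLib.MaxClassCube.mul_card_le hG (bot_lt_iff_ne_bot.2 hW1)
      rwa [card_bot, mul_one] at h4
    have h5 : p ^ 4 ≤ p ^ 3 := by
      calc p ^ 4 = p * (p ^ 2 * p) := by ring
        _ ≤ p * (p ^ 2 * Nat.card W) := Nat.mul_le_mul_left _ (Nat.mul_le_mul_left _ h3)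
        _ ≤ _ := (show p * (p ^ 2 * Nat.card W) ≤ Nat.card (E b) by rw [← hcD2]; exact h2).trans h1
    exact absurd ((Nat.pow_le_pow_iff_right hp.one_lt).1 h5) (by norm_num)
  refine (h.piv k).hyperplane_moved (h.piv b) (fun e => hnle e.ge) (fun γ hγ r hr => h.fix γ hγ k r hr)
    (fun γ hγ r hr => h.fix γ hγ b r hr) fun α hα r hr => ?_
  have hrp : r ^ p = 1 := Subtype.ext (hDp r ⟨hr.2, hr.1⟩)
  have hαp : (α r : G) ^ p = 1 := by
    rw [← Subgroup.coe_pow, ← map_pow, hrp, map_one, Subgroup.coe_one]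
  exact ⟨(hout _ (α r).2 hαp).2, (α r).2⟩

end CfsgLib.Fusion.IndexFamily
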