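import Cfsg.Agent.Lib.Fusion.System.RankThree.NormalFamily.System
import Cfsg.Agent.Lib.Fusion.System.RankThree.NormalFamily.Pair

/-!
# Two invariant essential subgroups
-/

set_option autoImplicit false
set_option linter.style.haveILetI false
set_option linter.unusedSectionVars false

open Subgroup
open scoped commutatorElement

namespace CfsgLib.Fusion.IndexFamily

open Cfsg (FusionSystem autInducedBy)
open Cfsg.FusionSystem (normalizerIn centralizerIn)

universe u

variable {Ω : Type u} [Group Ω] {S : Subgroup Ω} [Finite S] {p : ℕ} [Fact p.Prime] {F : FusionSystem S}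

/-- Two invariant essential subgroups of a system without normal subgroups. -/
theorem type_of_two_invariant (hodd : p ≠ 2) (hS : IsPGroup p S) (hr : Cfsg.SectionalPRankLE p 3 S)
    (hnot : ¬ Cfsg.SectionalPRankLE p 2 S) (hF : F.IsSaturated p) (hO : F.core = ⊥) (R : Bool → Subgroup Ω)
    (hne : ∀ b, R b ≠ R (!b)) (hR : ∀ b, F.IsEssential p (R b))
    (hc : ∀ b, ∀ φ : MulAut S, φ ∈ F.autGroup S → ((R b).subgroupOf S).map φ.toMonoidHom = (R b).subgroupOf S) :
    ∃ b, Shape p S ∧ Nat.card (R b) = p ^ 3 ∧ Cfsg.IsElementaryAbelian p (R b) ∧ Nat.card (R (!b)) = p ^ 3 ∧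
      (∀ u ∈ R (!b), u ^ p = 1) ∧ ¬ ∀ u ∈ R (!b), ∀ v ∈ R (!b), u * v = v * u := by
  haveI := CfsgLib.Fusion.finite_mulAut (P := S)
  have hRS : ∀ b, R b ≤ S := fun b => (hR b).1.1
  let E : Bool → Subgroup S := fun b => (R b).subgroupOf S
  have hinn : autInducedBy S S = (MulAut.conj (G := S)).range := by
    ext α
    rw [mem_autInducedBy_iff]
    constructor
    · rintro ⟨g, hg, hα⟩
      refine ⟨⟨g, hg⟩, MulEquiv.ext fun x => Subtype.ext ?_⟩
      rw [← autFun_coe α x, hα x x.2]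
      rfl
    · rintro ⟨g, rfl⟩
      exact ⟨g, g.2, fun x hx => by rw [autFun_apply _ hx]; rfl⟩
  have hle := autInducedBy_le_autGroup (F := F) (le_refl S)
  have hnorm : ∀ b, S ≤ normalizer (R b : Set Ω) := fun b s hs => by
    have h1 : ∀ g : S, ∀ x ∈ E b, g * x * g⁻¹ ∈ E b := fun g x hx =>
      (hc b (MulAut.conj g) (hle (hinn ▸ ⟨g, rfl⟩))).le (mem_map_of_mem _ hx)
    refine mem_normalizer_iff.2 fun x => ⟨fun hx => h1 ⟨s, hs⟩ ⟨x, hRS b hx⟩ hx, fun hx => ?_⟩
    have h2 := h1 ⟨s, hs⟩⁻¹ ⟨s * x * s⁻¹, hRS b hx⟩ hx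
    rw [Subgroup.mem_subgroupOf] at h2
    simpa [mul_assoc] using h2
  choose hn X hpiv hres _hinv using fun b =>
    exists_piv_in hodd hS hr hF (hR b) S (inf_eq_left.2 (hnorm b))
  haveI hn' : ∀ b, (E b).Normal := hn
  have hfix : ∀ γ ∈ F.autGroup S, ∀ b, ∀ r ∈ E b, γ r ∈ E b := fun γ hγ b r hr' =>
    (hc b γ hγ).le (mem_map_of_mem γ.toMonoidHom hr')
  have hsyl : ¬ p ∣ (MulAut.conj (G := S)).range.relIndex (F.autGroup S) := by
    rw [← hinn]
    exact ((isFullyAutomized_iff hS).1 (IsSaturated.automized_receptive hS hF isFullyNormalized_self).1).2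
  have hP : InvPair p E X (F.autGroup S) := by
    refine ⟨hpiv, fun b he => hne b ?_, hfix, fun γ hγ b α hα => ?_, hsyl⟩
    · calc R b = (E b).map S.subtype := (map_subgroupOf_eq_of_le (hRS b)).symm
        _ = (E (!b)).map S.subtype := by rw [he]
        _ = R (!b) := map_subgroupOf_eq_of_le (hRS (!b))
    · obtain ⟨δ, hδ, hδγ⟩ := hres b γ hγ (hfix γ hγ b)
      refine ⟨δ * α * δ⁻¹, (X b).mul_mem ((X b).mul_mem hδ hα) ((X b).inv_mem hδ), fun r r' hr' => ?_⟩
      rw [show r' = δ r from Subtype.ext (hr'.trans (hδγ r)), MulAut.mul_apply, MulAut.mul_apply,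
        MulAut.inv_apply_self, hδγ]
  rcases hP.pairType with hab | ⟨b, -, hcb, habb, hexpb, hcb', hexpb', hna, hsh⟩
  · exfalso
    -- all essential subgroups are normal
    have hD : ∀ {d : S}, d ∈ E true → d ∈ E false → d ∈ center S := fun {d} h1 h2 => by
      obtain ⟨g, hg, hg'⟩ := SetLike.not_le_iff_exists.1 (hP.not_le true)
      exact (hpiv false).mem_center_of hg' (hab true d h1 g hg) fun e he => hab false d h2 e he
    have hnormal : ∀ P, F.IsEssential p P → S ≤ normalizer (P : Set Ω) := by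
      intro P hP' s hs
      have hPS := hP'.1.1
      have hcen : ∀ z : S, z ∈ center S → (z : Ω) ∈ P := fun z hz =>
        hP'.1.2 P (isConj_refl hPS) ⟨z.2, mem_centralizer_iff.2 fun y hy =>
          congrArg Subtype.val (mem_center_iff.1 hz ⟨y, hPS hy⟩)⟩
      have hcom : ∀ a b : S, (⁅a, b⁆ : S).val ∈ P := fun a b =>
        hcen _ (hD ((hpiv true).comm_mem a b) ((hpiv false).comm_mem a b))
      refine mem_normalizer_iff.2 fun x => ⟨fun hx => ?_, fun hx => ?_⟩
      · have h1 := mul_mem (hcom ⟨s, hs⟩ ⟨x, hPS hx⟩) hx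
        simpa [commutatorElement_def, mul_assoc] using h1
      · have h1 := mul_mem (hcom ⟨s, hs⟩⁻¹ ⟨_, hPS hx⟩) hx
        simpa [commutatorElement_def, mul_assoc] using h1
    obtain ⟨A, hA, -, -, -, -, e, -, -, z, -, hz⟩ := shape_of_all_normal hodd hS hr hnot hF hO hnormal
    refine hz (commutatorElement_eq_one_iff_mul_comm.2 ?_)
    exact mem_center_iff.1 (hD ((hpiv true).comm_mem e z) ((hpiv false).comm_mem e z)) e
  · refine ⟨b, hsh, ?_, ⟨⟨⟨fun u v => ?_⟩⟩, fun u hu => ?_⟩, ?_, fun u hu => ?_, fun hall => hna ?_⟩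
    · rw [← hcb]; exact (Nat.card_congr (subgroupOfEquivOfLe (hRS b)).toEquiv).symm
    · exact Subtype.ext (congrArg (fun y : S => (y : Ω)) (habb ⟨u, hRS b u.2⟩ u.2 ⟨v, hRS b v.2⟩ v.2))
    · exact congrArg Subtype.val (hexpb ⟨u, hRS b hu⟩ hu)
    · rw [← hcb']; exact (Nat.card_congr (subgroupOfEquivOfLe (hRS (!b))).toEquiv).symm
    · exact congrArg Subtype.val (hexpb' ⟨u, hRS (!b) hu⟩ hu)
    · exact fun u hu v hv => Subtype.ext (hall u hu v hv)

end CfsgLib.Fusion.IndexFamily
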