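import Cfsg.Agent.Lib.Fusion.System.RankThree.NormalFamily.TwoPlanes
import Cfsg.Agent.Lib.Fusion.System.RankThree.Transvection

/-!
# A family with a central element outside a member

If `omz p (E i)` is not contained in every member then either the `p`-th powers of the centre form
a common invariant subgroup or `G` has order `p ^ 4`.
-/

set_option autoImplicit false
set_option linter.style.haveILetI false
set_option linter.unusedSectionVars false

open Subgroup
open scoped commutatorElement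

namespace CfsgLib.Fusion.IndexFamily

open CfsgLib.Fusion.RankThree (InvE card_le_of_section)

universe u v

variable {G : Type u} [Group G] [Finite G] {p : ℕ} [Fact p.Prime] {I : Type v} {E : I → Subgroup G}
  [hn : ∀ i, (E i).Normal] {X : ∀ i, Subgroup (MulAut (E i))} {Γ : Subgroup (MulAut G)}

/-- A family of normal subgroups of index `p` with automizers, permuted by `Γ`. -/
structure Fam (p : ℕ) {G : Type u} [Group G] {I : Type v} (E : I → Subgroup G) [∀ i, (E i).Normal]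
    (X : ∀ i, Subgroup (MulAut (E i))) (Γ : Subgroup (MulAut G)) : Prop where
  piv : ∀ i, Piv p (E i) (X i) Γ
  map : ∀ γ ∈ Γ, ∀ i, ∃ j, (E i).map γ.toMonoidHom = E j ∧
    ∀ α ∈ X i, ∃ α' ∈ X j, ∀ (r : E i) (r' : E j), (r' : G) = γ r → (α' r' : G) = γ (α r : G)
  inn : ¬ p ∣ (MulAut.conj (G := G)).range.relIndex Γ

/-- A nontrivial subgroup invariant under the whole family. -/
def Common {I : Type v} (E : I → Subgroup G) (X : ∀ i, Subgroup (MulAut (E i))) (Γ : Subgroup (MulAut G)) : Prop :=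
  ∃ Q : Subgroup G, Q ≠ ⊥ ∧ (∀ γ ∈ Γ, ∀ q ∈ Q, γ q ∈ Q) ∧ ∀ i, Q ≤ E i ∧ InvE (X i) Q

/-- A nontrivial central subgroup invariant under the whole family. -/
def CentralCommon {I : Type v} (E : I → Subgroup G) (X : ∀ i, Subgroup (MulAut (E i))) (Γ : Subgroup (MulAut G)) : Prop :=
  ∃ Q : Subgroup G, Q ≤ center G ∧ Q ≠ ⊥ ∧ (∀ γ ∈ Γ, ∀ q ∈ Q, γ q ∈ Q) ∧ ∀ i, Q ≤ E i ∧ InvE (X i) Q

theorem CentralCommon.common {I : Type v} {E : I → Subgroup G} {X : ∀ i, Subgroup (MulAut (E i))}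
    {Γ : Subgroup (MulAut G)} : CentralCommon E X Γ → Common E X Γ := fun ⟨Q, _, h⟩ => ⟨Q, h⟩

/-- The shape of a Sylow subgroup of `Sp₄(p)`. -/
def Shape (p : ℕ) (G : Type u) [Group G] : Prop :=
  ∃ A : Subgroup G, A.Normal ∧ Nat.card G = p ^ 4 ∧ Nat.card A = p ^ 3 ∧
    (∀ a ∈ A, ∀ b ∈ A, a * b = b * a) ∧ (∀ a ∈ A, a ^ p = 1) ∧
    ∃ e : G, e ∉ A ∧ e ^ p = 1 ∧ ∃ z ∈ A, ⁅e, ⁅e, z⁆⁆ ≠ 1

/-- A nonabelian group of order `p ^ 3` has sectional rank at most two. -/
theorem sectional_two_of_cube (hG : IsPGroup p G) (hc : Nat.card G = p ^ 3)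
    (hab : ¬ ∀ a b : G, a * b = b * a) : Cfsg.SectionalPRankLE p 2 G := by
  intro H N hN A hA hAe
  have hp := (Fact.out : p.Prime)
  haveI := hN
  haveI : Finite H := Subtype.finite
  have h1 : Nat.card A ∣ Nat.card (H ⧸ N) := Subgroup.card_subgroup_dvd_card A
  have h2 : Nat.card (H ⧸ N) ∣ Nat.card H := Subgroup.card_quotient_dvd_card N
  have h3 : Nat.card A ∣ p ^ 3 := (h1.trans h2).trans (hc ▸ Subgroup.card_subgroup_dvd_card H)
  obtain ⟨k, hk, hkA⟩ := (Nat.dvd_prime_pow hp).1 h3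
  by_contra hlt
  push Not at hlt
  rw [hkA] at hlt
  have hk3 : k = 3 := by
    have := (Nat.pow_lt_pow_iff_right hp.one_lt).1 hlt
    omega
  subst hk3
  -- the section is the whole group
  have hH : Nat.card H = p ^ 3 := Nat.dvd_antisymm (hc ▸ Subgroup.card_subgroup_dvd_card H) (hkA ▸ h1.trans h2)
  have hHt : H = ⊤ := eq_top_of_card_eq _ (hH.trans hc.symm)
  have hq : Nat.card (H ⧸ N) = p ^ 3 := Nat.dvd_antisymm (hH ▸ h2) (hkA ▸ h1)
  have hAt : A = ⊤ := eq_top_of_card_eq _ (hkA.trans hq.symm)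
  have hinj : Function.Injective (QuotientGroup.mk' N) := by
    refine ((Nat.bijective_iff_surjective_and_card _).2 ⟨QuotientGroup.mk'_surjective N, ?_⟩).1
    rw [hq, hH]
  refine hab fun a b => ?_
  have ha : a ∈ H := hHt ▸ mem_top a
  have hb : b ∈ H := hHt ▸ mem_top b
  have h4 := hA.is_comm.comm (⟨QuotientGroup.mk' N ⟨a, ha⟩, hAt ▸ mem_top _⟩ : A)
    ⟨QuotientGroup.mk' N ⟨b, hb⟩, hAt ▸ mem_top _⟩
  have h5 : QuotientGroup.mk' N (⟨a, ha⟩ * ⟨b, hb⟩) = QuotientGroup.mk' N (⟨b, hb⟩ * ⟨a, ha⟩) := by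
    rw [map_mul, map_mul]
    exact congrArg Subtype.val h4
  exact congrArg Subtype.val (hinj h5)

variable (h : Fam p E X Γ)
include h

theorem Fam.center_le (i : I) : center G ≤ E i := (h.piv i).center_le

/-- Two different members generate `G`. -/
theorem Fam.card_inf {i k : I} (hne : E k ≠ E i) : Nat.card (E k) = p * Nat.card (E k ⊓ E i : Subgroup G) := by
  have hpv := h.piv i
  have hsup : E k ⊔ E i = ⊤ := by
    by_contra hne'
    have hle : E k ≤ E i := le_sup_left.trans (hpv.eq_of_le le_sup_right hne').le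
    refine hne (eq_of_le_of_card_ge hle (le_of_eq ?_))
    exact Nat.eq_of_mul_eq_mul_left (Fact.out : p.Prime).pos (hpv.index.symm.trans (h.piv k).index)
  have h1 := CfsgLib.MaxClassCube.card_map_mul_card_inf_ker' (QuotientGroup.mk' (E i)) (E k)
  rw [QuotientGroup.ker_mk'] at h1
  have h3 := congrArg (Subgroup.map (QuotientGroup.mk' (E i))) hsup
  rw [Subgroup.map_sup, QuotientGroup.map_mk'_self, sup_bot_eq,
    map_top_of_surjective _ (QuotientGroup.mk'_surjective (E i))] at h3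
  rw [h3, Subgroup.card_top, show Nat.card (G ⧸ E i) = p from hpv.index_eq] at h1
  exact h1.symm

/-- The axis of `E k` for an element of `omz p (E i)` outside. -/
theorem Fam.exists_axis {i k : I} {z : G} (hz : z ∈ omz p (E i)) (hzk : z ∉ E k) :
    ∃ α ∈ X k, ∃ e w, ∃ hw : w ∈ E k, Axis p (E k) (E k ⊓ E i) z α e w hw ∧ w ∈ omz p (E i) ∧
      w ^ p = 1 ∧ (α ⟨w, hw⟩ : G) ^ p = 1 := by
  have hne : E k ≠ E i := fun e => hzk (e ▸ hz.1)
  obtain ⟨α, hα, hαn⟩ := (h.piv k).exists_not_normalizer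
  obtain ⟨e, w, hw, hax⟩ := (h.piv k).axis (H := E k ⊓ E i) inf_le_left (h.card_inf hne) hzk
    (fun y hy => hz.2.1 y hy.2) hα hαn
  have hwz : w ∈ omz p (E i) := by
    rw [hax.w_eq, show e⁻¹ * (z * e * z⁻¹) = (e⁻¹ * z * e⁻¹⁻¹) * z⁻¹ by group]
    exact mul_mem ((omz_normal (E i)).conj_mem z hz e⁻¹) (inv_mem hz)
  refine ⟨α, hα, e, w, hw, hax, hwz, hwz.2.2, ?_⟩
  have h1 : (⟨w, hw⟩ : E k) ^ p = 1 := Subtype.ext hwz.2.2
  have h2 := congrArg α h1
  rw [map_pow, map_one] at h2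
  exact congrArg (fun r : E k => (r : G)) h2

/-- `E i` is generated by `omz p (E i)` and the centre. -/
theorem Fam.exists_decomp {i k : I} {z : G} (hz : z ∈ omz p (E i)) (hzk : z ∉ E k) {x : G} (hx : x ∈ E i) :
    ∃ o ∈ omz p (E i), ∃ c ∈ center G, x = o * c := by
  obtain ⟨α, hα, e, w, hw, hax, hwz, hwp, hwp'⟩ := h.exists_axis hz hzk
  obtain ⟨a, r, hr, rfl⟩ := (h.piv k).decomp hzk x
  have hrH : r ∈ E k ⊓ E i := ⟨hr, by
    simpa using mul_mem (inv_mem (zpow_mem hz.1 a)) hx⟩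
  obtain ⟨s, j, d, hd, hrd⟩ := hax.dec r hr
  have hj : (α ⟨w, hw⟩ : G) ^ j ∈ E k ⊓ E i := by
    have h1 := mul_mem (mul_mem (inv_mem (zpow_mem hax.wH s)) hrH) (inv_mem hd.1)
    rw [hrd] at h1
    convert h1 using 1
    group
  have hj0 : (j : ZMod p) = 0 := by
    by_contra hj0
    exact hax.moved (CfsgLib.Fusion.RankThree.mem_of_zpow_mem (by rw [hwp']; exact one_mem _) hj hj0)
  rw [CfsgLib.Fusion.LineTorus.zpow_congr hwp' (r := j) (s := 0) (by simpa using hj0), zpow_zero, mul_one] at hrd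
  exact ⟨z ^ a * w ^ s, mul_mem (zpow_mem hz a) (zpow_mem hwz s), d, hax.central hd, by
    rw [hrd, mul_assoc]⟩

/-- Every other member misses part of `omz p (E i)`. -/
theorem Fam.not_le_of_ne {i k : I} {z : G} (hz : z ∈ omz p (E i)) (hzk : z ∉ E k) {l : I} (hl : E l ≠ E i) :
    ¬ omz p (E i) ≤ E l := fun hle => by
  refine hl (eq_of_le_of_card_ge (fun x hx => ?_) (le_of_eq ?_)).symm
  · obtain ⟨o, ho, c, hc, rfl⟩ := h.exists_decomp hz hzk hx
    exact mul_mem (hle ho) (h.center_le l hc)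
  · exact Nat.eq_of_mul_eq_mul_left (Fact.out : p.Prime).pos ((h.piv l).index.symm.trans (h.piv i).index)

/-- The powers of the centre, or elementary centre. -/
theorem Fam.center_powers {i k : I} {z : G} (hz : z ∈ omz p (E i)) (hzk : z ∉ E k) :
    CentralCommon E X Γ ∨ ∀ c ∈ center G, c ^ p = 1 := by
  by_cases hel : ∀ c ∈ center G, c ^ p = 1
  · exact Or.inr hel
  refine Or.inl ⟨closure ((fun c : G => c ^ p) '' (center G : Set G)), (closure_le _).2 ?_, fun hb => hel fun c hc => ?_, ?_,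
    fun l => ⟨?_, ?_⟩⟩
  · rintro _ ⟨c, hc, rfl⟩
    exact (center G).pow_mem hc p
  · exact mem_bot.1 (hb ▸ subset_closure ⟨c, hc, rfl⟩)
  · intro γ _ q hq
    induction hq using Subgroup.closure_induction with
    | mem x hx =>
      obtain ⟨c, hc, rfl⟩ := hx
      refine subset_closure ⟨γ c, mem_center_iff.2 fun g => ?_, (map_pow γ c p).symm⟩
      obtain ⟨g', rfl⟩ := γ.surjective g
      rw [← map_mul, ← map_mul, mem_center_iff.1 hc g']
    | one => rw [map_one]; exact one_mem _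
    | mul a b _ _ ha hb => rw [map_mul]; exact mul_mem ha hb
    | inv a _ ha => rw [map_inv]; exact inv_mem ha
  · refine (closure_le _).2 ?_
    rintro _ ⟨c, hc, rfl⟩
    exact pow_mem (h.center_le l hc) p
  intro α hα
  have key : ∀ c ∈ center G, ∀ hcl : c ∈ E l, ∃ d ∈ center G, (α ⟨c, hcl⟩ : G) ^ p = d ^ p := by
    intro c hc hcl
    by_cases hle : E l = E i
    · obtain ⟨o, ho, d, hd, hod⟩ := h.exists_decomp hz hzk (hle.le (α ⟨c, hcl⟩).2)
      exact ⟨d, hd, by rw [hod, (show Commute o d from (mem_center_iff.1 hd o)).mul_pow, ho.2.2, one_mul]⟩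
    obtain ⟨y, hy, hyl⟩ := SetLike.not_le_iff_exists.1 (h.not_le_of_ne hz hzk hle)
    obtain ⟨β, hβ, e, w, hw, hax, -, hwp, hwp'⟩ := h.exists_axis hy hyl
    set w' : G := (β ⟨w, hw⟩ : G) with hw'
    obtain ⟨s, j, d, hd, hsd⟩ := hax.dec _ (α ⟨c, hcl⟩).2
    have hdc := hax.central hd
    refine ⟨d, hdc, ?_⟩
    have hcomm : ∀ r ∈ E l, (α ⟨c, hcl⟩ : G) * r = r * (α ⟨c, hcl⟩ : G) := fun r hr => by
      obtain ⟨t, ht⟩ := α.surjective ⟨r, hr⟩
      have h1 : (⟨c, hcl⟩ : E l) * t = t * ⟨c, hcl⟩ := Subtype.ext (mem_center_iff.1 hc t).symm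
      have h2 := congrArg (fun q : E l => (q : G)) (congrArg α h1)
      simp only [map_mul, ht, Subgroup.coe_mul] at h2
      exact h2
    rw [hsd]
    by_cases hab : w * w' = w' * w
    · rw [(show Commute (w ^ s * w' ^ j) d from mem_center_iff.1 hdc _).mul_pow,
        ((show Commute w w' from hab).zpow_zpow s j).mul_pow, ← zpow_natCast (w ^ s), ← zpow_mul, mul_comm s,
        zpow_mul, zpow_natCast, hwp, one_zpow, ← zpow_natCast (w' ^ j), ← zpow_mul, mul_comm j, zpow_mul,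
        zpow_natCast, hwp', one_zpow, one_mul, one_mul]
    · have hzero : ∀ {u v : G} {t : ℤ}, u ^ p = 1 → Commute (u ^ t) v → ¬ Commute u v → (t : ZMod p) = 0 := by
        intro u v t hu hcv hne
        by_contra ht
        refine hne (mem_centralizer_singleton_iff.1
          (CfsgLib.Fusion.RankThree.mem_of_zpow_mem (H := centralizer ({v} : Set G)) (by rw [hu]; exact one_mem _)
            (mem_centralizer_singleton_iff.2 hcv) ht))
      have hj : (j : ZMod p) = 0 := by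
        refine hzero hwp' ?_ fun hh => hab hh.symm.eq
        have h3 : Commute (α ⟨c, hcl⟩ : G) w := hcomm w hw
        rw [hsd] at h3
        have h4 := (((Commute.refl w).zpow_left s).inv_left.mul_left h3).mul_left
          (show Commute d⁻¹ w from (show Commute d w from (mem_center_iff.1 hdc w).symm).inv_left)
        simpa [mul_assoc] using h4
      rw [CfsgLib.Fusion.LineTorus.zpow_congr hwp' (r := j) (s := 0) (by simpa using hj), zpow_zero, mul_one] at hsd ⊢
      have hs : (s : ZMod p) = 0 := by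
        refine hzero hwp ?_ hab
        have h3 : Commute (α ⟨c, hcl⟩ : G) w' := hcomm w' (β ⟨w, hw⟩).2
        rw [hsd] at h3
        have h4 := h3.mul_left (show Commute d⁻¹ w' from (show Commute d w' from (mem_center_iff.1 hdc w').symm).inv_left)
        simpa [mul_assoc] using h4
      rw [CfsgLib.Fusion.LineTorus.zpow_congr hwp (r := s) (s := 0) (by simpa using hs), zpow_zero, one_mul]
  intro r hr
  have hgen : ∀ x ∈ closure ((fun c : G => c ^ p) '' (center G : Set G)), ∀ hx : x ∈ E l,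
      (α ⟨x, hx⟩ : G) ∈ closure ((fun c : G => c ^ p) '' (center G : Set G)) := by
    intro x hx
    induction hx using Subgroup.closure_induction with
    | mem x hx =>
      intro hxl
      obtain ⟨c, hc, rfl⟩ := hx
      obtain ⟨d, hd, hdp⟩ := key c hc (h.center_le l hc)
      have : (⟨c ^ p, hxl⟩ : E l) = ⟨c, h.center_le l hc⟩ ^ p := Subtype.ext rfl
      rw [this, map_pow, Subgroup.coe_pow, hdp]
      exact subset_closure ⟨d, hd, rfl⟩
    | one =>
      intro hxl
      rw [show (⟨1, hxl⟩ : E l) = 1 from rfl, map_one]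
      exact one_mem _
    | mul a b ha hb iha ihb =>
      intro hxl
      have hle : closure ((fun c : G => c ^ p) '' (center G : Set G)) ≤ E l := (closure_le _).2 (by
        rintro _ ⟨c, hc, rfl⟩; exact pow_mem (h.center_le l hc) p)
      rw [show (⟨a * b, hxl⟩ : E l) = ⟨a, hle ha⟩ * ⟨b, hle hb⟩ from rfl, map_mul]
      exact mul_mem (iha _) (ihb _)
    | inv a ha iha =>
      intro hxl
      rw [show (⟨a⁻¹, hxl⟩ : E l) = (⟨a, inv_inv a ▸ inv_mem hxl⟩ : E l)⁻¹ from rfl, map_inv]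
      exact inv_mem (iha _)
  exact hgen r hr r.2

/-- A central common subgroup, order `p ^ 3`, or order `p ^ 4`. -/
theorem Fam.small_or_cube {i k : I} {z : G} (hz : z ∈ omz p (E i)) (hzk : z ∉ E k) :
    CentralCommon E X Γ ∨ Nat.card G = p ^ 3 ∨ (Nat.card G = p ^ 4 ∧ (∀ c ∈ center G, c ^ p = 1) ∧ (∀ l, Nat.card (E l) = p ^ 3) ∧
      (∀ a ∈ E i, ∀ b ∈ E i, a * b = b * a) ∧ ∀ a ∈ E i, a ^ p = 1) := by
  refine (h.center_powers hz hzk).imp_right fun hel => ?_
  have hp := (Fact.out : p.Prime)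
  have hab : ∀ a ∈ E i, ∀ b ∈ E i, a * b = b * a := by
    intro a ha b hb
    obtain ⟨o, ho, c, hc, rfl⟩ := h.exists_decomp hz hzk ha
    exact ((show Commute o b from ho.2.1 b hb).mul_left (show Commute c b from (mem_center_iff.1 hc b).symm)).eq
  have hexp : ∀ a ∈ E i, a ^ p = 1 := by
    intro a ha
    obtain ⟨o, ho, c, hc, rfl⟩ := h.exists_decomp hz hzk ha
    rw [(show Commute o c from mem_center_iff.1 hc o).mul_pow, ho.2.2, hel c hc, one_mul]
  obtain ⟨α, hα, e, w, hw, hax, -⟩ := h.exists_axis hz hzk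
  have hle := card_elementary_le (h.piv i).rank (E i) hab hexp
  have hki : Nat.card (E k) = Nat.card (E i) :=
    Nat.eq_of_mul_eq_mul_left hp.pos ((h.piv k).index.symm.trans (h.piv i).index)
  set D : Subgroup G := E k ⊓ E i ⊓ img α (E k ⊓ E i) with hDdef
  by_cases h0 : Nat.card D = 1
  · exact Or.inl (by rw [(h.piv k).index, hax.card, h0]; ring)
  have hm0 : ∀ m, Nat.card D = p ^ m → m ≠ 0 := fun m hm hm' => h0 (by rw [hm, hm', pow_zero])
  refine Or.inr ?_
  have hD : Nat.card D = p := by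
    rw [← hki, hax.card, show p * p * Nat.card D = Nat.card D * p ^ 2 by ring, show p ^ 3 = p * p ^ 2 by ring] at hle
    have hDle := Nat.le_of_mul_le_mul_right hle (pow_pos hp.pos 2)
    obtain ⟨m, hm⟩ := ((h.piv k).pgroup.to_subgroup D).exists_card_eq
    exact le_antisymm hDle (hm ▸ Nat.le_self_pow (hm0 m hm) p)
  have h3 : Nat.card (E k) = p ^ 3 := by rw [hax.card, hD]; ring
  refine ⟨by rw [(h.piv k).index, h3]; ring, hel, fun l => ?_, hab, hexp⟩
  rw [← h3]
  exact Nat.eq_of_mul_eq_mul_left hp.pos ((h.piv l).index.symm.trans (h.piv k).index)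

/-- Either a central common subgroup or order `p ^ 4`, in sectional rank three. -/
theorem Fam.small (hnot : ¬ Cfsg.SectionalPRankLE p 2 G) {i k : I} {z : G} (hz : z ∈ omz p (E i)) (hzk : z ∉ E k) :
    CentralCommon E X Γ ∨ (Nat.card G = p ^ 4 ∧ (∀ c ∈ center G, c ^ p = 1) ∧ (∀ l, Nat.card (E l) = p ^ 3) ∧
      (∀ a ∈ E i, ∀ b ∈ E i, a * b = b * a) ∧ ∀ a ∈ E i, a ^ p = 1) := by
  refine (h.small_or_cube hz hzk).imp_right fun hc => hc.resolve_left fun h3 => hnot ?_
  obtain ⟨α, hα, e, w, hw, hax, -⟩ := h.exists_axis hz hzk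
  refine sectional_two_of_cube (h.piv k).pgroup h3 fun hall => (h.piv k).ne_top ?_
  exact eq_top_iff.2 fun g _ => h.center_le k (mem_center_iff.2 fun y => hall y g)

/-- A nonabelian member gives the shape. -/
theorem Fam.shape {i k : I} {z : G} (hz : z ∈ omz p (E i)) (hzk : z ∉ E k)
    (hsm : Nat.card G = p ^ 4 ∧ (∀ c ∈ center G, c ^ p = 1) ∧ (∀ l, Nat.card (E l) = p ^ 3) ∧
      (∀ a ∈ E i, ∀ b ∈ E i, a * b = b * a) ∧ ∀ a ∈ E i, a ^ p = 1)
    (hna : ¬ ∀ a ∈ E k, ∀ b ∈ E k, a * b = b * a) : Shape p G := by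
  obtain ⟨h4, -, h3, hab, hexp⟩ := hsm
  obtain ⟨α, hα, e, w, hw, hax, -, hwp, hwp'⟩ := h.exists_axis hz hzk
  set w' : G := (α ⟨w, hw⟩ : G) with hw'
  have hw'E : w' ∈ E k := (α ⟨w, hw⟩).2
  have hnc : ¬ Commute w w' := fun hc => hna fun a ha b hb => by
    obtain ⟨s, j, d, hd, rfl⟩ := hax.dec a ha
    obtain ⟨s', j', d', hd', rfl⟩ := hax.dec b hb
    have e1 : ∀ y, Commute d y := fun y => (mem_center_iff.1 (hax.central hd) y).symm
    have e2 : ∀ y, Commute d' y := fun y => (mem_center_iff.1 (hax.central hd') y).symm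
    have e3 : Commute (w ^ s * w' ^ j) (w ^ s' * w' ^ j') :=
      (((Commute.refl w).zpow_zpow s s').mul_right (hc.zpow_zpow s j')).mul_left
        ((hc.symm.zpow_zpow j s').mul_right ((Commute.refl w').zpow_zpow j j'))
    exact ((e3.mul_right (e2 _).symm).mul_left (e1 _)).eq
  refine ⟨E i, hn i, h4, h3 i, hab, hexp, w'⁻¹, fun hh => hax.moved ⟨hw'E, by simpa using inv_mem hh⟩,
    by rw [inv_pow, hwp', inv_one], z, hz.1, ?_⟩
  have hc1 : ⁅w'⁻¹, z⁆ ∈ E k ⊓ E i := by
    refine ⟨?_, ?_⟩ <;> rw [commutatorElement_def]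
    · rw [mul_assoc, mul_assoc]
      exact mul_mem ((E k).inv_mem hw'E) (by rw [← mul_assoc]; simpa using (hn k).conj_mem w' hw'E z)
    · exact mul_mem ((hn i).conj_mem z hz.1 w'⁻¹) ((E i).inv_mem hz.1)
  obtain ⟨s, j, d, hd, hsd⟩ := hax.dec _ hc1.1
  have hj : (j : ZMod p) = 0 := by
    by_contra hj0
    refine hax.moved (CfsgLib.Fusion.RankThree.mem_of_zpow_mem (by rw [hwp']; exact one_mem _) ?_ hj0)
    have h1 := mul_mem (mul_mem (inv_mem (zpow_mem hax.wH s)) hc1) (inv_mem hd.1)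
    rw [hsd] at h1
    convert h1 using 1
    group
  rw [CfsgLib.Fusion.LineTorus.zpow_congr hwp' (r := j) (s := 0) (by simpa using hj), zpow_zero, mul_one] at hsd
  intro hcon
  rw [commutatorElement_eq_one_iff_mul_comm, hsd] at hcon
  have hs : (s : ZMod p) ≠ 0 := fun hs => by
    refine hax.act ?_
    rw [CfsgLib.Fusion.LineTorus.zpow_congr hwp (r := s) (s := 0) (by simpa using hs), zpow_zero, one_mul] at hsd
    rw [← hw', show w'⁻¹ * (z * w' * z⁻¹) = ⁅w'⁻¹, z⁆ by rw [commutatorElement_def]; group, hsd]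
    exact hd
  have h5 : Commute (w ^ s) w' := by
    have h6 : Commute w'⁻¹ (w ^ s) := by
      have h7 := (show Commute w'⁻¹ (w ^ s * d) from hcon).mul_right
        (show Commute w'⁻¹ d⁻¹ from (show Commute w'⁻¹ d from mem_center_iff.1 (hax.central hd) _).inv_right)
      rwa [mul_inv_cancel_right] at h7
    simpa using h6.symm.inv_right
  exact hnc (mem_centralizer_singleton_iff.1 (CfsgLib.Fusion.RankThree.mem_of_zpow_mem
    (H := centralizer ({w'} : Set G)) (by rw [hwp]; exact one_mem _) (mem_centralizer_singleton_iff.2 h5) hs))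

end CfsgLib.Fusion.IndexFamily
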