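import Cfsg.Agent.Lib.Fusion.System.RankThree.NormalFamily.Coordinates
import Cfsg.Agent.Lib.Classical.SpOrder

/-!
# A Sylow `p`-subgroup of `Sp₄(p)` for odd `p`
-/

set_option autoImplicit false
set_option linter.style.haveILetI false
set_option linter.unusedSectionVars false

open Matrix

namespace CfsgLib.Fusion.IndexFamily

variable {p : ℕ} [Fact p.Prime]

local notation "M2" => Matrix (Fin 2) (Fin 2) (ZMod p)
local notation "Sp4" => Matrix.symplecticGroup (Fin 2) (ZMod p)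

/-- The upper unitriangular element with a symmetric block. -/
def upperElt (S : M2) (hS : Sᵀ = S) : Sp4 :=
  ⟨fromBlocks 1 S 0 1, by
    rw [SymplecticGroup.mem_iff, Matrix.J, fromBlocks_transpose, fromBlocks_multiply, fromBlocks_multiply]
    simp [hS]⟩

/-- The element acting on both Lagrangian halves. -/
def leviElt : Sp4 :=
  ⟨fromBlocks !![1, 1; 0, 1] 0 0 !![1, 0; -1, 1], by
    rw [SymplecticGroup.mem_iff, Matrix.J, fromBlocks_transpose, fromBlocks_multiply, fromBlocks_multiply]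
    congr 1 <;> ext i j <;> fin_cases i <;> fin_cases j <;> simp [Matrix.vecMul, dotProduct, Fin.sum_univ_two]⟩

theorem upperElt_mul (S S' : M2) (hS : Sᵀ = S) (hS' : S'ᵀ = S') :
    upperElt S hS * upperElt S' hS' = upperElt (S + S') (by rw [transpose_add, hS, hS']) := by
  refine Subtype.ext ?_
  show fromBlocks 1 S 0 1 * fromBlocks 1 S' 0 1 = fromBlocks 1 (S + S') 0 1
  rw [fromBlocks_multiply]
  simp [add_comm]

theorem upperElt_commute (S S' : M2) (hS : Sᵀ = S) (hS' : S'ᵀ = S') :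
    Commute (upperElt S hS) (upperElt S' hS') := by
  refine Subtype.ext ?_
  rw [upperElt_mul, upperElt_mul]
  exact congrArg (fun T => fromBlocks 1 T 0 1) (add_comm S S')

theorem upperElt_pow (S : M2) (hS : Sᵀ = S) (n : ℕ) :
    ((upperElt S hS ^ n : Sp4) : Matrix (Fin 2 ⊕ Fin 2) (Fin 2 ⊕ Fin 2) (ZMod p)) = fromBlocks 1 (n • S) 0 1 := by
  induction n with
  | zero => simp
  | succ n ih =>
    rw [pow_succ, Submonoid.coe_mul, ih, succ_nsmul]
    show fromBlocks 1 (n • S) 0 1 * fromBlocks 1 S 0 1 = _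
    rw [fromBlocks_multiply]
    simp [add_comm]

theorem upperElt_pow_p (S : M2) (hS : Sᵀ = S) : upperElt S hS ^ p = 1 := by
  refine Subtype.ext ?_
  rw [upperElt_pow]
  simp

theorem leviElt_pow (n : ℕ) :
    (((leviElt : Sp4) ^ n : Sp4) : Matrix (Fin 2 ⊕ Fin 2) (Fin 2 ⊕ Fin 2) (ZMod p)) =
      fromBlocks !![1, (n : ZMod p); 0, 1] 0 0 !![1, 0; -(n : ZMod p), 1] := by
  induction n with
  | zero => rw [pow_zero, OneMemClass.coe_one, Nat.cast_zero, neg_zero, ← Matrix.one_fin_two, fromBlocks_one]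
  | succ n ih =>
    rw [pow_succ, Submonoid.coe_mul, ih]
    show _ * fromBlocks !![1, 1; 0, 1] 0 0 !![1, 0; -1, 1] = _
    rw [fromBlocks_multiply]
    congr 1 <;> ext i j <;> fin_cases i <;> fin_cases j <;> simp [Matrix.mul_apply, Fin.sum_univ_two] <;> ring

/-- Blocks of a product of matrices that are the identity on the first half. -/
theorem fixFirst_mul {a b : Matrix (Fin 2 ⊕ Fin 2) (Fin 2 ⊕ Fin 2) (ZMod p)}
    (ha : a.toBlocks₁₁ = 1 ∧ a.toBlocks₂₁ = 0) (hb : b.toBlocks₁₁ = 1 ∧ b.toBlocks₂₁ = 0) :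
    (a * b).toBlocks₁₁ = 1 ∧ (a * b).toBlocks₂₁ = 0 := by
  rw [← fromBlocks_toBlocks a, ← fromBlocks_toBlocks b, fromBlocks_multiply, toBlocks_fromBlocks₁₁,
    toBlocks_fromBlocks₂₁, ha.1, ha.2, hb.1, hb.2]
  simp

/-- The elements that are the identity on the first half. -/
def fixFirst : Subgroup Sp4 where
  carrier := {g | (g : Matrix (Fin 2 ⊕ Fin 2) (Fin 2 ⊕ Fin 2) (ZMod p)).toBlocks₁₁ = 1 ∧
    (g : Matrix (Fin 2 ⊕ Fin 2) (Fin 2 ⊕ Fin 2) (ZMod p)).toBlocks₂₁ = 0}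
  one_mem' := by
    rw [Set.mem_setOf_eq, OneMemClass.coe_one, ← fromBlocks_one]
    exact ⟨toBlocks_fromBlocks₁₁ _ _ _ _, toBlocks_fromBlocks₂₁ _ _ _ _⟩
  mul_mem' := fun {a b} ha hb => fixFirst_mul ha hb
  inv_mem' := by
    intro a ha
    have hfin : Finite (Matrix.symplecticGroup (Fin 2) (ZMod p)) := Subtype.finite
    obtain ⟨n, hn⟩ := Nat.exists_eq_succ_of_ne_zero (orderOf_pos a).ne'
    have h1 : a⁻¹ = a ^ n := inv_eq_of_mul_eq_one_right (by rw [← pow_succ', ← Nat.succ_eq_add_one, ← hn, pow_orderOf_eq_one])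
    rw [h1]
    clear h1 hn
    induction n with
    | zero =>
      rw [pow_zero, Set.mem_setOf_eq, OneMemClass.coe_one, ← fromBlocks_one]
      exact ⟨toBlocks_fromBlocks₁₁ _ _ _ _, toBlocks_fromBlocks₂₁ _ _ _ _⟩
    | succ n ih =>
      rw [pow_succ]
      exact fixFirst_mul ih ha

/-- A Sylow subgroup of `Sp₄(p)` has coordinates. -/
theorem exists_sylow_chart (hodd : p ≠ 2) :
    ∃ P : Sylow p Sp4, IsChart p (P : Subgroup Sp4) := by
  have hp := (Fact.out : p.Prime)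
  haveI : Finite Sp4 := Subtype.finite
  haveI : NeZero p := ⟨hp.ne_zero⟩
  have h2 : (2 : ZMod p) ≠ 0 := by
    intro h0
    rw [show (2 : ZMod p) = ((2 : ℕ) : ZMod p) by norm_num, ZMod.natCast_eq_zero_iff,
      Nat.prime_dvd_prime_iff_eq hp Nat.prime_two] at h0
    exact hodd h0
  obtain ⟨z, hz⟩ : ∃ z : Sp4, z = upperElt !![0, 0; 0, 1] (by ext i j; fin_cases i <;> fin_cases j <;> rfl) := ⟨_, rfl⟩
  obtain ⟨y, hy⟩ : ∃ y : Sp4, y = upperElt !![1, 1; 1, 0] (by ext i j; fin_cases i <;> fin_cases j <;> rfl) := ⟨_, rfl⟩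
  obtain ⟨w, hw⟩ : ∃ w : Sp4, w = upperElt !![2, 0; 0, 0] (by ext i j; fin_cases i <;> fin_cases j <;> rfl) := ⟨_, rfl⟩
  obtain ⟨e, he⟩ : ∃ e : Sp4, e = leviElt := ⟨_, rfl⟩
  have hep : e ^ p = 1 := Subtype.ext (by rw [he, leviElt_pow, ZMod.natCast_self, neg_zero, ← Matrix.one_fin_two]; simp)
  have hco : Coords p z y w e := by
    subst hz hy hw
    refine ⟨upperElt_commute _ _ _ _, upperElt_commute _ _ _ _, upperElt_commute _ _ _ _, upperElt_pow_p _ _,
      upperElt_pow_p _ _, upperElt_pow_p _ _, hep, ?_, ?_, ?_⟩ <;>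
    · subst he
      refine Subtype.ext ?_
      simp only [Submonoid.coe_mul]
      show fromBlocks _ _ _ _ * fromBlocks _ _ _ _ = _
      simp only [upperElt, leviElt, fromBlocks_multiply]
      congr 1 <;> ext i j <;> fin_cases i <;> fin_cases j <;>
        simp [Matrix.mul_apply, Fin.sum_univ_two] <;> ring
  have hmem : ∀ (S : M2) (hS : Sᵀ = S), upperElt S hS ∈ fixFirst (p := p) := fun S hS =>
    ⟨toBlocks_fromBlocks₁₁ _ _ _ _, toBlocks_fromBlocks₂₁ _ _ _ _⟩
  have hw1 : w ≠ 1 := by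
    intro h1
    subst hw
    have h3 := congrArg (fun g : Sp4 => (g : Matrix (Fin 2 ⊕ Fin 2) (Fin 2 ⊕ Fin 2) (ZMod p)) (Sum.inl 0) (Sum.inr 0)) h1
    simp [upperElt] at h3
    exact h2 h3
  have heA : e ∉ fixFirst (p := p) := by
    rintro ⟨h1, -⟩
    subst he
    have h3 := congrFun (congrFun h1 0) 1
    simp [leviElt, toBlocks₁₁] at h3
  have hinj := hco.injective (hz ▸ hmem _ _) (hy ▸ hmem _ _) (hw ▸ hmem _ _) heA hw1
  let H : Subgroup Sp4 :=
    { carrier := Set.range (normalWord z y w e)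
      one_mem' := ⟨(0, 0, 0, 0), by simp [normalWord, abPart]⟩
      mul_mem' := by
        rintro _ _ ⟨x, rfl⟩ ⟨x', rfl⟩
        exact ⟨combine x x', (hco.word_mul x x').symm⟩
      inv_mem' := by
        rintro _ ⟨x, rfl⟩
        obtain ⟨n, hn⟩ := Nat.exists_eq_succ_of_ne_zero (orderOf_pos (normalWord z y w e x)).ne'
        rw [inv_eq_of_mul_eq_one_right (b := normalWord z y w e x ^ n)
          (by rw [← pow_succ', ← Nat.succ_eq_add_one, ← hn, pow_orderOf_eq_one])]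
        clear hn
        induction n with
        | zero => exact ⟨(0, 0, 0, 0), by simp [normalWord, abPart]⟩
        | succ n ih =>
          obtain ⟨x', hx'⟩ := ih
          exact ⟨combine x' x, by rw [pow_succ, ← hx', hco.word_mul]⟩ }
  obtain ⟨zH, hzH⟩ : ∃ a : H, (a : Sp4) = z := ⟨⟨z, (1, 0, 0, 0), by simp [normalWord, abPart]⟩, rfl⟩
  obtain ⟨yH, hyH⟩ : ∃ a : H, (a : Sp4) = y := ⟨⟨y, (0, 1, 0, 0), by simp [normalWord, abPart]⟩, rfl⟩
  obtain ⟨wH, hwH⟩ : ∃ a : H, (a : Sp4) = w := ⟨⟨w, (0, 0, 1, 0), by simp [normalWord, abPart]⟩, rfl⟩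
  obtain ⟨eH, heH⟩ : ∃ a : H, (a : Sp4) = e := ⟨⟨e, (0, 0, 0, 1), by simp [normalWord, abPart]⟩, rfl⟩
  have hval : ∀ x, ((normalWord zH yH wH eH x : H) : Sp4) = normalWord z y w e x := fun x => by
    rw [← hzH, ← hyH, ← hwH, ← heH]
    exact map_normalWord H.subtype x
  have hbij : Function.Bijective fun q : Fin p × Fin p × Fin p × Fin p => normalWord zH yH wH eH (quadVal q) := by
    refine ⟨fun q q' hq => hinj ?_, fun a => ?_⟩
    · have h1 := congrArg (fun a : H => (a : Sp4)) hq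
      simpa only [hval] using h1
    · obtain ⟨x, hx⟩ := a.2
      exact ⟨quadRed p x, Subtype.ext (by rw [hval, hco.word_red, hx])⟩
  have hcoH : Coords p zH yH wH eH := by
    refine ⟨?_, ?_, ?_, ?_, ?_, ?_, ?_, ?_, ?_, ?_⟩ <;>
      refine Subtype.ext ?_ <;> simp only [Subgroup.coe_mul, SubmonoidClass.coe_pow, OneMemClass.coe_one, hzH, hyH, hwH, heH]
    exacts [hco.zy, hco.zw, hco.yw, hco.zp, hco.yp, hco.wp, hco.ep, hco.cz, hco.cy, hco.cw]
  have hcH : Nat.card H = p ^ 4 := by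
    rw [← Nat.card_eq_of_bijective _ hbij]
    simp only [Nat.card_prod, Nat.card_fin]
    ring
  have hcard : Nat.card Sp4 = p ^ 4 * ((p ^ 2 - 1) * (p ^ 4 - 1)) := by
    rw [CfsgLib.Classical.card_symplectic, ZMod.card, Finset.prod_range_succ, Finset.prod_range_succ,
      Finset.prod_range_zero]
    ring_nf
  have hidx : H.index = (p ^ 2 - 1) * (p ^ 4 - 1) := by
    have h1 := H.card_mul_index
    rw [hcH, hcard] at h1
    exact Nat.eq_of_mul_eq_mul_left (pow_pos hp.pos 4) h1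
  have hnd : ¬ p ∣ H.index := by
    rw [hidx]
    intro hd
    have hk : ∀ k, 0 < k → ¬ p ∣ p ^ k - 1 := fun k hk hd' => hp.ne_one (Nat.dvd_one.1 (by
      have h1 := Nat.dvd_sub (dvd_pow_self p hk.ne') hd'
      rwa [Nat.sub_sub_self (Nat.one_le_pow _ _ hp.pos)] at h1))
    rcases hp.dvd_mul.1 hd with h | h
    · exact hk 2 two_pos h
    · exact hk 4 four_pos h
  exact ⟨(IsPGroup.of_card hcH).toSylow hnd, zH, yH, wH, eH, hcoH, hbij⟩

end CfsgLib.Fusion.IndexFamily
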