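import Cfsg.Agent.Lib.Fusion.System.RankThree.Fusion
import Cfsg.Agent.Lib.Fusion.System.RankThree.NormalFamily.Main
import Cfsg.Agent.Lib.Fusion.System.Normal

/-!
# Normal essential subgroups of a saturated system as a family

Normal essential subgroups and their images under the automizer of `S` form a family; in sectional
rank three they have a common invariant subgroup or `S` has the shape of a Sylow subgroup of
`Sp₄(p)`.
-/

set_option autoImplicit false
set_option linter.style.haveILetI false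
set_option linter.unusedSectionVars false

open Subgroup

namespace CfsgLib.Fusion.IndexFamily

open Cfsg (FusionSystem autInducedBy)
open Cfsg.FusionSystem (normalizerIn)
open CfsgLib.Fusion.RankThree (InvE inNrm nrmAut nrm_parts mem_nrmAut_iff)

universe u

section Transport

variable {G : Type u} [Group G] [Finite G] {p : ℕ} [Fact p.Prime]

/-- The automizer of a subgroup moved along an automorphism of the ambient group. -/
noncomputable def movX {E : Subgroup G} (γ : MulAut G) (X : Subgroup (MulAut E)) :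
    Subgroup (MulAut (E.map γ.toMonoidHom)) :=
  X.map (MulAut.congr (E.equivMapOfInjective γ.toMonoidHom γ.injective)).toMonoidHom

theorem mem_movX {E : Subgroup G} {γ : MulAut G} {X : Subgroup (MulAut E)}
    {α' : MulAut (E.map γ.toMonoidHom)} :
    α' ∈ movX γ X ↔ ∃ α ∈ X, ∀ (r : E) (r' : E.map γ.toMonoidHom), (r' : G) = γ r → (α' r' : G) = γ (α r : G) := by
  set e := E.equivMapOfInjective γ.toMonoidHom γ.injective with he
  have hev : ∀ r : E, ((e r : E.map γ.toMonoidHom) : G) = γ r := fun r => rfl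
  constructor
  · rintro ⟨α, hα, rfl⟩
    refine ⟨α, hα, fun r r' hr' => ?_⟩
    rw [show r' = e r from Subtype.ext (hr'.trans (hev r).symm)]
    show ((e (α (e.symm (e r))) : E.map γ.toMonoidHom) : G) = _
    rw [e.symm_apply_apply, hev]
  · rintro ⟨α, hα, h⟩
    refine ⟨α, hα, MulEquiv.ext fun r' => Subtype.ext ?_⟩
    show ((e (α (e.symm r')) : E.map γ.toMonoidHom) : G) = _
    rw [hev, h (e.symm r') r' (by rw [← hev, e.apply_symm_apply])]

/-- Moving a pivot along an element of `Γ`. -/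
theorem Piv.mov {E : Subgroup G} [E.Normal] {X : Subgroup (MulAut E)} {Γ : Subgroup (MulAut G)}
    (h : Piv p E X Γ) {γ : MulAut G} (hγ : γ ∈ Γ) [(E.map γ.toMonoidHom).Normal] :
    Piv p (E.map γ.toMonoidHom) (movX γ X) Γ := by
  haveI := finite_mulAut E
  set e := E.equivMapOfInjective γ.toMonoidHom γ.injective with he
  set C := MulAut.congr e with hC
  have hev : ∀ r : E, ((e r : E.map γ.toMonoidHom) : G) = γ r := fun r => rfl
  have hcn : ∀ g : G, MulAut.conjNormal (H := E.map γ.toMonoidHom) (γ g) = C (MulAut.conjNormal g) := by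
    intro g
    refine MulEquiv.ext fun r' => Subtype.ext ?_
    show _ = ((e (MulAut.conjNormal g (e.symm r')) : E.map γ.toMonoidHom) : G)
    rw [MulAut.conjNormal_apply, hev, MulAut.conjNormal_apply, map_mul, map_mul, map_inv,
      show γ ((e.symm r' : E) : G) = r' by rw [← hev, e.apply_symm_apply]]
  have hrange : (MulAut.conjNormal (H := E.map γ.toMonoidHom)).range =
      (MulAut.conjNormal (H := E)).range.map C.toMonoidHom := by
    ext α
    constructor
    · rintro ⟨g', rfl⟩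
      exact ⟨_, ⟨γ⁻¹ g', rfl⟩, (hcn (γ⁻¹ g')).symm.trans (by rw [MulAut.apply_inv_self])⟩
    · rintro ⟨_, ⟨g, rfl⟩, rfl⟩
      exact ⟨γ g, hcn g⟩
  have hXdef : movX γ X = X.map C.toMonoidHom := rfl
  refine ⟨h.odd, h.pgroup, h.rank, ?_, fun g' hg' => ?_, ?_, ?_, fun Y hY hn hp => ?_, fun α' hα' hn => ?_⟩
  · rw [card_map_of_injective γ.injective, h.index]
  · refine ⟨γ⁻¹ g', h.cent _ fun x hx => γ.injective ?_, MulAut.apply_inv_self G γ g'⟩
    rw [map_mul, map_mul, MulAut.apply_inv_self]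
    exact hg' _ (mem_map_of_mem γ.toMonoidHom hx)
  · rw [hrange, hXdef]; exact map_mono h.qle
  · rw [hrange, hXdef, relIndex_map_map_of_injective _ _ C.injective]; exact h.sylow
  · have h1 := h.core (Y.comap C.toMonoidHom) (fun y hy => by
      obtain ⟨x, hx, hxy⟩ := hY hy
      rwa [← C.injective hxy]) (fun α hα y hy => by
      show C (α * y * α⁻¹) ∈ Y
      rw [map_mul, map_mul, map_inv]
      exact hn _ (mem_map_of_mem C.toMonoidHom hα) _ hy) (hp.comap_of_injective _ C.injective)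
    intro y hy
    obtain ⟨c, hc⟩ := h1 (show C (C.symm y) ∈ Y by rwa [C.apply_symm_apply])
    refine ⟨e c, ?_⟩
    rw [← C.apply_symm_apply y, ← hc]
    refine MulEquiv.ext fun r' => ?_
    show e c * r' * (e c)⁻¹ = e (c * e.symm r' * c⁻¹)
    rw [map_mul, map_mul, map_inv, e.apply_symm_apply]
  · obtain ⟨α, hα, rfl⟩ := hα'
    have hn' : α ∈ normalizer ((MulAut.conjNormal (H := E)).range : Set (MulAut E)) := by
      refine mem_normalizer_iff.2 fun y => ?_
      have h1 := mem_normalizer_iff.1 hn (C y)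
      rw [hrange, MulEquiv.coe_toMonoidHom, ← map_inv C, ← map_mul, ← map_mul] at h1
      exact ⟨fun hy => (mem_map_iff_mem (f := C.toMonoidHom) C.injective).1 (h1.1 (mem_map_of_mem C.toMonoidHom hy)),
        fun hy => (mem_map_iff_mem (f := C.toMonoidHom) C.injective).1 (h1.2 (mem_map_of_mem C.toMonoidHom hy))⟩
    obtain ⟨β, hβ, hβα⟩ := h.ext α hα hn'
    refine ⟨γ * β * γ⁻¹, Γ.mul_mem (Γ.mul_mem hγ hβ) (Γ.inv_mem hγ), fun r' => ?_⟩
    show γ (β (γ⁻¹ (r' : G))) = ((e (α (e.symm r')) : E.map γ.toMonoidHom) : G)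
    rw [hev, show γ⁻¹ (r' : G) = (e.symm r' : E) by
      rw [← e.apply_symm_apply r', hev, MulAut.inv_apply_self, e.symm_apply_apply], hβα]

end Transport

variable {Ω : Type u} [Group Ω] {S : Subgroup Ω} [Finite S] {p : ℕ} [Fact p.Prime] {F : FusionSystem S}

/-- A normal essential subgroup gives a pivot. -/
theorem exists_piv_in (hodd : p ≠ 2) (hS : IsPGroup p S) (hr : Cfsg.SectionalPRankLE p 3 S)
    (hF : F.IsSaturated p) {E : Subgroup Ω} (hE : F.IsEssential p E) (N : Subgroup Ω)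
    (hN : normalizerIn S E = N) :
    ∃ (_ : (E.subgroupOf N).Normal) (X : Subgroup (MulAut (E.subgroupOf N))),
      Piv p (E.subgroupOf N) X (F.autGroup N) ∧
      (∀ γ ∈ F.autGroup N, (∀ r ∈ E.subgroupOf N, γ r ∈ E.subgroupOf N) →
        ∃ α ∈ X, ∀ r : E.subgroupOf N, γ r = α r) ∧
      ∀ α ∈ F.autGroup E, ∀ Q : Subgroup N, Q ≤ E.subgroupOf N → InvE X Q →
        ∀ q ∈ Q, autFun α (q : Ω) ∈ Q.map N.subtype := by
  subst hN
  have hES := hE.1.1
  have hle := le_normalizerIn (S := S) hES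
  haveI := finite_of_le hES
  obtain ⟨h1, h2, h3, h4, h5, h6, h7, h8⟩ := nrm_parts hS hr hF hE
  refine ⟨CfsgLib.Fusion.RankThree.inNrm_normal S E, nrmAut F hES, ⟨hodd, h1, h2, h3, h4, h5, h6, h7, h8⟩,
    fun γ hγ hγE => ?_, fun α hα Q hQE hQi q hq => ?_⟩
  · have hm := ((mem_autGroup_iff inf_le_left).1 hγ).mono hle
    have himg : CfsgLib.Fusion.img E (autFun γ) = E := by
      refine img_eq_of_map_le hES hm le_rfl fun x hx => ?_
      rw [autFun_apply γ (hle hx)]
      exact hγE ⟨x, hle hx⟩ hx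
    refine ⟨(MulAut.congr (subgroupOfEquivOfLe hle)).symm (autOf hm himg),
      (mem_nrmAut_iff hES).2 (by rw [MulEquiv.apply_symm_apply]; exact autOf_mem hm himg), fun r => Subtype.ext ?_⟩
    have h1 := autFun_autOf hm himg (x := ((r : normalizerIn S E) : Ω)) (mem_subgroupOf.1 r.2)
    rw [autFun_apply _ (mem_subgroupOf.1 r.2)] at h1
    refine Eq.trans ?_ (h1.symm.trans rfl)
    exact (autFun_coe γ (r : normalizerIn S E)).symm
  set α' := (MulAut.congr (subgroupOfEquivOfLe hle)).symm α with hα'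
  have hα'X : α' ∈ nrmAut F hES := (mem_nrmAut_iff hES).2 (by rw [hα', MulEquiv.apply_symm_apply]; exact hα)
  refine ⟨(α' ⟨q, hQE hq⟩ : normalizerIn S E), hQi α' hα'X ⟨q, hQE hq⟩ hq, ?_⟩
  rw [autFun_apply α (mem_subgroupOf.1 (hQE hq))]
  rfl

/-- Normal essential subgroups give the alternative. -/
theorem exists_common_or_shape (hodd : p ≠ 2) (hS : IsPGroup p S) (hr : Cfsg.SectionalPRankLE p 3 S)
    (hnot : ¬ Cfsg.SectionalPRankLE p 2 S) (hF : F.IsSaturated p) (P : Subgroup Ω → Prop)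
    (hP : ∀ E, P E → F.IsEssential p E ∧ S ≤ normalizer (E : Set Ω)) (hne : ∃ E, P E) :
    Shape p S ∨ ∃ Q : Subgroup Ω, Q ≠ ⊥ ∧ Q ≤ S ∧ (∀ α ∈ F.autGroup S, ∀ q ∈ Q, autFun α q ∈ Q) ∧
      ∀ E, P E → Q ≤ E ∧ ∀ α ∈ F.autGroup E, ∀ q ∈ Q, autFun α q ∈ Q := by
  haveI := CfsgLib.Fusion.finite_mulAut (P := S)
  let I₀ := {E : Subgroup Ω // P E}
  choose hn₀ X₀ hpiv₀ _hres₀ hinv₀ using fun i : I₀ =>
    exists_piv_in hodd hS hr hF (hP i i.2).1 S (inf_eq_left.2 (hP i i.2).2)
  let I := I₀ × (F.autGroup S)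
  let E : I → Subgroup S := fun i => ((i.1 : Subgroup Ω).subgroupOf S).map (i.2 : MulAut S).toMonoidHom
  let X : ∀ i, Subgroup (MulAut (E i)) := fun i => movX (i.2 : MulAut S) (X₀ i.1)
  haveI hn : ∀ i, (E i).Normal := fun i => (hn₀ i.1).map _ (i.2 : MulAut S).surjective
  have hinn : autInducedBy S S = (MulAut.conj (G := S)).range := by
    ext α
    rw [mem_autInducedBy_iff]
    constructor
    · rintro ⟨g, hg, hα⟩
      refine ⟨⟨g, hg⟩, MulEquiv.ext fun x => Subtype.ext ?_⟩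
      rw [← autFun_coe α x, hα x x.2]
      rfl
    · rintro ⟨g, rfl⟩
      exact ⟨g, g.2, fun x hx => by rw [autFun_apply _ hx]; rfl⟩
  have hsyl : ¬ p ∣ (MulAut.conj (G := S)).range.relIndex (F.autGroup S) := by
    rw [← hinn]
    exact ((isFullyAutomized_iff hS).1 (IsSaturated.automized_receptive hS hF isFullyNormalized_self).1).2
  have hfam : Fam p E X (F.autGroup S) := by
    refine ⟨fun i => ?_, fun γ hγ i => ⟨(i.1, ⟨γ, hγ⟩ * i.2), ?_, fun α hα => ?_⟩, hsyl⟩
    · haveI := hn₀ i.1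
      exact (hpiv₀ i.1).mov i.2.2
    · show (((i.1 : Subgroup Ω).subgroupOf S).map (i.2 : MulAut S).toMonoidHom).map γ.toMonoidHom = _
      rw [map_map]
      rfl
    · obtain ⟨α₀, hα₀, hspec⟩ := mem_movX.1 hα
      obtain ⟨α', hα'⟩ : ∃ α', α' = MulAut.congr (((i.1 : Subgroup Ω).subgroupOf S).equivMapOfInjective
          (γ * (i.2 : MulAut S)).toMonoidHom (γ * (i.2 : MulAut S)).injective) α₀ := ⟨_, rfl⟩
      have hmem : α' ∈ movX (γ * (i.2 : MulAut S)) (X₀ i.1) := hα' ▸ mem_map_of_mem _ hα₀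
      refine ⟨α', hmem, fun r r' hr' => ?_⟩
      obtain ⟨r₀, hr₀, hr₀r⟩ := r.2
      rw [hspec ⟨r₀, hr₀⟩ r hr₀r.symm]
      subst hα'
      show ((((i.1 : Subgroup Ω).subgroupOf S).equivMapOfInjective (γ * (i.2 : MulAut S)).toMonoidHom
        (γ * (i.2 : MulAut S)).injective) (α₀ ((((i.1 : Subgroup Ω).subgroupOf S).equivMapOfInjective
        (γ * (i.2 : MulAut S)).toMonoidHom (γ * (i.2 : MulAut S)).injective).symm r')) : S) = _
      have hsymm : (((i.1 : Subgroup Ω).subgroupOf S).equivMapOfInjective (γ * (i.2 : MulAut S)).toMonoidHom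
          (γ * (i.2 : MulAut S)).injective).symm r' = ⟨r₀, hr₀⟩ := by
        rw [MulEquiv.symm_apply_eq]
        refine Subtype.ext ?_
        show (r' : S) = γ ((i.2 : MulAut S) r₀)
        rw [hr', ← hr₀r]
        rfl
      rw [hsymm]
      rfl
  obtain ⟨E₀, hE₀⟩ := hne
  rcases hfam.common_or_shape hnot (⟨E₀, hE₀⟩, 1) with ⟨Q, hQne, hQS, hQE⟩ | hsh
  · refine Or.inr ⟨Q.map S.subtype, fun hb => hQne ((map_eq_bot_iff_of_injective _ S.subtype_injective).1 hb),
      map_subtype_le _, ?_, fun R hR => ?_⟩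
    · rintro α hα _ ⟨q, hq, rfl⟩
      exact ⟨α q, hQS α hα q hq, (autFun_coe α q).symm⟩
    obtain ⟨hle, hinv⟩ := hQE (⟨R, hR⟩, 1)
    have hone : ∀ x : S, ((1 : F.autGroup S) : MulAut S).toMonoidHom x = x := fun x => rfl
    have hQR : Q ≤ R.subgroupOf S := fun q hq => by
      obtain ⟨x, hx, hxq⟩ := hle hq
      rw [hone] at hxq
      exact hxq ▸ hx
    have hQi : InvE (X₀ ⟨R, hR⟩) Q := by
      intro α hα r hr'
      obtain ⟨α', hα'⟩ : ∃ α', α' = MulAut.congr ((R.subgroupOf S).equivMapOfInjective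
          ((1 : F.autGroup S) : MulAut S).toMonoidHom ((1 : F.autGroup S) : MulAut S).injective) α := ⟨_, rfl⟩
      have hmem : α' ∈ X (⟨R, hR⟩, 1) := hα' ▸ mem_map_of_mem _ hα
      have h1 := hinv α' hmem ((R.subgroupOf S).equivMapOfInjective _
          ((1 : F.autGroup S) : MulAut S).injective r) hr'
      subst hα'
      rw [MulAut.congr_apply, MulEquiv.trans_apply, MulEquiv.trans_apply, MulEquiv.symm_apply_apply] at h1
      exact h1
    refine ⟨?_, fun α hα => ?_⟩
    · rintro _ ⟨q, hq, rfl⟩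
      exact hQR hq
    · rintro _ ⟨q, hq, rfl⟩
      exact hinv₀ ⟨R, hR⟩ α hα Q hQR hQi q hq
  · exact Or.inl hsh

/-- If all essential subgroups are normal, a system without normal subgroups has `S` of small shape. -/
theorem shape_of_all_normal (hodd : p ≠ 2) (hS : IsPGroup p S) (hr : Cfsg.SectionalPRankLE p 3 S)
    (hnot : ¬ Cfsg.SectionalPRankLE p 2 S) (hF : F.IsSaturated p) (hO : F.core = ⊥)
    (hall : ∀ E, F.IsEssential p E → S ≤ normalizer (E : Set Ω)) : Shape p S := by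
  have hS1 : S ≠ ⊥ := by
    intro hb
    refine hnot fun H N hN A hA hAe => ?_
    haveI : Subsingleton S := ⟨fun a b => Subtype.ext ((mem_bot.1 (hb ▸ a.2)).trans (mem_bot.1 (hb ▸ b.2)).symm)⟩
    haveI : Subsingleton A := ⟨fun a b => Subtype.ext (by
      obtain ⟨x, hx⟩ := QuotientGroup.mk'_surjective N a
      obtain ⟨y, hy⟩ := QuotientGroup.mk'_surjective N b
      rw [← hx, ← hy, show x = y from Subtype.ext (Subsingleton.elim _ _)])⟩
    rw [Nat.card_unique]
    exact Nat.one_le_pow _ _ (Fact.out : p.Prime).pos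
  have key : ∀ Q : Subgroup Ω, Q ≠ ⊥ → Q ≤ S → (∀ α ∈ F.autGroup S, ∀ q ∈ Q, autFun α q ∈ Q) →
      (∀ E, F.IsEssential p E → Q ≤ E ∧ ∀ α ∈ F.autGroup E, ∀ q ∈ Q, autFun α q ∈ Q) → False := by
    intro Q hQ hQS hQi hQE
    haveI := finite_of_le hQS
    refine hQ (le_bot_iff.1 ((le_core (isNormal_of_invariant hS hF hQS fun P hP => ?_)).trans hO.le))
    rcases hP with hP | hP
    · subst hP
      exact ⟨hQS, fun α hα => img_eq_of_map_le hQS ((mem_autGroup_iff le_rfl).1 hα) hQS (hQi α hα)⟩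
    · exact ⟨(hQE P hP).1, fun α hα =>
        img_eq_of_map_le hQS ((mem_autGroup_iff hP.1.1).1 hα) (hQE P hP).1 ((hQE P hP).2 α hα)⟩
  by_cases hne : ∃ E, F.IsEssential p E
  · rcases exists_common_or_shape hodd hS hr hnot hF (fun E => F.IsEssential p E)
      (fun E hE => ⟨hE, hall E hE⟩) hne with h | ⟨Q, h1, h2, h3, h4⟩
    · exact h
    · exact (key Q h1 h2 h3 h4).elim
  · exact (key S hS1 le_rfl (fun α _ q hq => autFun_mem α hq) fun E hE => absurd ⟨E, hE⟩ hne).elim

end CfsgLib.Fusion.IndexFamily
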