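import Cfsg.Agent.Lib.Fusion.System.RankThree.NormalFamily.Basic
import Cfsg.Agent.Lib.Fusion.System.RankThree.JData
import Cfsg.Agent.Lib.Fusion.System.RankThree.Fusion
import Cfsg.Agent.Lib.PGroup.SchurExponent

/-!
# Two hyperplanes centralized by complements, and the axis of a transvection automorphism
-/

set_option autoImplicit false
set_option linter.style.haveILetI false
set_option linter.unusedSectionVars false

open Subgroup
open scoped commutatorElement

namespace CfsgLib.Fusion.IndexFamily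

open CfsgLib.Fusion.RankThree (card_le_of_section)

universe u

variable {p : ℕ} [Fact p.Prime]

/-- Two normal subgroups of index `p`, with elements in one and not the other commuting with their
intersection: in sectional rank three the intersection is central. -/
theorem central_of_two_hyperplanes {M : Type u} [Group M] [Finite M] (hM : IsPGroup p M)
    (hr : Cfsg.SectionalPRankLE p 3 M) {H H' : Subgroup M} [H.Normal] [H'.Normal]
    (hH : Nat.card M = p * Nat.card H) (hH' : Nat.card M = p * Nat.card H') {w w' : M}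
    (hw : w ∈ H) (hw2 : w ∉ H') (hw' : w' ∈ H') (hw'2 : w' ∉ H)
    (hc : ∀ d ∈ H ⊓ H', w * d = d * w) (hc' : ∀ d ∈ H ⊓ H', w' * d = d * w') :
    H ⊓ H' ≤ center M ∧ Nat.card M = p * p * Nat.card (H ⊓ H' : Subgroup M) ∧
      ∀ r : M, ∃ i j : ℤ, ∃ d ∈ H ⊓ H', r = w ^ i * w' ^ j * d := by
  have hp := (Fact.out : p.Prime)
  set D := H ⊓ H' with hD
  haveI : D.Normal := inferInstance
  have hidx : ∀ {K : Subgroup M}, Nat.card M = p * Nat.card K → K.index = p := fun {K} hK => by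
    have hi := K.card_mul_index
    rw [hK, mul_comm p] at hi
    exact Nat.eq_of_mul_eq_mul_left Nat.card_pos hi
  have hpow : ∀ {K : Subgroup M} [K.Normal], Nat.card M = p * Nat.card K → ∀ y : M, y ^ p ∈ K :=
    fun {K} _ hK y => by
      rw [← QuotientGroup.eq_one_iff, QuotientGroup.mk_pow]
      have hc : Nat.card (M ⧸ K) = p := hidx hK
      nth_rw 1 [← hc]
      exact pow_card_eq_one'
  have hsup : H ⊔ H' = ⊤ := by
    have h1 : H' < H ⊔ H' := lt_of_le_of_ne le_sup_right fun e => hw2 (e.ge (mem_sup_left hw))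
    refine eq_top_of_le_card _ ?_
    rw [hH']
    exact CfsgLib.MaxClassCube.mul_card_le hM h1
  have hcD : Nat.card H = p * Nat.card D := by
    have h1 := CfsgLib.MaxClassCube.card_map_mul_card_inf_ker' (QuotientGroup.mk' H') H
    rw [QuotientGroup.ker_mk'] at h1
    have h2 : H.map (QuotientGroup.mk' H') = ⊤ := by
      have h3 := congrArg (Subgroup.map (QuotientGroup.mk' H')) hsup
      rw [Subgroup.map_sup, QuotientGroup.map_mk'_self, sup_bot_eq,
        map_top_of_surjective _ (QuotientGroup.mk'_surjective H')] at h3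
      exact h3
    rw [h2, Subgroup.card_top, show Nat.card (M ⧸ H') = p from hidx hH'] at h1
    exact h1.symm
  have hdec : ∀ r : M, ∃ i j : ℤ, ∃ d ∈ D, r = w ^ i * w' ^ j * d := by
    intro r
    obtain ⟨h0, hh0, h1, hh1, hr'⟩ := mem_sup_of_normal_right.1 (hsup.ge (mem_top r))
    have hcD' : Nat.card H' = p * Nat.card D := by
      have e := hH.symm.trans hH'
      rw [← Nat.eq_of_mul_eq_mul_left hp.pos e]
      exact hcD
    obtain ⟨i, hi⟩ := CfsgLib.Fusion.RankThree.exists_zpow_inv_mul_mem hM inf_le_left hcD hw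
      (fun hh => hw2 hh.2) hh0
    obtain ⟨j, hj⟩ := CfsgLib.Fusion.RankThree.exists_zpow_inv_mul_mem hM inf_le_right hcD' hw'
      (fun hh => hw'2 hh.1) hh1
    refine ⟨i, j, ((w' ^ j)⁻¹ * ((w ^ i)⁻¹ * h0) * w' ^ j) * ((w' ^ j)⁻¹ * h1), mul_mem ?_ hj, ?_⟩
    · simpa using (inferInstance : D.Normal).conj_mem _ hi (w' ^ j)⁻¹
    · rw [← hr']; group
  refine ⟨?_, by rw [hH, hcD]; ring, hdec⟩
  -- the characteristic part of `D`
  set Y : Subgroup M := (center D ⊔ frattini D).map D.subtype with hY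
  haveI : (center D ⊔ frattini D).Characteristic := by
    refine characteristic_iff_le_map.2 fun φ => ?_
    rw [Subgroup.map_sup, characteristic_iff_map_eq.1 (inferInstance : (center D).Characteristic) φ,
      characteristic_iff_map_eq.1 (inferInstance : (frattini D).Characteristic) φ]
  haveI : Y.Normal := by rw [hY]; infer_instance
  set π := QuotientGroup.mk' Y with hπ
  have hcen : ∀ {z : M}, z ∈ D → (∀ d ∈ D, z * d = d * z) → z ∈ Y := fun {z} hz hzc =>
    ⟨⟨z, hz⟩, mem_sup_left (mem_center_iff.2 fun d => Subtype.ext (hzc d d.2).symm), rfl⟩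
  have hwp : ∀ {u : M} {K : Subgroup M} [K.Normal], u ∈ K → Nat.card M = p * Nat.card K →
      ∀ {L : Subgroup M} [L.Normal], Nat.card M = p * Nat.card L → (∀ d ∈ K ⊓ L, u * d = d * u) →
      K ⊓ L = D → u ^ p ∈ Y := fun {u K} _ hu hK {L} _ hL hcu hKL => by
    refine hcen ?_ fun d hd => ((show Commute u d from hcu d (hKL ▸ hd)).pow_left p).eq
    rw [← hKL]
    exact ⟨pow_mem hu p, hpow hL u⟩
  have h1 : π ⁅w, w'⁆ = 1 := by
    refine (QuotientGroup.eq_one_iff _).2 (hcen ?_ fun d hd => ?_)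
    · refine ⟨?_, ?_⟩
      · rw [commutatorElement_def, show w * w' * w⁻¹ * w'⁻¹ = w * (w' * w⁻¹ * w'⁻¹) by group]
        exact mul_mem hw ((inferInstance : H.Normal).conj_mem w⁻¹ (H.inv_mem hw) w')
      · rw [commutatorElement_def]
        exact mul_mem ((inferInstance : H'.Normal).conj_mem w' hw' w) (H'.inv_mem hw')
    · have e1 : Commute w d := hc d hd
      have e2 : Commute w' d := hc' d hd
      rw [commutatorElement_def]
      exact (((e1.mul_left e2).mul_left e1.inv_left).mul_left e2.inv_left).eq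
  set g : Set (M ⧸ Y) := {π w, π w'} ∪ (π '' (D : Set M)) with hg
  have hgc : ∀ a ∈ g, ∀ b ∈ g, a * b = b * a := by
    have hww : π w * π w' = π w' * π w := by
      rwa [map_commutatorElement, commutatorElement_eq_one_iff_mul_comm] at h1
    have hD' : ∀ a ∈ D, ∀ b ∈ D, π a * π b = π b * π a := fun a ha b hb => by
      rw [← commutatorElement_eq_one_iff_mul_comm, ← map_commutatorElement]
      refine (QuotientGroup.eq_one_iff _).2 ⟨⁅(⟨a, ha⟩ : D), ⟨b, hb⟩⁆, mem_sup_right ?_, rfl⟩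
      exact CfsgLib.Coprime.commutator_le_frattini (hM.to_subgroup D)
        (commutator_mem_commutator (mem_top _) (mem_top _))
    rintro a ((rfl | rfl) | ⟨a, ha, rfl⟩) b ((rfl | rfl) | ⟨b, hb, rfl⟩)
    · rfl
    · exact hww
    · rw [← map_mul, hc b hb, map_mul]
    · exact hww.symm
    · rfl
    · rw [← map_mul, hc' b hb, map_mul]
    · rw [← map_mul, ← hc a ha, map_mul]
    · rw [← map_mul, ← hc' a ha, map_mul]
    · exact hD' a ha b hb
  have hgp : ∀ a ∈ g, a ^ p = 1 := by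
    rintro a ((rfl | rfl) | ⟨a, ha, rfl⟩) <;> rw [← map_pow] <;> refine (QuotientGroup.eq_one_iff _).2 ?_
    · exact hwp hw hH hH' hc rfl
    · exact hwp hw' hH' hH (fun d hd => hc' d ⟨hd.2, hd.1⟩) (inf_comm H' H)
    · exact ⟨(⟨a, ha⟩ : D) ^ p, mem_sup_right (CfsgLib.Coprime.pow_mem_frattini (hM.to_subgroup D) _), rfl⟩
  have htop : closure g = ⊤ := by
    refine eq_top_iff.2 fun y _ => ?_
    obtain ⟨r, rfl⟩ := QuotientGroup.mk'_surjective Y y
    obtain ⟨i, j, d, hd, rfl⟩ := hdec r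
    rw [map_mul, map_mul, map_zpow, map_zpow]
    exact mul_mem (mul_mem (zpow_mem (Subgroup.subset_closure (show π w ∈ g from Or.inl (Or.inl rfl))) i)
      (zpow_mem (Subgroup.subset_closure (show π w' ∈ g from Or.inl (Or.inr rfl))) j)) (Subgroup.subset_closure (show π d ∈ g from Or.inr ⟨d, hd, rfl⟩))
  haveI hcm := isMulCommutative_closure (k := g) hgc
  have hcomm : ∀ a b : M ⧸ Y, a * b = b * a := fun a b =>
    congrArg Subtype.val (hcm.is_comm.comm (⟨a, htop.ge (mem_top a)⟩ : closure g) ⟨b, htop.ge (mem_top b)⟩)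
  have hexp : ∀ y ∈ closure g, y ^ p = 1 := fun y hy => by
    induction hy using Subgroup.closure_induction with
    | mem x hx => exact hgp x hx
    | one => exact one_pow p
    | mul x z _ _ ex ez => rw [(show Commute x z from hcomm x z).mul_pow, ex, ez, one_mul]
    | inv x _ ex => rw [inv_pow, ex, inv_one]
  have hle : Nat.card (M ⧸ Y) ≤ p ^ 3 := by
    have h2 := card_le_of_section hr Y ⊤ (fun a _ b _ => hcomm a b) fun a _ => hexp a (htop.ge (mem_top a))
    rwa [Subgroup.card_top] at h2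
  have hYD : Y ≤ D := map_subtype_le _
  -- `D` is generated by its centre and one element
  have hcY : Nat.card D ≤ p * Nat.card Y := by
    have e := Subgroup.card_mul_index Y
    rw [index_eq_card, hH, hcD] at e
    have h4 : p * (p * Nat.card D) ≤ p * (p * (p * Nat.card Y)) := by
      rw [← e, show p * (p * (p * Nat.card Y)) = Nat.card Y * p ^ 3 by ring]
      exact Nat.mul_le_mul_left _ hle
    exact Nat.le_of_mul_le_mul_left (Nat.le_of_mul_le_mul_left h4 hp.pos) hp.pos
  have habD : ∀ a b : D, a * b = b * a := by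
    have hcY' : Nat.card Y = Nat.card (center D ⊔ frattini D : Subgroup D) :=
      card_map_of_injective D.subtype_injective
    rw [hcY'] at hcY
    obtain ⟨d₀, hd₀⟩ : ∃ d₀ : D, (center D ⊔ zpowers d₀) = ⊤ := by
      by_cases hall : (center D ⊔ frattini D : Subgroup D) = ⊤
      · exact ⟨1, by rw [zpowers_one_eq_bot, sup_bot_eq]; exact frattini_nongenerating hall⟩
      obtain ⟨d₀, hd₀⟩ := not_forall.1 fun hh : ∀ d, d ∈ (center D ⊔ frattini D : Subgroup D) =>
        hall (eq_top_iff.2 fun d _ => hh d)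
      refine ⟨d₀, frattini_nongenerating ?_⟩
      rw [sup_right_comm]
      refine eq_top_of_le_card _ (hcY.trans ?_)
      exact CfsgLib.MaxClassCube.mul_card_le (hM.to_subgroup D)
        (lt_of_le_of_ne le_sup_left fun e => hd₀ (e.ge (mem_sup_right (mem_zpowers d₀))))
    intro a b
    obtain ⟨u, hu, v, hv, rfl⟩ := mem_sup_of_normal_left.1 (hd₀.ge (mem_top a))
    obtain ⟨u', hu', v', hv', rfl⟩ := mem_sup_of_normal_left.1 (hd₀.ge (mem_top b))
    obtain ⟨k, rfl⟩ := mem_zpowers_iff.1 hv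
    obtain ⟨k', rfl⟩ := mem_zpowers_iff.1 hv'
    have e1 : ∀ x : D, Commute u x := fun x => (mem_center_iff.1 hu x).symm
    have e2 : ∀ x : D, Commute u' x := fun x => (mem_center_iff.1 hu' x).symm
    exact ((e1 _).mul_left ((e2 _).symm.mul_right ((Commute.refl d₀).zpow_zpow k k'))).eq
  intro d hd
  refine mem_center_iff.2 fun r => ?_
  obtain ⟨i, j, d', hd', rfl⟩ := hdec r
  have e1 : Commute w d := hc d hd
  have e2 : Commute w' d := hc' d hd
  have e3 : Commute d' d := congrArg Subtype.val (habD ⟨d', hd'⟩ ⟨d, hd⟩)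
  exact (((e1.zpow_left i).mul_left (e2.zpow_left j)).mul_left e3).eq

variable {G : Type u} [Group G] [Finite G] {E : Subgroup G} [E.Normal] {X : Subgroup (MulAut E)}
  {Γ : Subgroup (MulAut G)}

/-- The axis data of the conjugation by `n` on `E`, with respect to a conjugate by `α`. -/
structure Axis (p : ℕ) (E H : Subgroup G) (n : G) (α : MulAut E) (e w : G) (hw : w ∈ E) : Prop where
  emem : e ∈ E
  w_eq : w = e⁻¹ * (n * e * n⁻¹)
  wH : w ∈ H
  wN : w ∉ img α H
  moved : (α ⟨w, hw⟩ : G) ∉ H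
  central : H ⊓ img α H ≤ center G
  card : Nat.card E = p * p * Nat.card (H ⊓ img α H : Subgroup G)
  dec : ∀ r ∈ E, ∃ i j : ℤ, ∃ d ∈ H ⊓ img α H, r = w ^ i * (α ⟨w, hw⟩ : G) ^ j * d
  act : (α ⟨w, hw⟩ : G)⁻¹ * (n * α ⟨w, hw⟩ * n⁻¹) ∉ H ⊓ img α H

/-- Automorphisms fixing `A` and trivial on the two factors above it. -/
def chainStab {M : Type u} [Group M] (A B : Subgroup M) (hAB : A ≤ B) : Subgroup (MulAut M) where
  carrier := {σ | (∀ a ∈ A, σ a = a) ∧ (∀ b ∈ B, b⁻¹ * σ b ∈ A) ∧ ∀ x, x⁻¹ * σ x ∈ B}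
  one_mem' := ⟨fun a _ => rfl, fun b _ => by simp, fun x => by simp⟩
  mul_mem' := by
    rintro σ τ ⟨s1, s2, s3⟩ ⟨t1, t2, t3⟩
    refine ⟨fun a ha => by rw [MulAut.mul_apply, t1 a ha, s1 a ha], fun b hb => ?_, fun x => ?_⟩
    · have hb' : τ b ∈ B := by simpa using mul_mem hb (hAB (t2 b hb))
      rw [MulAut.mul_apply, show b⁻¹ * σ (τ b) = (b⁻¹ * τ b) * ((τ b)⁻¹ * σ (τ b)) by group]
      exact mul_mem (t2 b hb) (s2 _ hb')
    · rw [MulAut.mul_apply, show x⁻¹ * σ (τ x) = (x⁻¹ * τ x) * ((τ x)⁻¹ * σ (τ x)) by group]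
      exact mul_mem (t3 x) (s3 _)
  inv_mem' := by
    rintro σ ⟨s1, s2, s3⟩
    have key : ∀ x, x⁻¹ * σ⁻¹ x = ((σ⁻¹ x)⁻¹ * σ (σ⁻¹ x))⁻¹ := fun x => by
      rw [MulAut.apply_inv_self]; group
    refine ⟨fun a ha => ?_, fun b hb => ?_, fun x => ?_⟩
    · conv_lhs => rw [← s1 a ha]
      exact MulAut.inv_apply_self M σ a
    · rw [key]
      refine inv_mem (s2 _ ?_)
      have h3 : b⁻¹ * σ⁻¹ b ∈ B := by rw [key]; exact inv_mem (s3 _)
      simpa using mul_mem hb h3
    · rw [key]; exact inv_mem (s3 _)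

theorem isPGroup_chainStab {M : Type u} [Group M] [Finite M] (hM : IsPGroup p M) (A B : Subgroup M) (hAB : A ≤ B) :
    IsPGroup p (chainStab A B hAB) := by
  obtain ⟨n, hn⟩ := hM.exists_card_eq
  rintro ⟨σ, hσ⟩
  have hN : ∀ x : M, x ^ p ^ n = 1 := fun x => hn ▸ pow_card_eq_one'
  have hpw : ∀ (τ : MulAut M) (x : M), τ (x⁻¹ * τ x) = x⁻¹ * τ x → ∀ k : ℕ, (τ ^ k) x = x * (x⁻¹ * τ x) ^ k := by
    intro τ x hx k
    induction k with
    | zero => simp
    | succ k ih =>
      rw [pow_succ', MulAut.mul_apply, ih, map_mul, map_pow, hx, pow_succ', ← mul_assoc, mul_inv_cancel_left]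
  set τ := σ ^ p ^ n with hτ
  have hτm : τ ∈ chainStab A B hAB := pow_mem hσ _
  have hfix : ∀ b ∈ B, τ b = b := fun b hb => by
    rw [hτ, hpw σ b (hσ.1 _ (hσ.2.1 b hb)), hN, mul_one]
  refine ⟨n + n, Subtype.ext (MulEquiv.ext fun x => ?_)⟩
  show (σ ^ p ^ (n + n)) x = x
  rw [pow_add, pow_mul, ← hτ, hpw τ x (hfix _ (hτm.2.2 x)), hN, mul_one]

variable (h : Piv p E X Γ)
include h

/-- An element outside `E` centralizing a normal subgroup of index `p` in `E` gives an axis. -/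
theorem Piv.axis {H : Subgroup G} [H.Normal] (hHE : H ≤ E) (hHc : Nat.card E = p * Nat.card H) {n : G}
    (hn : n ∉ E) (hcn : ∀ y ∈ H, n * y = y * n) {α : MulAut E} (hα : α ∈ X)
    (hαn : α ∉ normalizer ((MulAut.conjNormal (H := E)).range : Set (MulAut E))) :
    ∃ e w, ∃ hw : w ∈ E, Axis p E H n α e w hw := by
  have hp := (Fact.out : p.Prime)
  have hlt : ¬ E ≤ H := fun hle => by
    have := Subgroup.card_le_of_le hle
    have := hp.two_le
    have := Nat.card_pos (α := H)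
    nlinarith
  obtain ⟨e, he, heH⟩ := SetLike.not_le_iff_exists.1 hlt
  set w := e⁻¹ * (n * e * n⁻¹) with hw'
  have hwE : w ∈ E := mul_mem (inv_mem he) ((inferInstance : E.Normal).conj_mem e he n)
  -- the conjugation is trivial on `E / H`
  have hEG : ⁅E, (⊤ : Subgroup G)⁆ ≤ H := by
    haveI : (⁅E, (⊤ : Subgroup G)⁆).Normal := inferInstance
    have hle : H ⊔ ⁅E, (⊤ : Subgroup G)⁆ ≤ E := sup_le hHE (commutator_le_left _ _)
    by_contra hne
    refine hlt (CfsgLib.Fusion.RankThree.le_of_le_sup_commutator h.pgroup ?_)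
    refine (eq_of_le_of_card_ge hle ?_).ge
    rw [hHc]
    exact CfsgLib.MaxClassCube.mul_card_le h.pgroup
      (lt_of_le_of_ne le_sup_left fun e' => hne (le_sup_right.trans e'.ge))
  have hwH : w ∈ H := by
    have h1 := hEG (commutator_mem_commutator (inv_mem he) (mem_top n))
    rwa [commutatorElement_def, inv_inv, mul_assoc (e⁻¹) n e, mul_assoc (e⁻¹), ← hw'] at h1
  have hwc : ∀ y ∈ H, w * y = y * w := by
    intro y hy
    have hy' : e * y * e⁻¹ ∈ H := (inferInstance : H.Normal).conj_mem y hy e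
    have e1 := hcn y hy
    have e2 := hcn _ hy'
    calc w * y = e⁻¹ * (n * e * (n⁻¹ * y * n) * n⁻¹) := by rw [hw']; group
      _ = e⁻¹ * (n * (e * y * e⁻¹) * e * n⁻¹) := by rw [show n⁻¹ * y * n = y from by rw [mul_assoc, ← e1]; group]; group
      _ = y * w := by rw [e2, hw']; group
  -- every commutator with `n` lies in the normal closure of `w`
  have hgen : ∀ K : Subgroup G, (∀ r ∈ E, ∀ k ∈ K, r * k * r⁻¹ ∈ K) → w ∈ K → ∀ r ∈ E,
      r⁻¹ * (n * r * n⁻¹) ∈ K := by
    intro K hK hwK r hr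
    obtain ⟨i, hi⟩ := CfsgLib.Fusion.RankThree.exists_zpow_inv_mul_mem h.pgroup hHE hHc he heH hr
    have hne : n * e * n⁻¹ = e * w := by rw [hw']; group
    have key : ∀ k : ℤ, (e ^ k)⁻¹ * (e * w) ^ k ∈ K := by
      intro k
      induction k using Int.induction_on with
      | zero => simp
      | succ k ih =>
        have h1 := mul_mem (hK _ (inv_mem he) _ ih) hwK
        rw [inv_inv] at h1
        rw [zpow_add_one, zpow_add_one]
        convert h1 using 1
        group
      | pred k ih =>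
        have h1 := hK _ he _ (mul_mem ih (inv_mem hwK))
        rw [zpow_sub_one, zpow_sub_one]
        convert h1 using 1
        group
    set y := (e ^ i)⁻¹ * r with hy
    have hyn := hcn y hi
    have heq : r⁻¹ * (n * r * n⁻¹) = y⁻¹ * ((e ^ i)⁻¹ * (e * w) ^ i) * (y⁻¹)⁻¹ := by
      rw [← hne, conj_zpow]
      calc r⁻¹ * (n * r * n⁻¹) = y⁻¹ * (e ^ i)⁻¹ * (n * e ^ i * (n⁻¹ * (n * y)) * n⁻¹) := by
            rw [hy]; group
        _ = _ := by rw [hyn]; group
    rw [heq]
    exact hK _ (inv_mem (hHE hi)) _ (key i)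
  have hconjH : ∀ r ∈ E, ∀ k ∈ H, r * k * r⁻¹ ∈ H := fun r _ k hk => (inferInstance : H.Normal).conj_mem k hk r
  have hdisp : ∀ r ∈ E, r⁻¹ * (n * r * n⁻¹) ∈ H := hgen H hconjH hwH
  -- a common chain forces the normalizer
  have hmain : ∀ γ : MulAut E, γ ∈ X → γ ∉ normalizer ((MulAut.conjNormal (H := E)).range : Set (MulAut E)) →
      w ∉ img γ H := by
    intro γ hγ hγn hwI
    set β := MulAut.conjNormal (H := E) n with hβ
    set B : Subgroup E := (img γ H).subgroupOf E with hB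
    set A : Subgroup E := (H ⊓ img γ H).subgroupOf E with hA
    have hAB : A ≤ B := fun a ha => (mem_subgroupOf.1 ha).2
    have hβs : β ∈ chainStab A B hAB := by
      refine ⟨fun a ha => Subtype.ext ?_, fun b hb => mem_subgroupOf.2 ⟨?_, ?_⟩, fun x => mem_subgroupOf.2 ?_⟩
      · show n * (a : G) * n⁻¹ = a
        rw [hcn _ (mem_subgroupOf.1 ha).1, mul_inv_cancel_right]
      · exact hdisp b b.2
      · exact hgen _ (fun r hr k hk => img_conj γ hconjH hr hk) hwI b b.2
      · exact hgen _ (fun r hr k hk => img_conj γ hconjH hr hk) hwI x x.2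
    have hfix : ∀ b ∈ B, (γ * β * γ⁻¹) b = b := by
      intro b hb
      obtain ⟨r, hr, hrb⟩ := mem_img.1 (mem_subgroupOf.1 hb)
      have hrb' : γ r = b := Subtype.ext hrb
      rw [MulAut.mul_apply, MulAut.mul_apply, ← hrb', MulAut.inv_apply_self]
      congr 1
      refine Subtype.ext ?_
      show n * (r : G) * n⁻¹ = r
      rw [hcn _ hr, mul_inv_cancel_right]
    have hγs : γ * β * γ⁻¹ ∈ chainStab A B hAB := by
      refine ⟨fun a ha => hfix a (hAB ha), fun b hb => by rw [hfix b hb, inv_mul_cancel]; exact one_mem A,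
        fun x => mem_subgroupOf.2 (mem_img.2 ⟨(γ⁻¹ x)⁻¹ * β (γ⁻¹ x), ?_, ?_⟩)⟩
      · exact hdisp _ (γ⁻¹ x).2
      · rw [map_mul, map_inv, MulAut.apply_inv_self]
        rfl
    set Q := (MulAut.conjNormal (H := E)).range with hQ
    haveI := finite_mulAut E
    haveI : (Cfsg.Inn E).Normal := ⟨fun a ⟨c, hc⟩ g => ⟨g c, by
      rw [← hc]
      refine MulEquiv.ext fun x => ?_
      simp only [MulAut.mul_apply, MulAut.conj_apply, map_mul, map_inv, MulAut.apply_inv_self]⟩⟩
    set P := Cfsg.Inn E ⊔ (chainStab A B hAB ⊓ X) with hP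
    have hPp : IsPGroup p P := IsPGroup.to_sup_of_normal_left
      ((h.pgroup.to_subgroup E).of_surjective (MulAut.conj (G := E)).rangeRestrict (MonoidHom.rangeRestrict_surjective _))
      ((isPGroup_chainStab (h.pgroup.to_subgroup E) A B hAB).to_le inf_le_left)
    have hQP : Q ≤ P := by
      rintro _ ⟨g, rfl⟩
      obtain ⟨i, r, hr, rfl⟩ := h.decomp hn g
      rw [map_mul, map_zpow]
      refine mul_mem (zpow_mem (mem_sup_right (show β ∈ chainStab A B hAB ⊓ X from ⟨hβs, h.qle ⟨n, rfl⟩⟩)) i) (mem_sup_left ⟨⟨r, hr⟩, ?_⟩)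
      exact (MulAut.conjNormal_val (h := (⟨r, hr⟩ : E))).symm
    have hPX : P ≤ X := sup_le (h.inn_le_range.trans h.qle) inf_le_right
    have heq : P = Q := CfsgLib.Fusion.eq_of_le_of_isPGroup_of_not_dvd_relIndex hPp hQP hPX h.sylow
    have hγQ : γ * β * γ⁻¹ ∈ Q := heq ▸ mem_sup_right ⟨hγs,
      X.mul_mem (X.mul_mem hγ (h.qle ⟨n, rfl⟩)) (X.inv_mem hγ)⟩
    refine hγn ?_
    have hsub : Q.map (MulAut.conj γ).toMonoidHom ≤ Q := by
      rintro _ ⟨_, ⟨g, rfl⟩, rfl⟩
      obtain ⟨i, r, hr, rfl⟩ := h.decomp hn g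
      rw [map_mul, map_mul]
      refine mul_mem ?_ (h.inn_le_range ?_)
      · rw [map_zpow, map_zpow]
        exact zpow_mem hγQ i
      · exact (inferInstance : (Cfsg.Inn E).Normal).conj_mem _
          ⟨⟨r, hr⟩, (MulAut.conjNormal_val (h := (⟨r, hr⟩ : E))).symm⟩ γ
    have hQe := eq_of_le_of_card_ge hsub (card_map_of_injective (MulAut.conj γ).injective).ge
    refine mem_normalizer_iff.2 fun y => ⟨fun hy => hQe.le ⟨y, hy, rfl⟩, fun hy => ?_⟩
    obtain ⟨z, hz, hzy⟩ := hQe.ge hy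
    have : z = y := (MulAut.conj γ).injective hzy
    exact this ▸ hz
  have hwN := hmain α hα hαn
  have hmoved : (α ⟨w, hwE⟩ : G) ∉ H := fun hH => hmain α⁻¹ (inv_mem hα) (fun hh => hαn (inv_inv α ▸ inv_mem hh))
    (mem_img.2 ⟨α ⟨w, hwE⟩, hH, by rw [MulAut.inv_apply_self]⟩)
  haveI : (img α H).subgroupOf E |>.Normal := ⟨fun k hk r => mem_subgroupOf.2 (by
    simpa using img_conj α hconjH r.2 (mem_subgroupOf.1 hk))⟩
  haveI : (H.subgroupOf E).Normal := inferInstance
  have hc1 : Nat.card (H.subgroupOf E) = Nat.card H := Nat.card_congr (subgroupOfEquivOfLe hHE).toEquiv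
  have hc2 : Nat.card ((img α H).subgroupOf E) = Nat.card H :=
    (Nat.card_congr (subgroupOfEquivOfLe (img_le α H)).toEquiv).trans (card_img α hHE)
  obtain ⟨hcen, hcard, hdec⟩ := central_of_two_hyperplanes (h.pgroup.to_subgroup E)
    (CfsgLib.Fusion.RankThree.sectional_of_injective h.rank E.subtype E.subtype_injective)
    (H := H.subgroupOf E) (H' := (img α H).subgroupOf E) (by rw [hc1]; exact hHc) (by rw [hc2]; exact hHc)
    (w := ⟨w, hwE⟩) (w' := α ⟨w, hwE⟩) hwH hwN (mem_subgroupOf.2 (mem_img.2 ⟨⟨w, hwE⟩, hwH, rfl⟩)) hmoved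
    (fun d hd => Subtype.ext (hwc d (mem_subgroupOf.1 hd.1)))
    (fun d hd => by
      obtain ⟨r, hr, hrd⟩ := mem_img.1 (mem_subgroupOf.1 hd.2)
      rw [← show α r = d from Subtype.ext hrd, ← map_mul, ← map_mul]
      exact congrArg α (Subtype.ext (hwc r hr)))
  have hcentral : H ⊓ img α H ≤ center G := fun d hd => by
    have hdE : d ∈ E := hHE hd.1
    refine h.mem_center_of hn ((hcn d hd.1).symm) fun r hr => ?_
    exact congrArg Subtype.val (mem_center_iff.1 (hcen (show (⟨d, hdE⟩ : E) ∈ _ ⊓ _ from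
      ⟨mem_subgroupOf.2 hd.1, mem_subgroupOf.2 hd.2⟩)) ⟨r, hr⟩).symm
  have hdec' : ∀ r ∈ E, ∃ i j : ℤ, ∃ d ∈ H ⊓ img α H, r = w ^ i * (α ⟨w, hwE⟩ : G) ^ j * d := by
    intro r hr
    obtain ⟨i, j, d, hd, hrd⟩ := hdec ⟨r, hr⟩
    exact ⟨i, j, d, ⟨mem_subgroupOf.1 hd.1, mem_subgroupOf.1 hd.2⟩, congrArg Subtype.val hrd⟩
  refine ⟨e, w, hwE, he, rfl, hwH, hwN, hmoved, hcentral, ?_, hdec', ?_⟩
  · rw [hcard]
    congr 1
    rw [show (H.subgroupOf E) ⊓ (img α H).subgroupOf E = (H ⊓ img α H).subgroupOf E from rfl]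
    exact Nat.card_congr (subgroupOfEquivOfLe (inf_le_left.trans hHE)).toEquiv
  · intro hact
    set D := H ⊓ img α H
    haveI : D.Normal := CfsgLib.Schur.normal_le_center hcentral
    obtain ⟨i, j, d, hd, hed⟩ := hdec' e he
    refine hwN (?_ : w ∈ D).2
    set π := QuotientGroup.mk' D with hπ
    have h1 : π (n * (α ⟨w, hwE⟩ : G) * n⁻¹) = π (α ⟨w, hwE⟩ : G) :=
      ((QuotientGroup.eq (s := D)).2 hact).symm
    have h2 : n * w * n⁻¹ = w := by rw [hcn w hwH, mul_inv_cancel_right]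
    have h3 : n * d * n⁻¹ = d := by rw [hcn d hd.1, mul_inv_cancel_right]
    have h4 : π (n * e * n⁻¹) = π e := by
      rw [hed, show n * (w ^ i * (α ⟨w, hwE⟩ : G) ^ j * d) * n⁻¹ =
        (n * w ^ i * n⁻¹) * (n * (α ⟨w, hwE⟩ : G) ^ j * n⁻¹) * (n * d * n⁻¹) by group,
        ← conj_zpow, ← conj_zpow, h2, h3, map_mul, map_mul, map_mul, map_mul, map_zpow π (n * _ * n⁻¹), h1, map_zpow]
      simp only [map_zpow]
    refine (QuotientGroup.eq_one_iff w).1 ?_
    show π w = 1
    rw [hw', map_mul, map_inv, h4, inv_mul_cancel]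

end CfsgLib.Fusion.IndexFamily
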